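import Cfsg.Agent.Lib.Cert.O73.Tw
import Cfsg.Agent.Lib.Cert.Lin

set_option autoImplicit false
set_option maxRecDepth 100000

namespace Cfsg.Agent.Ct.O73

open Cfsg.Agent.PC

open Cfsg.Agent.Fi Cfsg.Agent.Ct
def Tf_t : TN := (TN.node (TN.node (TN.node (TN.leaf (nat_lit 0x995653cca2510a6f2a20236b501804c08d359e058ee978ab857c782b3c572b5328610420a002dc13d77572bb4c44a38c33893c417533753b0dcce35444d8271599dc8840ab586e7629b059acf1d16c554959bf110551e181b1549f8889ca6260c9395b52b7d24259587136ae4c0fe183d2a354b81476989fa11780849606628bc5d4b071a0b52e141a564455550c9e334087c3cac2186e5f3e41cd91e641cb0232350283c58a8061fd6cc69681c62100200c040100442334174d6a7f015bc82aafa665390c754ad4a8a7916d2996a9a386a9af811a3ab8eaac8667b3c9dc99a6f44d4d9233438a80e8576bcba5b1122402532872ce92ebb919662d5640b8e3b1c79452baff83485191a89946595e87b9e1a7f85c298e6483c5e0a1510326b12a8c3f9da937dd51f34439a35eb3879c6d0e3477bb1faee75d02b6a48739a4ee48f389c27e59b0dba7b6db6822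5297b59aa359c9ada2d0678ccbd53a4b2a04c8848714c776f30982c05fa957abc922e970b9abad90ab46f89962ab57ab95a1d582aa90a853b157ce8519254332282793a4a214dd289892a5a9e997e11a6a900b509ed1545921125678d456a650c20a3e7086380fa6f6e04a9878621daa1317b9ca66803e1b8420569040d22b33999090831988c2602fb34ba5c2d96a444798220aa5429b62249f27938604c19271448a2c2484b2b04a6c82401f82c7a3c1d8e828361b8e1a8f06712c0c4d178ba962c340a8522813ac88a24a1888db030f87958c60dd1a7c830ba3e0839099e9b26a078381a0c1f0288608038c4d804018080200)) (TN.leaf (nat_lit 0x14a5c401f0d986792311b28b869014ae9d484a3cc48da46c08a0d59b4e498852192699521a402444a2128d9ea86a1f4263b0755070af1b02c8d045a859a6679ea4c582b6d999aceb0e4a8a85e11518c8633c3a84c6236864dea718b39f43c5b84421051d01e383550a70100d47bb60ebc2d004015eaeb9c843f8324e747a5eb958ec9a8be87d029642186c8a4a4a1a5288c916e87870622f332f8eccc23664e26ebaa93906aff28cc157281e96657469db3ea1432b1601545a784a07253034636858ca89b8958aad4d273914409cb957561e65b9c9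a9507b70ba9d8917e06892406b9fe15270baee628475bd03ef226bc1048197c7cfa834da5170083ab052f2d613d8ee3244cfcb8daa440160fe4f066a7564ec8e5c4a59c25966e9aafda6e88a33497059a152948050bbc8e0ca0d724ca362cf5886d113f55f47650d9da0423169cd1a3826498a0aac613e3a8e0ac289a0e375102f05b1a18d9a72a84cf132a3162054c38c60865338208bc100c6028d7a9f2b2d2321e0bd0faa448e81e6a018dead0b096414c173380f293f040c6c0208a968df39091f707a6d10af1e309892d2a7b9409e76472da9668991b1f0114511158392ab581b21710b036d5ad82478439f0d1382d5f508a7136f0dc671d7c89c06212436eae8b47bba165d1c29278d83885452b2a03a4266b549e4ce0ead4da2cd00ea9c1ea522a40500200802bd5d5c0e41a7b8608da4a13ab4e6b5193c8522593512d7f496caba55222c49860b90ab706ab40dca6af099c4dc18c960cf892f7983b59ee2a6caca466973e96f1e))) (TN.node (TN.leaf (nat_lit 0x3248c20ee5c9f9de051f5514a296228da5179f90072ec36199586fa847eaa68039b9288396d69a09e5728a95079e8de4242434a8143b0dc9659272789c32ada93f59a454da4890b7a3161ea72541edc4aa2a474e28f2d05a49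357453a093e06af62a9615838f0fb2738d14c09ca2c3b4067b98421c298249b087c8d80d336abe96a81578a85f0b6e15434fe33854f93c8680802008834e8285480d2029590429f47b9830d26b72bd2d154d14b2cb1470d0b6303e495702af00c8b8c53b7a4664c739b4c56c7126cd6a4e39703097228044dc4e59c25d765f95a32ac806bc74ecf28a4e689098ac5a3529810cabc8273bbcfe72aac5c403a6383dd4648956254f85d058eafbaa3e5fe9a293d6745d8da1e7f0d7623ddc27822d5490e6ec9dc92f9401cfcb343399982a6d0451b1e6b0bd9b5d35ab8cc4056351b9492a945910613298ef5157b05809852af579247f1e8254f9a3a568df0e2c556c268ab59cb00691c781762af9d0a324a8460504f27494427b9597f251bd5d1150a11d2b4ed23362428ba622528f16f56cca6f879c23f0c701f431535c9203cc48e3f1233785ccd02833708462d2081a4564f68212061f9e18437231abccb85b2d112914e4cb2848537b3253e67274c8992c4e288f2a947094b2094d9059e13a18f5503b838506c961c17ab21d889b140d59ed1458686dd2850eb63114a80b111b610633c0cd6460a34f8f8a77ed00723f5c364d505022aa5a230510c10e1028181c0301004015e835716a3f3db9674e7855506935a6bf27091a89c18629a4a81787e433fd1846))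 (TN.leaf (nat_lit 0x2bca041d0943116f1e9e841293b2a0c5a953cea58a495e954c7e51e10477bd0eb618564b0d0027f18d6739904ddd6311b9be32fd16cbe5d2d9fa9510e16b041bec90e225569c9c47d010d062ca35328c1b094098a0350959881806d1d862594616a341c0af9820852ec32b3fe7931a417db10539d102854ab0fc4c8a42ac59874a9cd83a8e4d8e0a66a721c051293dc9ab0da3f1f5bad97d35e50d51f34d88bc6822d9ccd771e427250fa3d7751694056c1e2001c880f68b1836b95c0498434264ea36ef2c9c806ada048930932a9a50d2b214293f5aaea88002490ba134255540a169522aa496060531dd23921b3de323951214cf089570c4818f1fdb8db38b82aecb371aced4e76be15e7c71cccf0208b9ddcaa79f0bc52510d4ed040887becbc3c2e05c5cb0a6d2e00a87ab9aa8652493c4e4d5a24a2c5043d1464945f2314955603cda82a2e8881c8d73cd21c0b5a8cc8d351819cb530160647a6671139e4994e88c770336b2182ea922e8c82ba096e12157b3296e1193af475138e0d5211530afd2306022ba7a014f5794f1301c96b35844d59be827a9de6c6ba78ca9b4ca5c4293481851899448d2ba826d142d976069dce846c8975466b34914c8b32800cde5ae25d40e533085906b5243d4ce0c1f8fc7890498dd0e32b81c8517ed3ae44a234a879750eff93c293108))))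 (TN.node (TN.node (TN.leaf (nat_lit 0xa0861b93e33188155784d3e04d6a92d988a9984c63c3d06164652a89aea02b774044bf111f438912f1dbbe36148bbe2320b118e652739144105203b430f1559cc0d2d5d279be113793c0288e24cd4142fa04460a2d8142543ef25133238be4a2944e8342c96acddac391aefe61069be2d734fc54da5dbd9c736179798ed2570b8801d1abc196554d225a6b262cce96e1261714eee5ed1db328091ea4d34ad9a566c6588840ed1208ccda04990f17ea67625d46f17dd213e5a2727136c97e85d49077a3b4ea8ea704d10922950d16816423c934574a11d50f451e4ff463e856b2b84042ce30d4995e241e3bd32086e55818d6255a0241f3d32880bb3c3095246d431b00b69e960c0e81665180588d7b9420a9d23b04884a43c7c9b420812c564256b3eb521972a23a378a0e0743666d4d592b02961aad06f14c86dba53d5d61c3506e2a2258191e6726709848e00cd0130563e46920b992114ce0d074b62d3b343e55e6c18aa8060200801ee7a3d9252c9fa7ade9b5528b3274b87a5624d563c8b6945954d1daf208a08d88dc40140327d484eea4c33aa682e919a1c540e54986852086911132f5941d29cf65dc8d971ba2c0dc71d8e485f0127fc39e48ca244df46b39a862ebd1f39978c78241dceb18447d92954a461ba362bbee24f98d57a4b29a82fe2c871a3bcf83837bace0a25241a173133479908b3f11da6fea0b6d84d429518c63b6cb7a58d168174da5ea9c893b02714241230a14e5b45f09bcd150d85490e486a8d5c14855a1604d0555abc82ad0eac0494806a9c9a487428dd30f))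 (TN.leaf (nat_lit 0x83c85c104954083c1d8624560fc39be8f65f7b92aa6f479b3de20877bb8f85462959d21373b2dcacd114b1c305aab79badc6db69a0d86b8b4665b8a24926d979339c8cc7326d433863809d64b609a186c08aaf97aa99ecacff185bcf96a4759ac962fd57d092a203785978a8aea9836a451a8992694fa793a056526933094b8415a0e68b49fc9047a38d88c1322aae2186a18c28406d5058805c9f8faed7cc8ca678a91d88c717d9c8e83b559ba808da81a940c20d198542f319490a607c17a1c5c6a16a62582bba8aaec3c9887a0c279389b45623da391d5a1d474442190a4c401f85ca236381162e381b8f06a346ad386347320b9ac8115994533f13a2c4a249cb8d10ac90406001c5299c32181f2a8091674048229607a510650058280ef004cf13815adb1a5e00af280e32c482398a7a6fc2872dc23b7a8ab82c1d490fc6821caf4710d41eecd9fccd59429f0b8c0c89c13674ff27424e5418cc5d5281971dab65912a61c5277a211e45f2245566d7402c418bb8d4c935314648628bf64ba620fe873be18b6aacd606043a03c670828a988b37879b296890a2f4e7446c2764c559232d250d70014fc270ec45d0e76eb95c870942a9dd56a8b9aa62a29b65ed1f1413c7c30692ba94400ad0cf6f12ec4a76915956188864b1b9171355be4071b412569e12858c96920634754a3768ab680be70cc07e1780ac148415102aba9f4f3d4129b8c2225265612e4ac2d7831eb406ac94a2cc03cbed33496192e4a7c5d4be3c7f760f506ccaba283c7796d360cf89a571c61860869fa6b3516cd02f)))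 (TN.leaf (nat_lit 0xa2342223e35bb0ac2a4ec6d4d19504fc1715628b8e945881da83474987df6cca616ab2c241c7e9c7f6c4c9acb08096ea02923945c07d7a42de48e782f040ab81bd60814635714f549a2207b05421785a988b891b4920d3f4803a38b1cf51c054a0d0c49cb2d5b52a554d28b559d2dc2e4313206355413e26d0e73d0c99142fb342c8b6babe1a6e21cbd2011838210a060e2da30bd5127daad119ba534a444b8ca716745629102020849a7e460888add4bd090d1a7b3a9deee5f3f0caeb3e41aac103c37c9ce539c48ba19529bd94b22404a11132503e768d3c98ca8558ecf4ee1e6dc29512c9215e4a41600be8d312813e1ef151b0d9cff12aed5205220dab6617f56a9f2d1bcf13c420e8b159331a0adbc8043a58d2321e270c017018a11e6c2e4e9622640bcce4094c8ee00d4a03e4da184d84e40463201c1c3f5d25646387319ce08a5509c04010039e709343989ef4995c6cd27a9312e606ba68ca9ebe46176b0a65b10d2a8e69be1f820398c0b60485330475d84ca0689d0a2ce0d5197a60c651ab95a1f362854ca43541458b2f2352c874e4ab451e8ff3a4885b1a68c46250e94c4006b8064ee6e182e4c60a317537996888c0209541140482f42acac083196ec81d2913ea0138705e40de233af0793f1c130f5c2e050409e60b482c50a976bafc26bba19d626610fa90933a80ad186a74d319527764b0942246b5305ceb6a224ff0c2251c22ca99479b4f60797c986d468f18a3f64520f2ce3b17982df7298268ed23b1d092e6c0b28a65ae119e0db1c511574b110957500ad95db299))))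
noncomputable def Tf (i : ℕ) : ℕ := get9 Tf_t (nat_lit 9) (nat_lit 511) i
noncomputable def T (j c : ℕ) : ℕ := Tf (Nat.add (Nat.mul j (nat_lit 351)) c)
noncomputable def p0 : ℕ → ℕ := permE T inv (nat_lit 351) (nat_lit 10)
theorem pp0 : Nat.beq (rng p0 (nat_lit 0) (nat_lit 351)) (nat_lit 0) = true := by decide +kernel
theorem hp : ∀ i < 351, p0 i = 0 := by
  have h := zero_lt_zero p0
  have h := zero_lt_add (a := (nat_lit 0)) (n := (nat_lit 351)) (b := (nat_lit 351)) h pp0 rfl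
  exact h
abbrev pt : ℕ → Fin 351 := (finLab 350).pt
noncomputable def pf : ℕ → Equiv.Perm (Fin 351) := (finLab 350).fam T inv
theorem pr : Reps pt 351 pf T 10 ∧ InvOK pf inv 10 := (finLab 350).reps_fam (by decide +kernel) hp
noncomputable def x1 : ℕ → ℕ := relF T rels
theorem yy0 : Nat.beq (rng x1 (nat_lit 0) (nat_lit 351)) (nat_lit 0) = true := by decide +kernel
theorem hy : ∀ i < 351, x1 i = 0 := by
  have h := zero_lt_zero x1
  have h := zero_lt_add (a := (nat_lit 0)) (n := (nat_lit 351)) (b := (nat_lit 351)) h yy0 rfl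
  exact h
theorem rl0 : ∀ w ∈ rels, ev pf w = 1 := rel_of_tab (finLab 350).surj pr.1 (by decide +kernel) hy
abbrev P : Type := ↥(gen pf 10)
noncomputable def al : ℕ → P := PC.sub (gen pf 10) pf
theorem rp : Reps pt 351 al T 10 := (pr.1.mono (by decide)).sub le_rfl
theorem top : gen al 10 = ⊤ := gen_sub_top rfl
def W0_t : TL := (TL.node (TL.node (TL.node (TL.leaf [nat_lit 3, nat_lit 1, nat_lit 2, nat_lit 4, nat_lit 7, nat_lit 0, nat_lit 3, nat_lit 4]) (TL.leaf [nat_lit 6, nat_lit 4, nat_lit 6, nat_lit 1, nat_lit 7, nat_lit 3, nat_lit 1, nat_lit 9, nat_lit 6, nat_lit 7, nat_lit 3, nat_lit 5, nat_lit 9, nat_lit 4, nat_lit 9, nat_lit 2, nat_lit 7, nat_lit 2, nat_lit 9, nat_lit 4, nat_lit 2, nat_lit 1, nat_lit 3, nat_lit 6, nat_lit 8, nat_lit 0, nat_lit 5])) (TL.node (TL.leaf [nat_lit 4, nat_lit 1, nat_lit 8, nat_lit 1, nat_lit 4, nat_lit 6, nat_lit 4, nat_lit 1, nat_lit 5, nat_lit 1, nat_lit 2, nat_lit 1, nat_lit 7, nat_lit 1,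 nat_lit 8, nat_lit 3, nat_lit 1, nat_lit 4, nat_lit 7]) (TL.leaf [nat_lit 6, nat_lit 4, nat_lit 6, nat_lit 1, nat_lit 7, nat_lit 3, nat_lit 1, nat_lit 4, nat_lit 9, nat_lit 2, nat_lit 7, nat_lit 2, nat_lit 9, nat_lit 4, nat_lit 2, nat_lit 1, nat_lit 9, nat_lit 5, nat_lit 8, nat_lit 6, nat_lit 9, nat_lit 3, nat_lit 5, nat_lit 9, nat_lit 6, nat_lit 4, nat_lit 1]))) (TL.node (TL.node (TL.leaf [nat_lit 4, nat_lit 3, nat_lit 0, nat_lit 7, nat_lit 4, nat_lit 2, nat_lit 1, nat_lit 3, nat_lit 4, nat_lit 7, nat_lit 8, nat_lit 0, nat_lit 8, nat_lit 7, nat_lit 4]) (TL.leaf [nat_lit 6, nat_lit 4, nat_lit 6, nat_lit 1, nat_lit 7, nat_lit 3, nat_lit 1, nat_lit 6, nat_lit 4, nat_lit 6, nat_lit 0, nat_lit 8, nat_lit 4, nat_lit 7, nat_lit 3, nat_lit 1, nat_lit 2, nat_lit 5, nat_lit 8, nat_lit 9, nat_lit 2, nat_lit 6, nat_lit 7, nat_lit 2, nat_lit 9])) (TL.leaf [nat_lit 0, nat_lit 7, nat_lit 8, nat_lit 7, nat_lit 5, nat_lit 0, nat_lit 3, nat_lit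 8, nat_lit 7, nat_lit 2, nat_lit 8, nat_lit 0, nat_lit 9, nat_lit 5, nat_lit 1, nat_lit 8, nat_lit 1, nat_lit 6, nat_lit 9, nat_lit 7, nat_lit 1, nat_lit 8, nat_lit 1, nat_lit 7, nat_lit 4, nat_lit 9, nat_lit 2, nat_lit 0, nat_lit 9, nat_lit 3, nat_lit 9, nat_lit 2, nat_lit 9, nat_lit 4])))
noncomputable def W0 (i : ℕ) : List ℕ := TL.get W0_t i
def Q0f_t : TN := (TN.node (TN.node (TN.node (TN.leaf (nat_lit 0x2f8d0260845d598e1a78a9074cc4e462a8bf70266a304653a9db373caddb33e36a0542da1bc4507260b4d88cf69c9c5f5523d844f0ef8f35428013382ccb5e1333a820957d391add54231886e2b16ddc6b1eb90df0c582c870c8878ae58f98b4c9d94717b14504f5b10d7a0a6e23e765882c00e02e4500831459a8ce5aab6fa959e76031507ea9711784a31360a4c010483fd242c0e03e547d614c1b7469d47dfd101086c784565c6e5c8460988a6050200dd06a003645affac189993e93a6c8092a79d51c349d541bd2f738f623435e479869195b1e30e8a9bd1a0daa5051734488262b73b6212d0f577702a5b0ca40691329980e5325126299be420c1c0767805cfe969392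2ce65595d418fe116b576391613a9c6a56602ec788d1b51433467e078915c3311a4735811e626f8a38f8f6505ea71144a6ea9203258cbbcaf55400a15eed184ccc331ad0bd9b03761b87f565c4895a631733a72959632a9afe6a3188e733884c109067c7deb3d89399353772adaa469268ac1a061d2ba68ab1899c466087961029785ad5043224b098304435791e1f4a4764c16a0849d30737c2698a02d38147006e50a9c8452afd070890bf542ea3a3e9ae727bb89e0f164ad0ee64a0174126c2c9b61aac1205cca887981dd6222fb4e14022db6d8af25bca89c532a0822ea21603196558a8550a7e8d9e964a9085465ce415349a20e70a5a28526ab62409f19a304b499e1f61c4f0e9705276941a04caa2241486389b321601c07b8e70be7d9f1ed1a4f550bc210daa162f935904d49d459140a04018dc0200)) (TN.leaf (nat_lit 0xaa8c054e67803c551edd599542eca32568f33f61d756a2da0b729048aaaac66f945cbd02fb8d0692f33373bc4f3a2a361e0013115e253d46984e90831ba97b2d15345904648c51c90b1b4ecce583908260c178be2a43c66478d0705948e6cae0f3585e9a36caa4c947a0401ed903294a73957b5d725986b4ab6ee433a0cad0403e92cfd5b5397d0725bfd525c5437c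42d544560922476828985a3f11e2e7711b52a82984a6e380b0e29d44c24c271c0081cc049456358021cf7af4e01a028ccf07f259950e224e3f8b8fa7656d4d8ec5484d0854f911f16e8522a90d9214636c57473544062501c34d08e9850c0181f668f6574c659353e1b812ee4efe6f24e26bc1a400c032130253a95a4d10d316a6b8880f6288b0be12a1179751f21d728a417e2e19c7179a81e435973b12550a33d54d4a604a10ec601844ba44a5a8c50e1073987618904d60ce3a046eaf3792264288e410742c6644a0ca5595a1d514045084e3aac2dbadcf03860959f0596545923a1bac6087a582789ee562368450f1f0640b569f2fe6329379eebd410f1082eda0e12aaed096aa544e5258b1d70f9e556774d1d40d0f063f1f069266fb4c26c18f839204119bfc603e1a91ddecf98af9488f6b995333a629e0ee37))) (TN.leaf (nat_lit 0x5b81e5c5051a1e285564449dd4e561d8d6ff6faa05cba8d500da9e3aaed3e3b7112d26919dc7451505b4dc8b33222bcff136c0fe73080d381521b2c9dde46881a367a815102a9afc0fa9a32669083a4649433522c1e87d06a2c7a5b007528aab6c911b0317443572b2fc7a2476a91203278bf9895d859cdf0610e4244c6e0b96dac5f9485aa631741b1f441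6c8ac0a043dd25fa20a8b74b7587ca8528da3027a488090aad67089e8365e4653359ca342c335e4361e3f5e0e391d38cc3a2b0d63b291c13a02532090260d0ab9ec980862b784f1567a8820ee254291d1f48a21de7f0d39c9092525050556369bd885d16b9a6a7347c354e90ae90a8e876cc892c5f0f49c528167459d55e93415f09f3cb027f4226882b265312bca0aa5440c27407d1c26d250d8717c970b9e262ec7454cef4d688ed0a15422b0fa1657150429b5d97163396c556b8ada1c0aa0eb389a40cb73a4ea260c940b1471e768f90cf73523212476624eb4890135dfef32b86208c712ad464db800b8b47e8bba55352904320e55501143348a2d31c4838a028171b25d280efc008f57a9aa58fc880f7aae5c275359e8511a8cae81d0e8c319a4497a1b1688a85c3c28f1ad8c276c14cb2d70115b3fa92d346cf8c6a59a4b2794f19ac0a554394c985111cd123864a32fc002a6e099387611888b2fb4a82621331bcb4481d61b50c21f18b219498092ca0d37374e1c92e45bda549d288ac865e3413d78d51799e567c6481408036fc49c0bd739ec5c969a8e5b87198146346e3c254babf85c005af96f82a02975a56c8302))) (TN.node (TN.leaf (nat_lit 0x5ba00a019ac84e47525d18d92984893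29a9d49b9477434634a5c3f139cc813e1524a76cb88a194b04772398b0f2321e48f2043417276184a214dd7b8f912a2af38c707a558e85e9a7a22df917614da634ba53318e16a120a4d167fd4db21583a92ba4a5e1bc51567dd05d1194a148fed371198c8363b9f80e750d3bd472c27512b06da88d244a0623fa126a35ca536da99241e73c86a861c72a297aaea90a480b00d15ac51a232a8f01c845709a7e4d4f479bcf07c17cfa488a9c08435951d15eeaa39e6aa124fa2a4ad46bb29c2e05c4be4f139c19c31506c00a92be9ec743eeba639a38615abc620c366d686f3a3602636ce7ac14cae4121f19eec7d1a065336b420b6f605ace308f568748a200f29d64d1534d1829c8a40cb2bb162d84339a405d330c060c4b46242bb4b88334ba4392d544863e49892c0a6d52241822223000452ac21b02b954278cc3656a73f4ae886dd3d02c89b8401e25030f48f2b6312e8c5402810074055001350e3a541281979998e4e58bcfcba77684290a27ad465e43095d6e3b029c5221b578428ab0bc7e8f8eacd8a5343ef86937a2b55939f082a02750c552864a4d225c092cd5a7f1aaf894d74311dac617d944984b1cbd5774994a9cf4692aa8d6aba40149d6224bb6226e944572487e4c05c5a4d9e909c3202498e94fca7b9a5ec04b39e9895a04191d3120496ba3b1048571124396a78b44f191e0e35cc2e68a67a511549b4103064730f508485944c246c9d83d6606c34fd2def1c6995c471a6a48d621d068548922342b18cae0754da24803ccca101))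 (TN.leaf (nat_lit 0xaa1b6a05f4b22c03581e9feb8709a4a8d05763c4ccf330fac00e76a103642cd28d49e62e6ca4e8e4c9f084eb2c0946157484ab8902887cc804844084ae6a5b5d181553d02558aa8d8216492ea01000074520511c86941c722efc0a819dcdc393d624d21e3ec9e8a6225dd2fe3a1353d272e402ba2f132fe043653998bad65dc5a162a84024649c544397324561be3cbc7932234cb100595a0c61984b41115919bb159c3b0f6584954cf48292d6d468c1c889cc9a7c190774b6553dee9d579591d01634be28b164ba1ec8412ae052f4273c26559a50210a280cadcd89b8c8e01e6e2a1acc6c0971c6527913bb5bd499b3c4fac2432993edb7eaca1a3f05d0298ce8646e1248ad0b647300ea8014a168a5036189fd0df5512290e51103538e8d4e48c294a5244ada0e238eab9aad4660c5ced82f2d1c0b5299cd671131201c2bd9cc14a0050a4dc35224c410263874d6deab30c508d4525383c6af359400543c3f22d12e74d0644af700d58ceb15aad2986531bc25f4a2f146384e5c4ad3a093e0b60f468754a542c9e39a9e10a29c84f4798250c544182c18d31148e5b8d776394a9250ea120b22401707cde3a4189a972020986bd96d71ba1260c7ebd2c9ab8469384e43514c57b1e4469641a215b3f612154a57010d9a4ae29c4687155cc6204ce55b55920c37bbd78cd473919ecb66260228cac8211e379f2f9f6004ad20f0d1179a4e30a5549017013244028d32d552b5343ebad410c4c888f4422791e413638119b460932841aca7c9602b1e93a4ab1179d34094037a10dc6ea199313732))))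
noncomputable def Q0f (i : ℕ) : ℕ := get9 Q0f_t (nat_lit 9) (nat_lit 511) i
noncomputable def Q0 (j c : ℕ) : ℕ := Q0f (Nat.add (Nat.mul j (nat_lit 351)) c)
noncomputable def q0 (j : ℕ) : P := ev al (W0 j)
noncomputable def c0 : ℕ → ℕ := tabE T Q0 W0 (nat_lit 7)
theorem cc0 : Nat.beq (rng c0 (nat_lit 0) (nat_lit 351)) (nat_lit 0) = true := by decide +kernel
theorem hc : ∀ i < 351, c0 i = 0 := by
  have h := zero_lt_zero c0
  have h := zero_lt_add (a := (nat_lit 0)) (n := (nat_lit 351)) (b := (nat_lit 351)) h cc0 rfl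
  exact h
def CV0_t : TN := (TN.leaf (nat_lit 0x2c676a585acaaebadb6e9a69a29218a6a25ba1866762926ba06a98f5923a7586ca247a565d85d721a66a2e8b6a6aaa6b6a72d9aeb64b9bb1b9259aab55860b28a29ba0862a5c8aab2e9718a18de822b5a922b29961b1a89b969bad86dba1974aed92082c9234a8a24ae2aa1a6aa99862bac723da6aeba6e6638e26a58eea29b258eb96682e9207609299a3ad1dae61e96d95e8e4bae6618609b386abaa7609a3b6496eba59549a6a69813bae629965baebada229a6961a6476b6ebb1ab10a60ae9a6dcecaa6b2e9a6a2ebaaba0a21b648a9ae2ae8b6e8298298a58da829968963aab7ac9ac62ea5ea68a2286999cd6bd76b65d6e925958a6caf3bb6d64b5d9a18e33aa0669a8b35))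
noncomputable def CV0 (i : ℕ) : ℕ := get9 CV0_t (nat_lit 6) (nat_lit 63) i
def CV1_t : TN := (TN.leaf (nat_lit 0x2b00000000002c8e50008808800006c00000000000106c000002a0008ad000800000000b4002085a000969000900000000619000b000000008636000006e401aa00000000000b6d02c000000000000000963000a4000000d00000048001daeb00000000001364084000000000002b6650008d800002500000000002c025700025b65021000000a0080000081b02d0000000008ea00000002802180002d02070000000000001a8c0000a0000000092354000061c000640000000000000000ae5698900680021025924960900000000000900a5d74000094000000002b64000002c023000024963880740000800825b2b90081c000000020025723740b00500000023001b51023))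
noncomputable def CV1 (i : ℕ) : ℕ := get9 CV1_t (nat_lit 6) (nat_lit 63) i
def CV2_t : TN := (TN.leaf (nat_lit 0x200000000000220000000000000000000000000000000000000000000200000000000004800000000000230000000000000000009000000000000000000000008c00000000006e00210000000000000008800008c000000000000000002100000000000000000000000000000001901400000000002000000000000001a0000000000210000004c000000000001800000000001b00000002001b00000c0230000000000000000000007000000000240000000000000000000000000000004400009000000000000207000000000000000000188000000000000000240000000100000000000006400000008406dc8d800000000000000001a01c000000000000000000040024))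
noncomputable def CV2 (i : ℕ) : ℕ := get9 CV2_t (nat_lit 6) (nat_lit 63) i
def CV3_t : TN := (TN.leaf (nat_lit 0x2200000000000000000000000000000000000000000000000000000001300000000000088000000000000000000000000000000000000000000000000000000048000000000080001a0000000000000008c00006c000000000000000001900000000000000000000000000000002b0000000000000190000000000000290000000000230000008c000000000002800000000002000000000001800001b020000000000000000000000640000000023000000000000000000000000000000840000ac000000000001100000000000000000001b00000000000000000b000000020000000000000880000000800010600000000000000000000000000000000000000000000001))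
noncomputable def CV3 (i : ℕ) : ℕ := get9 CV3_t (nat_lit 6) (nat_lit 63) i
def CV4_t : TN := (TN.leaf (nat_lit 0x480000000044000000000000000000000000000000000600000000000000000000000000000000000000000000001100000000000000000000000000013904000802400000000000000000000000000000000000000000000000000000000000000000000000000000000a000000000000000000000000000000003400000000020))
noncomputable def CV4 (i : ℕ) : ℕ := get9 CV4_t (nat_lit 5) (nat_lit 31) i
def CV5_t : TN := (TN.leaf (nat_lit 0x800000000000000000000000000000000000000000000000000000000000000000000000000000000000000000000000000000000000000000000000000000000000000000000000000000000000000000000000000000000000008000000000000000000000000000000000000000000600000000000a00000000000000000010000000000000000000000000000000000000000000000000000000000001000))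
noncomputable def CV5 (i : ℕ) : ℕ := get9 CV5_t (nat_lit 6) (nat_lit 63) i
noncomputable def l0 : Lev := ⟨(nat_lit 5), (nat_lit 351), (nat_lit 6), CV0⟩
noncomputable def lt : List Lev := [⟨(nat_lit 4), (nat_lit 126), (nat_lit 5), CV1⟩, ⟨(nat_lit 3), (nat_lit 45), (nat_lit 4), CV2⟩, ⟨(nat_lit 0), (nat_lit 32), (nat_lit 3), CV3⟩, ⟨(nat_lit 1), (nat_lit 12), (nat_lit 1), CV4⟩, ⟨(nat_lit 2), (nat_lit 6), (nat_lit 0), CV5⟩]
theorem ch : Ch pt 351 q0 Q0 7 8 (l0 :: lt) :=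
  ⟨(finLab 350).inj, reps_tabs (rp) (by decide +kernel) hc, by decide +kernel, cardLE_sub (ub10 pr.2 rl0)⟩
def SO_t : TN := (TN.leaf (nat_lit 0x3efffeafbbfbfffebfefafbffbeafafbffafbffabfaebfffaefffffafbfeffbeafffebbfffeafafefffeebeaeffbbfaefffaffeebeebfffebfbffabfafbfffffaabbeeaabfffbabfbffebfeefeabbfbaabaffeeabbbfe6ae))
noncomputable def SO (i : ℕ) : ℕ := get9 SO_t (nat_lit 2) (nat_lit 3) i
def SV_t : TN := (TN.leaf (nat_lit 0x2365481995b8e271c89b6238658a56d949095075b32c71589badc6a596095392095c86475271c46385a92296555841b68d95a71d72385a8e99136a58918e06dda624929226a08d86dc71a85b6239618659554e576345a6d86d96997227586d936451b9588dc96096586366271292b89966395165895c8cc813761623924921865665b284dd9607589228d551291b91d71c91a96585b75d9148219588d5a1b8999646e585162471a61a8dd64b8dd86291852175161c25b6109254214999257255658186dc558964a6075175d7227216e28d969085b75c76372172395d90b6648237549115656a08a391395d90a71d75061d89b95ca986e5660825a9c7658e289b6db6a506d913041))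
noncomputable def SV (i : ℕ) : ℕ := get9 SV_t (nat_lit 6) (nat_lit 63) i
def rt (i : ℕ) : ℕ := Nat.land (Nat.shiftRight (nat_lit 552) (Nat.mul (nat_lit 3) i)) (nat_lit 7)
def sz (i : ℕ) : ℕ := Nat.land (Nat.shiftRight (nat_lit 0xe07e0100) (Nat.mul (nat_lit 8) i)) (nat_lit 255)
noncomputable def s0 : ℕ → ℕ := soE Q0 (nat_lit 6) (nat_lit 351) (nat_lit 8) (nat_lit 3) SV SO rt
theorem ss0 : Nat.beq (rng s0 (nat_lit 0) (nat_lit 351)) (nat_lit 0) = true := by decide +kernel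
theorem hs : ∀ i < 351, s0 i = 0 := by
  have h := zero_lt_zero s0
  have h := zero_lt_add (a := (nat_lit 0)) (n := (nat_lit 351)) (b := (nat_lit 351)) h ss0 rfl
  exact h
theorem hsz : ∀ i ≤ 3, 1 ≤ i → cnt SO i 351 = sz i := by decide +kernel
theorem coatom : IsCoatom (MulAction.stabilizer P (pt 5)) :=
  ch.coatom (by decide +kernel) hs sz hsz (k0 := 1) (by decide +kernel) (by decide +kernel)
def B0 : List ℕ := [nat_lit 5, nat_lit 4, nat_lit 3, nat_lit 0, nat_lit 1, nat_lit 2]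
theorem md0 : Md pt 351 B0 al T 10 := ch.md (rp) rfl
theorem card : Nat.card P = 4585351680 := ch.card
instance : Finite P := ch.fin
def W1_t : TL := (TL.node (TL.node (TL.node (TL.node (TL.leaf [nat_lit 0]) (TL.leaf [nat_lit 8])) (TL.leaf [nat_lit 4])) (TL.node (TL.node (TL.leaf [nat_lit 2]) (TL.leaf [nat_lit 1, nat_lit 2, nat_lit 9, nat_lit 2, nat_lit 9, nat_lit 6, nat_lit 7, nat_lit 6, nat_lit 9, nat_lit 2, nat_lit 6, nat_lit 0, nat_lit 8, nat_lit 0, nat_lit 5, nat_lit 2, nat_lit 8, nat_lit 2, nat_lit 4, nat_lit 5, nat_lit 9, nat_lit 2, nat_lit 6, nat_lit 4])) (TL.leaf [nat_lit 6]))) (TL.node (TL.node (TL.node (TL.leaf [nat_lit 1]) (TL.leaf [nat_lit 9])) (TL.leaf [nat_lit 5])) (TL.node (TL.node (TL.leaf [nat_lit 3]) (TL.leaf [nat_lit 3, nat_lit 1, nat_lit 2, nat_lit 4, nat_lit 7, nat_lit 0, nat_lit 3, nat_lit 4, nat_lit 2, nat_lit 1, nat_lit 3, nat_lit 4, nat_lit 5, nat_lit 4, nat_lit 3, nat_lit 9, nat_lit 5, nat_lit 8,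 nat_lit 6, nat_lit 9, nat_lit 3, nat_lit 6, nat_lit 9, nat_lit 2, nat_lit 7, nat_lit 2, nat_lit 8, nat_lit 2, nat_lit 5, nat_lit 9, nat_lit 2, nat_lit 6, nat_lit 0])) (TL.leaf [nat_lit 7]))))
noncomputable def W1 (i : ℕ) : List ℕ := TL.get W1_t i
def Q1f_t : TN := (TN.node (TN.node (TN.node (TN.node (TN.leaf (nat_lit 0x995653cca2510a6f2a20236b501804c08d359e058ee978ab857c782b3c572b5328610420a002dc13d77572bb4c44a38c33893c417533753b0dcce35444d8271599dc8840ab586e7629b059acf1d16c554959bf110551e181b1549f8889ca6260c9395b52b7d24259587136ae4c0fe183d2a354b81476989fa11780849606628bc5d4b071a0b52e141a564455550c9e334087c3cac2186e5f3e41cd91e641cb0232350283c58a8061fd6cc69681c62100200c040100442334174d6a7f015bc82aafa665390c754ad4a8a7916d2996a9a386a9af811a3ab8eaac8667b3c9dc99a6f44d4d9233438a80e8576bcba5b1122402532872ce92ebb919662d5640b8e3b1c79452baff83485191a89946595e87b9e1a7f85c298e6483c5e0a1510326b12a8c3f9da937dd51f34439a35eb3879c6d0e3477b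b1faee75d02b6a48739a4ee48f389c27e59b0dba7b6db68225297b59aa359c9ada2d0678ccbd53a4b2a04c8848714c776f30982c05fa957abc922e970b9abad90ab46f89962ab57ab95a1d582aa90a853b157ce8519254332282793a4a214dd289892a5a9e997e11a6a900b509ed1545921125678d456a650c20a3e7086380fa6f6e04a9878621daa1317b9ca66803e1b8420569040d22b33999090831988c2602fb34ba5c2d96a444798220aa5429b62249f27938604c19271448a2c2484b2b04a6c82401f82c7a3c1d8e828361b8e1a8f06712c0c4d178ba962c340a8522813ac88a24a1888db030f87958c60dd1a7c830ba3e0839099e9b26a078381a0c1f0288608038c4d804018080200)) (TN.leaf (nat_lit 0x1d4e9b51322ac8a6c0a416ea55933801b69872c792a5a95494453ba52e951024850eb4d68884dc62c34326442465d313b0c463410704182f00e5122420e633a20282d0601ad2ba6a80d3aab199881986eb1f4f4031087d7885271ed6c385514cc09c775f181de0ea6ad5fc0c773cdcc8558b3e28083c07a5ea01b320d64a6fab11e58))) (TN.leaf (nat_lit 0x14a5c401f0d986792311b28b869014ae9d484a3cc48da46c08a0d59b4e498852192699521a402444a2128d9ea86a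1f4263b0755070af1b02c8d045a859a6679ea4c582b6d999aceb0e4a8a85e11518c8633c3a84c6236864dea718b39f43c5b84421051d01e383550a70100d47bb60ebc2d004015eaeb9c843f8324e747a5eb958ec9a8be87d029642186c8a4a4a1a5288c916e87870622f332f8eccc23664e26ebaa93906aff28cc157281e96657469db3ea1432b1601545a784a07253034636858ca89b8958aad4d273914409cb957561e65b9c9a9507b70ba9d8917e06892406b9fe15270baee628475bd03ef226bc1048197c7cfa834da5170083ab052f2d613d8ee3244cfcb8daa440160fe4f066a7564ec8e5c4a59c25966e9aafda6e88a33497059a152948050bbc8e0ca0d724ca362cf5886d113f55f47650d9da0423169cd1a3826498a0aac613e3a8e0ac289a0e375102f05b1a18d9a72a84cf132a3162054c38c60865338208bc100c6028d7a9f2b2d2321e0bd0faa448e81e6a018dead0b096414c173380f293f040c6c0208a968df39091f707a6d10af1e309892d2a7b9409e76472da9668991b1f0114511158392ab581b21710b036d5ad82478439f0d1382d5f508a7136f0dc671d7c89c06212436eae8b47bba165d1c29278d83885452b2a03a4266b549e4ce0ead4da2cd00ea9c1ea522a40500200802bd5d5c0e41a7b8608da4a13ab4e6b5193c8522593512d7f496caba55222c49860b90ab706ab40dca6af099c4dc18c960cf892f7983b59ee2a6caca466973e96f1e)))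 (TN.node (TN.leaf (nat_lit 0x3248c20ee5c9f9de051f5514a296228da5179f90072ec36199586fa847eaa68039b9288396d69a09e5728a95079e8de4242434a8143b0dc9659272789c32ada93f59a454da4890b7a3161ea72541edc4aa2a474e28f2d05a49357453a093e06af62a9615838f0fb2738d14c09ca2c3b4067b98421c298249b087c8d80d336abe96a81578a85f0b6e15434fe33854f93c8680802008834e8285480d2029590429f47b9830d26b72bd2d154d14b2cb1470d0b6303e495702af00c8b8c53b7a4664c739b4c56c7126cd6a4e39703097228044dc4e59c25d765f95a32ac806bc74ecf28a4e689098ac5a3529810cabc8273bbcfe72aac5c403a6383dd4648956254f85d058eafbaa3e5fe9a293d6745d8da1e7f0d7623ddc27822d5490e6ec9dc92f9401cfcb343399982a6d0451b1e6b0bd9b5d35ab8cc4056351b9492a945910613298ef5157b05809852af579247f1e8254f9a3a568df0e2c556c268ab59cb00691c781762af9d0a324a8460504f27494427b9597f251bd5d1150a11d2b4ed23362428ba622528f16f56cca6f879c23f0c701f431535c9203cc48e3f1233785ccd02833708462d2081a4564f68212061f9e18437231abccb85b2d112914e4cb2848537b3253e67274c8992c4e288f2a947094b2094d9059e13a18f5503b838506c961c17ab21d889b140d59ed1458686dd2850eb63114a80b111b610633c0cd6460a34f8f8a77ed00723f5c364d505022aa5a230510c10e1028181c0301004015e835716a3f3db9674e7855506935a6bf27091a89c18629a4a81787e433fd1846))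 (TN.leaf (nat_lit 0xa036e1ab467b8d129bae4f25634618a1fe3c62d5c82f9a7392aa4d83825d855a63b5cb20a7c552100961aa3f4d4d4e4e621634e03e85231d1985da0c5d16d42c9ea4d04aa2d485353d9227e2b5127eba7c4797abca041d0943116f1e9e841293b2a0c5a953cea58a495e954c7e51e10477bd0eb618564b0d0027f18d6739904ddd6311b9be32fd16cbe5d2d9fa9510e16b041bec90e225569c9c47d010d062ca35328c1b094098a0350959881806d1d862594616a341c0af9820852ec32b3fe7931a417db10539d102854ab0fc4c8a42ac59874a9cd83a8e4d8e0a66a721c051293dc9ab0da3f1f5bad97d35e50d51f34d88bc6822d9ccd771e427250fa3d7751694056c1e2001c880f68b1836b95c0498434264ea36ef2c9c806ada048930932a9a50d2b214293f5aaea88002490ba134255540a169522aa496060531dd23921b3de323951214cf089570c4818f1fdb8db38b82aecb371aced4e76be15e7c71cccf0208b9ddcaa79f0bc52510d4ed040887becbc3c2e05c5cb0a6d2e00a87ab9aa8652493c4e4d5a24a2c5043d1464945f2314955603cda82a2e8881c8d73cd21c0b5a8cc8d351819cb530160647a6671139e4994e88c770336b2182ea922e8c82ba096e12157b3296e1193af475138e0d5211530afd2306022ba7a014f5794f1301c96b35844d59be827a9de6c6ba78ca9b4ca5c4293481851899448d2ba826d142d976069dce846c8975466b34914c8b32800cde5ae25d40e533085906b5243d4ce0c1f8fc7890498dd0e32b81c8517ed3ae44a234a879750eff93c293108))))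 (TN.node (TN.node (TN.leaf (nat_lit 0xa0861b93e33188155784d3e04d6a92d988a9984c63c3d06164652a89aea02b774044bf111f438912f1dbbe36148bbe2320b118e652739144105203b430f1559cc0d2d5d279be113793c0288e24cd4142fa04460a2d8142543ef25133238be4a2944e8342c96acddac391aefe61069be2d734fc54da5dbd9c736179798ed2570b8801d1abc196554d225a6b262cce96e1261714eee5ed1db328091ea4d34ad9a566c6588840ed1208ccda04990f17ea67625d46f17dd213e5a2727136c97e85d49077a3b4ea8ea704d10922950d16816423c934574a11d50f451e4ff463e856b2b84042ce30d4995e241e3bd32086e55818d6255a0241f3d32880bb3c3095246d431b00b69e960c0e81665180588d7b9420a9d23b04884a43c7c9b420812c564256b3eb521972a23a378a0e0743666d4d592b02961aad06f14c86dba53d5d61c3506e2a2258191e6726709848e00cd0130563e46920b992114ce0d074b62d3b343e55e6c18aa8060200801ee7a3d9252c9fa7ade9b5528b3274b87a5624d563c8b6945954d1daf208a08d88dc40140327d484eea4c33aa682e919a1c540e54986852086911132f5941d29cf65dc8d971ba2c0dc71d8e485f0127fc39e48ca244df46b39a862ebd1f39978c78241dceb18447d92954a461ba362bbee24f98d57a4b29a82fe2c871a3bcf83837bace0a25241a173133479908b3f11da6fea0b6d84d429518c63b6cb7a58d168174da5ea9c893b02714241230a14e5b45f09bcd150d85490e486a8d5c14855a1604d0555abc82ad0eac0494806a9c9a487428dd30f))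 (TN.leaf (nat_lit 0x83c85c104954083c1d8624560fc39be8f65f7b92aa6f479b3de20877bb8f85462959d21373b2dcacd114b1c305aab79badc6db69a0d86b8b4665b8a24926d979339c8cc7326d433863809d64b609a186c08aaf97aa99ecacff185bcf96a4759ac962fd57d092a203785978a8aea9836a451a8992694fa793a056526933094b8415a0e68b49fc9047a38d88c1322aae2186a18c28406d5058805c9f8faed7cc8ca678a91d88c717d9c8e83b559ba808da81a940c20d198542f319490a607c17a1c5c6a16a62582bba8aaec3c9887a0c279389b45623da391d5a1d474442190a4c401f85ca236381162e381b8f06a346ad386347320b9ac8115994533f13a2c4a249cb8d10ac90406001c5299c32181f2a8091674048229607a510650058280ef004cf13815adb1a5e00af280e32c482398a7a6fc2872dc23b7a8ab82c1d490fc6821caf4710d41eecd9fccd59429f0b8c0c89c13674ff27424e5418cc5d5281971dab65912a61c5277a211e45f2245566d7402c418bb8d4c935314648628bf64ba620fe873be18b6aacd606043a03c670828a988b37879b296890a2f4e7446c2764c559232d250d70014fc270ec45d0e76eb95c870942a9dd56a8b9aa62a29b65ed1f1413c7c30692ba94400ad0cf6f12ec4a76915956188864b1b9171355be4071b412569e12858c96920634754a3768ab680be70cc07e1780ac148415102aba9f4f3d4129b8c2225265612e4ac2d7831eb406ac94a2cc03cbed33496192e4a7c5d4be3c7f760f506ccaba283c7796d360cf89a571c61860869fa6b3516cd02f)))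 (TN.node (TN.leaf (nat_lit 0xa2342223e35bb0ac2a4ec6d4d19504fc1715628b8e945881da83474987df6cca616ab2c241c7e9c7f6c4c9acb08096ea02923945c07d7a42de48e782f040ab81bd60814635714f549a2207b05421785a988b891b4920d3f4803a38b1cf51c054a0d0c49cb2d5b52a554d28b559d2dc2e4313206355413e26d0e73d0c99142fb342c8b6babe1a6e21cbd2011838210a060e2da30bd5127daad119ba534a444b8ca716745629102020849a7e460888add4bd090d1a7b3a9deee5f3f0caeb3e41aac103c37c9ce539c48ba19529bd94b22404a11132503e768d3c98ca8558ecf4ee1e6dc29512c9215e4a41600be8d312813e1ef151b0d9cff12aed5205220dab6617f56a9f2d1bcf13c420e8b159331a0adbc8043a58d2321e270c017018a11e6c2e4e9622640bcce4094c8ee00d4a03e4da184d84e40463201c1c3f5d25646387319ce08a5509c04010039e709343989ef4995c6cd27a9312e606ba68ca9ebe46176b0a65b10d2a8e69be1f820398c0b60485330475d84ca0689d0a2ce0d5197a60c651ab95a1f362854ca43541458b2f2352c874e4ab451e8ff3a4885b1a68c46250e94c4006b8064ee6e182e4c60a317537996888c0209541140482f42acac083196ec81d2913ea0138705e40de233af0793f1c130f5c2e050409e60b482c50a976bafc26bba19d626610fa90933a80ad186a74d319527764b0942246b5305ceb6a224ff0c2251c22ca99479b4f60797c986d468f18a3f64520f2ce3b17982df7298268ed23b1d092e6c0b28a65ae119e0db1c511574b110957500ad95db299))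 (TN.leaf (nat_lit 0x669c0de947eb704e31a782552b3572ece2483fc768ef26c3fd031b568e4226e6ca4df1286280808e41586e52e02e481048017afe808648b107e925522c0b512cd4212a7a2a6d7a3b694d5e8c25143946969627ea8f147224a8658c11e6f039b5705546219a4171c192704aa12612560528ba6a692d0c55e3efb1c31d94d72ec1433216ece6707a1e2be2b2416d2cc3426a1f50f1a2b3a9ed0d5c1f1a67e5b8858c2e68a29d8c185075c42374850f6de95bf13264780d5ef230fc2d6c500bcf1aaa5ac39cf24f661d4d907333e86e627a9b420123b2e5c2ce891792eab99d253c152fcba7c6346a227e1aab3a1da28534001e57a993548f923098e5261a035084b204ca8220209d22c445e8a42a3600b2a9075854200e40020b5e8f74ed60fc00989b092ada249cc0339d2102d475f3c43cfe434dd54a708488a6e62387118bf2e27960f5923a414507919978d6068c190379a34eb4632bc26206f64be84e8d18a8c1f5979bacb5113fd41b298179e010d18d56e945f7808a3ac0072e59ade8e0c89c6da3515b11e1186236af09985ba814744d153b5748e1ec46932cce779b2c4dd4b414b966ac8b0b228710612aa28843a8217061c3b96d121535d525280b06ac1455a0c5cfb25b0823054e54c6af8af3a806541dd09b44f0da55f925340f87f525210e872f3eca9c46453465fb186ab40d6969696e1825814c848e89f189be1290b8072bb1d1582ea13b4a150061eae098b71007405490cca4f33d4a1604c9252c3a660b3286a06916e014d27228a4d2eef9831dc299382c974457b339ce80)))))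
noncomputable def Q1f (i : ℕ) : ℕ := get9 Q1f_t (nat_lit 9) (nat_lit 511) i
noncomputable def Q1 (j c : ℕ) : ℕ := Q1f (Nat.add (Nat.mul j (nat_lit 351)) c)
def V1_t : TL := (TL.node (TL.node (TL.node (TL.node (TL.leaf [nat_lit 10, nat_lit 11, nat_lit 10, nat_lit 11, nat_lit 10, nat_lit 10, nat_lit 11, nat_lit 11, nat_lit 11, nat_lit 11, nat_lit 11, nat_lit 11, nat_lit 11, nat_lit 11, nat_lit 11, nat_lit 11, nat_lit 11, nat_lit 11, nat_lit 11, nat_lit 11, nat_lit 11, nat_lit 11, nat_lit 11, nat_lit 11, nat_lit 11, nat_lit 11, nat_lit 11, nat_lit 11, nat_lit 11, nat_lit 11, nat_lit 11, nat_lit 11, nat_lit 11, nat_lit 11, nat_lit 11, nat_lit 11, nat_lit 11, nat_lit 11, nat_lit 11, nat_lit 11, nat_lit 11, nat_lit 11, nat_lit 10, nat_lit 10, nat_lit 10, nat_lit 10, nat_lit 10, nat_lit 10, nat_lit 10, nat_lit 10, nat_lit 10, nat_lit 10, nat_lit 10, nat_lit 10, nat_lit 11, nat_lit 11, nat_lit 11, nat_lit 11, nat_lit 11, nat_lit 11,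 nat_lit 11, nat_lit 11, nat_lit 11, nat_lit 11, nat_lit 11, nat_lit 11, nat_lit 11, nat_lit 11, nat_lit 11, nat_lit 11, nat_lit 11, nat_lit 11, nat_lit 11, nat_lit 11, nat_lit 11, nat_lit 11, nat_lit 11, nat_lit 11, nat_lit 11, nat_lit 11, nat_lit 11, nat_lit 11, nat_lit 11, nat_lit 11, nat_lit 11, nat_lit 11, nat_lit 11, nat_lit 11, nat_lit 11, nat_lit 11, nat_lit 11, nat_lit 11, nat_lit 11, nat_lit 11, nat_lit 11, nat_lit 11, nat_lit 11, nat_lit 11, nat_lit 11, nat_lit 11, nat_lit 11, nat_lit 11, nat_lit 11, nat_lit 11, nat_lit 11, nat_lit 11, nat_lit 11, nat_lit 11, nat_lit 11, nat_lit 11, nat_lit 11, nat_lit 11, nat_lit 11, nat_lit 11, nat_lit 10, nat_lit 10, nat_lit 10, nat_lit 10, nat_lit 10, nat_lit 10, nat_lit 10, nat_lit 10, nat_lit 10, nat_lit 10, nat_lit 10, nat_lit 10, nat_lit 10, nat_lit 10, nat_lit 10, nat_lit 10, nat_lit 10, nat_lit 10, nat_lit 10, nat_lit 10, nat_lit 10, nat_lit 10, nat_lit 10, nat_lit 10, nat_lit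 10, nat_lit 10, nat_lit 10, nat_lit 10, nat_lit 10, nat_lit 10, nat_lit 10, nat_lit 10, nat_lit 10, nat_lit 10, nat_lit 10, nat_lit 10, nat_lit 11, nat_lit 11, nat_lit 11, nat_lit 11, nat_lit 11, nat_lit 11, nat_lit 11, nat_lit 11, nat_lit 11, nat_lit 11, nat_lit 11, nat_lit 11, nat_lit 10, nat_lit 11, nat_lit 11, nat_lit 11, nat_lit 11, nat_lit 11, nat_lit 11, nat_lit 11, nat_lit 11, nat_lit 11, nat_lit 11, nat_lit 11, nat_lit 11, nat_lit 10, nat_lit 10, nat_lit 10, nat_lit 10, nat_lit 10, nat_lit 10, nat_lit 10, nat_lit 10, nat_lit 10, nat_lit 10, nat_lit 10, nat_lit 10, nat_lit 10, nat_lit 10, nat_lit 10, nat_lit 10, nat_lit 10, nat_lit 10, nat_lit 10, nat_lit 10, nat_lit 10, nat_lit 10, nat_lit 10, nat_lit 10, nat_lit 11, nat_lit 10, nat_lit 11, nat_lit 11, nat_lit 11, nat_lit 11, nat_lit 11, nat_lit 11, nat_lit 11, nat_lit 11, nat_lit 11, nat_lit 11, nat_lit 11, nat_lit 11, nat_lit 10, nat_lit 11, nat_lit 11, nat_lit 10,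 nat_lit 10, nat_lit 11, nat_lit 11, nat_lit 11, nat_lit 11, nat_lit 11, nat_lit 11, nat_lit 11, nat_lit 11, nat_lit 11, nat_lit 11, nat_lit 11, nat_lit 11, nat_lit 10, nat_lit 10, nat_lit 10, nat_lit 10, nat_lit 10, nat_lit 10, nat_lit 10, nat_lit 10, nat_lit 10, nat_lit 10, nat_lit 10, nat_lit 10, nat_lit 10, nat_lit 10, nat_lit 10, nat_lit 10, nat_lit 10, nat_lit 10, nat_lit 10, nat_lit 10, nat_lit 10, nat_lit 10, nat_lit 10, nat_lit 10, nat_lit 10, nat_lit 10, nat_lit 10, nat_lit 10, nat_lit 10, nat_lit 10, nat_lit 10, nat_lit 10, nat_lit 10, nat_lit 10, nat_lit 10, nat_lit 10, nat_lit 11, nat_lit 11, nat_lit 11, nat_lit 11, nat_lit 11, nat_lit 11, nat_lit 11, nat_lit 11, nat_lit 11, nat_lit 11, nat_lit 11, nat_lit 11, nat_lit 10, nat_lit 10, nat_lit 10, nat_lit 10, nat_lit 10, nat_lit 10, nat_lit 10, nat_lit 10, nat_lit 10, nat_lit 10, nat_lit 10, nat_lit 10, nat_lit 11, nat_lit 11, nat_lit 11, nat_lit 10, nat_lit 11, nat_lit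 10, nat_lit 10, nat_lit 10, nat_lit 10, nat_lit 10, nat_lit 10, nat_lit 10, nat_lit 10, nat_lit 10, nat_lit 10, nat_lit 10, nat_lit 10, nat_lit 11, nat_lit 11, nat_lit 11, nat_lit 11, nat_lit 11, nat_lit 11, nat_lit 11, nat_lit 11, nat_lit 11, nat_lit 11, nat_lit 11, nat_lit 11, nat_lit 10, nat_lit 10, nat_lit 10, nat_lit 10, nat_lit 10, nat_lit 10, nat_lit 10, nat_lit 10, nat_lit 10, nat_lit 10, nat_lit 10, nat_lit 10, nat_lit 11, nat_lit 11, nat_lit 11, nat_lit 11, nat_lit 11, nat_lit 11, nat_lit 11, nat_lit 11, nat_lit 11, nat_lit 11, nat_lit 11, nat_lit 11]) (TL.leaf [nat_lit 10, nat_lit 10, nat_lit 10, nat_lit 10, nat_lit 10, nat_lit 10, nat_lit 10, nat_lit 10, nat_lit 10, nat_lit 10, nat_lit 10, nat_lit 10, nat_lit 10, nat_lit 10, nat_lit 10, nat_lit 10, nat_lit 10, nat_lit 10, nat_lit 10, nat_lit 10, nat_lit 10, nat_lit 10, nat_lit 10, nat_lit 10, nat_lit 11, nat_lit 10, nat_lit 10, nat_lit 10, nat_lit 10, nat_lit 10,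 nat_lit 10, nat_lit 10, nat_lit 10, nat_lit 10, nat_lit 10, nat_lit 10, nat_lit 10, nat_lit 11, nat_lit 10, nat_lit 10, nat_lit 10, nat_lit 10, nat_lit 10, nat_lit 10, nat_lit 10, nat_lit 10, nat_lit 10, nat_lit 10, nat_lit 10, nat_lit 10, nat_lit 11, nat_lit 11, nat_lit 11, nat_lit 11, nat_lit 11, nat_lit 11, nat_lit 11, nat_lit 11, nat_lit 11, nat_lit 11, nat_lit 11, nat_lit 11, nat_lit 10, nat_lit 11, nat_lit 10, nat_lit 10, nat_lit 11, nat_lit 10, nat_lit 10, nat_lit 10, nat_lit 10, nat_lit 10, nat_lit 10, nat_lit 10, nat_lit 10, nat_lit 10, nat_lit 10, nat_lit 10, nat_lit 10, nat_lit 10, nat_lit 10, nat_lit 10, nat_lit 10, nat_lit 10, nat_lit 10, nat_lit 10, nat_lit 10, nat_lit 10, nat_lit 10, nat_lit 10, nat_lit 10, nat_lit 11, nat_lit 11, nat_lit 11, nat_lit 11, nat_lit 11, nat_lit 11, nat_lit 11, nat_lit 11, nat_lit 11, nat_lit 11, nat_lit 11, nat_lit 11, nat_lit 10, nat_lit 10, nat_lit 11, nat_lit 11, nat_lit 11, nat_lit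 11, nat_lit 11, nat_lit 11, nat_lit 11, nat_lit 11, nat_lit 11, nat_lit 11, nat_lit 11, nat_lit 11, nat_lit 11, nat_lit 11, nat_lit 11, nat_lit 11, nat_lit 11, nat_lit 11, nat_lit 11, nat_lit 11, nat_lit 11, nat_lit 11, nat_lit 11, nat_lit 11, nat_lit 10, nat_lit 10, nat_lit 11, nat_lit 11, nat_lit 10, nat_lit 11, nat_lit 11, nat_lit 11, nat_lit 11, nat_lit 11, nat_lit 11, nat_lit 11, nat_lit 11, nat_lit 11, nat_lit 11, nat_lit 11, nat_lit 11, nat_lit 10, nat_lit 11, nat_lit 11, nat_lit 11, nat_lit 11, nat_lit 11, nat_lit 11, nat_lit 11, nat_lit 11, nat_lit 11, nat_lit 11, nat_lit 11, nat_lit 11, nat_lit 10, nat_lit 10, nat_lit 11, nat_lit 11, nat_lit 11, nat_lit 11, nat_lit 11, nat_lit 11, nat_lit 11, nat_lit 11, nat_lit 11, nat_lit 11, nat_lit 11, nat_lit 11, nat_lit 11, nat_lit 11, nat_lit 11, nat_lit 11, nat_lit 11, nat_lit 11, nat_lit 11, nat_lit 11, nat_lit 11, nat_lit 11, nat_lit 11, nat_lit 11, nat_lit 11, nat_lit 11,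 nat_lit 11, nat_lit 11, nat_lit 11, nat_lit 11, nat_lit 11, nat_lit 11, nat_lit 11, nat_lit 11, nat_lit 11, nat_lit 11, nat_lit 11, nat_lit 11, nat_lit 11, nat_lit 11, nat_lit 11, nat_lit 11, nat_lit 11, nat_lit 11, nat_lit 11, nat_lit 11, nat_lit 11, nat_lit 11, nat_lit 10, nat_lit 10, nat_lit 10, nat_lit 10, nat_lit 10, nat_lit 10, nat_lit 10, nat_lit 10, nat_lit 10, nat_lit 10, nat_lit 10, nat_lit 10, nat_lit 11, nat_lit 11, nat_lit 11, nat_lit 11, nat_lit 11, nat_lit 11, nat_lit 11, nat_lit 11, nat_lit 11, nat_lit 11, nat_lit 11, nat_lit 11, nat_lit 10, nat_lit 10, nat_lit 10, nat_lit 10, nat_lit 10, nat_lit 10, nat_lit 10, nat_lit 10, nat_lit 10, nat_lit 10, nat_lit 10, nat_lit 10, nat_lit 11, nat_lit 10, nat_lit 11, nat_lit 11, nat_lit 11, nat_lit 11, nat_lit 11, nat_lit 11, nat_lit 11, nat_lit 11, nat_lit 11, nat_lit 11, nat_lit 11, nat_lit 11, nat_lit 10, nat_lit 10, nat_lit 11, nat_lit 11, nat_lit 11, nat_lit 11, nat_lit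 11, nat_lit 11, nat_lit 11, nat_lit 11, nat_lit 11, nat_lit 11, nat_lit 11, nat_lit 11, nat_lit 10, nat_lit 11, nat_lit 11, nat_lit 11, nat_lit 11, nat_lit 11, nat_lit 11, nat_lit 11, nat_lit 11, nat_lit 11, nat_lit 11, nat_lit 11, nat_lit 11, nat_lit 10, nat_lit 11, nat_lit 11, nat_lit 11, nat_lit 11, nat_lit 11, nat_lit 11, nat_lit 11, nat_lit 11, nat_lit 11, nat_lit 11, nat_lit 11, nat_lit 11, nat_lit 10, nat_lit 10, nat_lit 10, nat_lit 10, nat_lit 10, nat_lit 10, nat_lit 10, nat_lit 10, nat_lit 10, nat_lit 10, nat_lit 10, nat_lit 10])) (TL.leaf [nat_lit 10, nat_lit 10, nat_lit 10, nat_lit 10, nat_lit 10, nat_lit 10, nat_lit 10, nat_lit 10, nat_lit 10, nat_lit 10, nat_lit 10, nat_lit 10, nat_lit 11, nat_lit 10, nat_lit 11, nat_lit 10, nat_lit 10, nat_lit 10, nat_lit 10, nat_lit 10, nat_lit 10, nat_lit 10, nat_lit 10, nat_lit 10, nat_lit 10, nat_lit 10, nat_lit 10, nat_lit 11, nat_lit 11, nat_lit 11, nat_lit 11, nat_lit 11,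 nat_lit 11, nat_lit 11, nat_lit 11, nat_lit 11, nat_lit 11, nat_lit 11, nat_lit 11, nat_lit 11, nat_lit 11, nat_lit 11, nat_lit 11, nat_lit 11, nat_lit 11, nat_lit 11, nat_lit 11, nat_lit 11, nat_lit 11, nat_lit 11, nat_lit 11, nat_lit 10, nat_lit 10, nat_lit 11, nat_lit 11, nat_lit 11, nat_lit 11, nat_lit 11, nat_lit 11, nat_lit 11, nat_lit 11, nat_lit 11, nat_lit 11, nat_lit 11, nat_lit 11, nat_lit 10, nat_lit 10, nat_lit 10, nat_lit 10, nat_lit 10, nat_lit 10, nat_lit 10, nat_lit 10, nat_lit 10, nat_lit 10, nat_lit 10, nat_lit 10, nat_lit 11, nat_lit 11, nat_lit 11, nat_lit 11, nat_lit 11, nat_lit 11, nat_lit 11, nat_lit 11, nat_lit 11, nat_lit 11, nat_lit 11, nat_lit 11, nat_lit 10, nat_lit 10, nat_lit 10, nat_lit 10, nat_lit 10, nat_lit 10, nat_lit 10, nat_lit 10, nat_lit 10, nat_lit 10, nat_lit 10, nat_lit 10, nat_lit 11, nat_lit 11, nat_lit 11, nat_lit 11, nat_lit 11, nat_lit 11, nat_lit 11, nat_lit 11, nat_lit 11, nat_lit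 11, nat_lit 11, nat_lit 11, nat_lit 10, nat_lit 10, nat_lit 10, nat_lit 10, nat_lit 10, nat_lit 10, nat_lit 10, nat_lit 10, nat_lit 10, nat_lit 10, nat_lit 10, nat_lit 10, nat_lit 10, nat_lit 10, nat_lit 10, nat_lit 10, nat_lit 10, nat_lit 10, nat_lit 10, nat_lit 10, nat_lit 10, nat_lit 10, nat_lit 10, nat_lit 10, nat_lit 11, nat_lit 11, nat_lit 11, nat_lit 11, nat_lit 11, nat_lit 11, nat_lit 11, nat_lit 11, nat_lit 11, nat_lit 11, nat_lit 11, nat_lit 11, nat_lit 11, nat_lit 11, nat_lit 11, nat_lit 11, nat_lit 11, nat_lit 11, nat_lit 11, nat_lit 11, nat_lit 11, nat_lit 11, nat_lit 11, nat_lit 11, nat_lit 10, nat_lit 10, nat_lit 10, nat_lit 11, nat_lit 11, nat_lit 10, nat_lit 10, nat_lit 10, nat_lit 10, nat_lit 10, nat_lit 10, nat_lit 10, nat_lit 10, nat_lit 10, nat_lit 10, nat_lit 10, nat_lit 10, nat_lit 10, nat_lit 10, nat_lit 10, nat_lit 10, nat_lit 10, nat_lit 10, nat_lit 10, nat_lit 10, nat_lit 10, nat_lit 10, nat_lit 10,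 nat_lit 10, nat_lit 11, nat_lit 11, nat_lit 11, nat_lit 11, nat_lit 11, nat_lit 11, nat_lit 11, nat_lit 11, nat_lit 11, nat_lit 11, nat_lit 11, nat_lit 11, nat_lit 10, nat_lit 11, nat_lit 11, nat_lit 11, nat_lit 11, nat_lit 11, nat_lit 11, nat_lit 11, nat_lit 11, nat_lit 11, nat_lit 11, nat_lit 11, nat_lit 11, nat_lit 10, nat_lit 10, nat_lit 10, nat_lit 10, nat_lit 10, nat_lit 10, nat_lit 10, nat_lit 10, nat_lit 10, nat_lit 10, nat_lit 10, nat_lit 10, nat_lit 11, nat_lit 11, nat_lit 11, nat_lit 11, nat_lit 11, nat_lit 11, nat_lit 11, nat_lit 11, nat_lit 11, nat_lit 11, nat_lit 11, nat_lit 11, nat_lit 10, nat_lit 10, nat_lit 10, nat_lit 10, nat_lit 10, nat_lit 10, nat_lit 10, nat_lit 10, nat_lit 10, nat_lit 10, nat_lit 10, nat_lit 10, nat_lit 11, nat_lit 10, nat_lit 10, nat_lit 10, nat_lit 10, nat_lit 10, nat_lit 10, nat_lit 10, nat_lit 10, nat_lit 10, nat_lit 10, nat_lit 10, nat_lit 10, nat_lit 10, nat_lit 10, nat_lit 10, nat_lit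 10, nat_lit 10, nat_lit 10, nat_lit 10, nat_lit 10, nat_lit 10, nat_lit 10, nat_lit 10, nat_lit 10, nat_lit 11, nat_lit 11, nat_lit 11, nat_lit 11, nat_lit 11, nat_lit 11, nat_lit 11, nat_lit 11, nat_lit 11, nat_lit 11, nat_lit 11, nat_lit 11, nat_lit 10, nat_lit 10, nat_lit 10, nat_lit 10, nat_lit 10, nat_lit 10, nat_lit 10, nat_lit 10, nat_lit 10, nat_lit 10, nat_lit 10, nat_lit 10, nat_lit 11, nat_lit 10, nat_lit 10, nat_lit 11, nat_lit 11, nat_lit 11, nat_lit 11, nat_lit 11, nat_lit 11, nat_lit 11, nat_lit 11, nat_lit 11, nat_lit 11, nat_lit 11, nat_lit 11, nat_lit 10, nat_lit 10, nat_lit 10, nat_lit 10, nat_lit 10, nat_lit 10, nat_lit 10, nat_lit 10, nat_lit 10, nat_lit 10, nat_lit 10, nat_lit 10, nat_lit 11, nat_lit 11, nat_lit 11, nat_lit 11, nat_lit 11, nat_lit 11, nat_lit 11, nat_lit 11, nat_lit 11, nat_lit 11, nat_lit 11, nat_lit 11])) (TL.node (TL.leaf [nat_lit 11, nat_lit 11, nat_lit 11, nat_lit 11, nat_lit 11,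 nat_lit 11, nat_lit 11, nat_lit 11, nat_lit 11, nat_lit 11, nat_lit 11, nat_lit 11, nat_lit 10, nat_lit 10, nat_lit 10, nat_lit 10, nat_lit 10, nat_lit 10, nat_lit 10, nat_lit 10, nat_lit 10, nat_lit 10, nat_lit 10, nat_lit 10, nat_lit 10, nat_lit 10, nat_lit 10, nat_lit 10, nat_lit 10, nat_lit 10, nat_lit 10, nat_lit 10, nat_lit 10, nat_lit 10, nat_lit 10, nat_lit 10, nat_lit 10, nat_lit 10, nat_lit 10, nat_lit 10, nat_lit 10, nat_lit 10, nat_lit 10, nat_lit 10, nat_lit 10, nat_lit 10, nat_lit 10, nat_lit 10, nat_lit 10, nat_lit 10, nat_lit 10, nat_lit 10, nat_lit 10, nat_lit 10, nat_lit 10, nat_lit 10, nat_lit 10, nat_lit 10, nat_lit 10, nat_lit 10, nat_lit 10, nat_lit 10, nat_lit 10, nat_lit 10, nat_lit 10, nat_lit 10, nat_lit 10, nat_lit 10, nat_lit 10, nat_lit 10, nat_lit 10, nat_lit 10, nat_lit 10, nat_lit 10, nat_lit 10, nat_lit 10, nat_lit 10, nat_lit 10, nat_lit 10, nat_lit 10, nat_lit 10, nat_lit 10, nat_lit 10, nat_lit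 10, nat_lit 11, nat_lit 10, nat_lit 10, nat_lit 10, nat_lit 10, nat_lit 10, nat_lit 10, nat_lit 10, nat_lit 10, nat_lit 10, nat_lit 10, nat_lit 10, nat_lit 10, nat_lit 11, nat_lit 11, nat_lit 10, nat_lit 10, nat_lit 10, nat_lit 10, nat_lit 10, nat_lit 10, nat_lit 10, nat_lit 10, nat_lit 10, nat_lit 10, nat_lit 10, nat_lit 10, nat_lit 10, nat_lit 10, nat_lit 10, nat_lit 10, nat_lit 10, nat_lit 10, nat_lit 10, nat_lit 10, nat_lit 10, nat_lit 10, nat_lit 10, nat_lit 10, nat_lit 10, nat_lit 10, nat_lit 10, nat_lit 10, nat_lit 10, nat_lit 10, nat_lit 10, nat_lit 10, nat_lit 10, nat_lit 10, nat_lit 10, nat_lit 10, nat_lit 11, nat_lit 10, nat_lit 10, nat_lit 10, nat_lit 10, nat_lit 10, nat_lit 10, nat_lit 10, nat_lit 10, nat_lit 10, nat_lit 10, nat_lit 10, nat_lit 10, nat_lit 11, nat_lit 10, nat_lit 11, nat_lit 11, nat_lit 11, nat_lit 11, nat_lit 11, nat_lit 11, nat_lit 11, nat_lit 11, nat_lit 11, nat_lit 11, nat_lit 11, nat_lit 11,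 nat_lit 10, nat_lit 10, nat_lit 11, nat_lit 11, nat_lit 11, nat_lit 11, nat_lit 11, nat_lit 11, nat_lit 11, nat_lit 11, nat_lit 11, nat_lit 11, nat_lit 11, nat_lit 11, nat_lit 10, nat_lit 10, nat_lit 10, nat_lit 10, nat_lit 10, nat_lit 10, nat_lit 10, nat_lit 10, nat_lit 10, nat_lit 10, nat_lit 10, nat_lit 10, nat_lit 11, nat_lit 10, nat_lit 10, nat_lit 10, nat_lit 10, nat_lit 10, nat_lit 10, nat_lit 10, nat_lit 10, nat_lit 10, nat_lit 10, nat_lit 10, nat_lit 10, nat_lit 11, nat_lit 11, nat_lit 11, nat_lit 11, nat_lit 11, nat_lit 11, nat_lit 11, nat_lit 11, nat_lit 11, nat_lit 11, nat_lit 11, nat_lit 11, nat_lit 10, nat_lit 11, nat_lit 11, nat_lit 11, nat_lit 11, nat_lit 11, nat_lit 11, nat_lit 11, nat_lit 11, nat_lit 11, nat_lit 11, nat_lit 11, nat_lit 11, nat_lit 10, nat_lit 10, nat_lit 10, nat_lit 11, nat_lit 11, nat_lit 11, nat_lit 11, nat_lit 11, nat_lit 11, nat_lit 11, nat_lit 11, nat_lit 11, nat_lit 11, nat_lit 11, nat_lit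 11, nat_lit 10, nat_lit 11, nat_lit 10, nat_lit 11, nat_lit 11, nat_lit 11, nat_lit 11, nat_lit 11, nat_lit 11, nat_lit 11, nat_lit 11, nat_lit 11, nat_lit 11, nat_lit 11, nat_lit 11, nat_lit 10, nat_lit 10, nat_lit 10, nat_lit 10, nat_lit 10, nat_lit 10, nat_lit 10, nat_lit 10, nat_lit 10, nat_lit 10, nat_lit 10, nat_lit 10, nat_lit 10, nat_lit 10, nat_lit 10, nat_lit 10, nat_lit 10, nat_lit 10, nat_lit 10, nat_lit 10, nat_lit 10, nat_lit 10, nat_lit 10, nat_lit 10, nat_lit 10, nat_lit 10, nat_lit 10, nat_lit 10, nat_lit 10, nat_lit 10, nat_lit 10, nat_lit 10, nat_lit 10, nat_lit 10, nat_lit 10, nat_lit 10, nat_lit 10, nat_lit 10, nat_lit 10, nat_lit 10, nat_lit 10, nat_lit 10, nat_lit 10, nat_lit 10, nat_lit 10, nat_lit 10, nat_lit 10, nat_lit 10, nat_lit 10, nat_lit 10, nat_lit 10, nat_lit 10, nat_lit 10, nat_lit 10, nat_lit 10, nat_lit 10, nat_lit 10, nat_lit 10, nat_lit 10, nat_lit 10, nat_lit 10, nat_lit 10, nat_lit 10,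 nat_lit 10, nat_lit 10, nat_lit 10, nat_lit 10, nat_lit 10, nat_lit 10, nat_lit 10, nat_lit 10, nat_lit 10, nat_lit 10, nat_lit 10, nat_lit 10, nat_lit 10, nat_lit 10, nat_lit 10, nat_lit 10, nat_lit 10, nat_lit 10, nat_lit 10, nat_lit 10, nat_lit 10, nat_lit 11, nat_lit 10, nat_lit 10, nat_lit 10, nat_lit 10, nat_lit 10, nat_lit 10, nat_lit 10, nat_lit 10, nat_lit 10, nat_lit 10, nat_lit 10, nat_lit 10, nat_lit 10, nat_lit 10, nat_lit 10, nat_lit 10, nat_lit 10, nat_lit 10, nat_lit 10, nat_lit 10, nat_lit 10, nat_lit 10, nat_lit 10, nat_lit 10, nat_lit 11, nat_lit 11, nat_lit 11, nat_lit 11, nat_lit 11, nat_lit 11, nat_lit 11, nat_lit 11, nat_lit 11, nat_lit 11, nat_lit 11, nat_lit 11, nat_lit 10, nat_lit 10, nat_lit 10, nat_lit 10, nat_lit 10, nat_lit 10, nat_lit 10, nat_lit 10, nat_lit 10, nat_lit 10, nat_lit 10, nat_lit 10, nat_lit 11, nat_lit 10, nat_lit 10, nat_lit 10, nat_lit 10, nat_lit 10, nat_lit 10, nat_lit 10, nat_lit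 10, nat_lit 10, nat_lit 10, nat_lit 10, nat_lit 10, nat_lit 11, nat_lit 10, nat_lit 10, nat_lit 10, nat_lit 10, nat_lit 10, nat_lit 10, nat_lit 10, nat_lit 10, nat_lit 10, nat_lit 10, nat_lit 10, nat_lit 10]) (TL.leaf [nat_lit 10, nat_lit 10, nat_lit 11, nat_lit 11, nat_lit 11, nat_lit 11, nat_lit 11, nat_lit 11, nat_lit 11, nat_lit 11, nat_lit 11, nat_lit 11, nat_lit 11, nat_lit 11, nat_lit 10, nat_lit 10, nat_lit 10, nat_lit 10, nat_lit 10, nat_lit 10, nat_lit 10, nat_lit 10, nat_lit 10, nat_lit 10, nat_lit 10, nat_lit 10, nat_lit 11, nat_lit 11, nat_lit 11, nat_lit 11, nat_lit 11, nat_lit 11, nat_lit 11, nat_lit 11, nat_lit 11, nat_lit 11, nat_lit 11, nat_lit 11, nat_lit 10, nat_lit 10, nat_lit 11, nat_lit 11, nat_lit 11, nat_lit 11, nat_lit 11, nat_lit 11, nat_lit 11, nat_lit 11, nat_lit 11, nat_lit 11, nat_lit 11, nat_lit 11, nat_lit 10, nat_lit 10, nat_lit 10, nat_lit 10, nat_lit 10, nat_lit 10, nat_lit 10, nat_lit 10,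 nat_lit 10, nat_lit 10, nat_lit 10, nat_lit 10, nat_lit 11, nat_lit 11, nat_lit 10, nat_lit 10, nat_lit 10, nat_lit 10, nat_lit 10, nat_lit 10, nat_lit 10, nat_lit 10, nat_lit 10, nat_lit 10, nat_lit 10, nat_lit 10, nat_lit 11, nat_lit 11, nat_lit 11, nat_lit 10, nat_lit 11, nat_lit 11, nat_lit 11, nat_lit 11, nat_lit 11, nat_lit 11, nat_lit 11, nat_lit 11, nat_lit 11, nat_lit 11, nat_lit 11, nat_lit 11, nat_lit 10, nat_lit 10, nat_lit 10, nat_lit 11, nat_lit 10, nat_lit 10, nat_lit 10, nat_lit 11, nat_lit 10, nat_lit 10, nat_lit 11, nat_lit 11, nat_lit 11, nat_lit 11, nat_lit 11, nat_lit 11, nat_lit 11, nat_lit 11, nat_lit 11, nat_lit 11, nat_lit 11, nat_lit 11, nat_lit 10, nat_lit 10, nat_lit 10, nat_lit 10, nat_lit 10, nat_lit 10, nat_lit 10, nat_lit 10, nat_lit 10, nat_lit 10, nat_lit 10, nat_lit 10, nat_lit 11, nat_lit 11, nat_lit 11, nat_lit 11, nat_lit 11, nat_lit 11, nat_lit 11, nat_lit 11, nat_lit 11, nat_lit 11, nat_lit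 11, nat_lit 11, nat_lit 10, nat_lit 10, nat_lit 11, nat_lit 11, nat_lit 11, nat_lit 11, nat_lit 11, nat_lit 11, nat_lit 11, nat_lit 11, nat_lit 11, nat_lit 11, nat_lit 11, nat_lit 11, nat_lit 10, nat_lit 10, nat_lit 10, nat_lit 10, nat_lit 10, nat_lit 10, nat_lit 10, nat_lit 10, nat_lit 10, nat_lit 10, nat_lit 10, nat_lit 10, nat_lit 11, nat_lit 11, nat_lit 10, nat_lit 10, nat_lit 10, nat_lit 10, nat_lit 10, nat_lit 10, nat_lit 10, nat_lit 10, nat_lit 10, nat_lit 10, nat_lit 10, nat_lit 10, nat_lit 11, nat_lit 10, nat_lit 10, nat_lit 10, nat_lit 10, nat_lit 10, nat_lit 10, nat_lit 10, nat_lit 10, nat_lit 10, nat_lit 10, nat_lit 10, nat_lit 10, nat_lit 11, nat_lit 10, nat_lit 10, nat_lit 10, nat_lit 10, nat_lit 10, nat_lit 10, nat_lit 10, nat_lit 10, nat_lit 10, nat_lit 10, nat_lit 10, nat_lit 10, nat_lit 10, nat_lit 10, nat_lit 10, nat_lit 10, nat_lit 10, nat_lit 10, nat_lit 10, nat_lit 10, nat_lit 10, nat_lit 10, nat_lit 10,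 nat_lit 10, nat_lit 11, nat_lit 11, nat_lit 10, nat_lit 11, nat_lit 11, nat_lit 11, nat_lit 11, nat_lit 11, nat_lit 11, nat_lit 11, nat_lit 11, nat_lit 11, nat_lit 11, nat_lit 11, nat_lit 11, nat_lit 10, nat_lit 10, nat_lit 10, nat_lit 10, nat_lit 10, nat_lit 10, nat_lit 10, nat_lit 10, nat_lit 10, nat_lit 10, nat_lit 10, nat_lit 10, nat_lit 11, nat_lit 11, nat_lit 11, nat_lit 11, nat_lit 11, nat_lit 11, nat_lit 11, nat_lit 11, nat_lit 11, nat_lit 11, nat_lit 11, nat_lit 11, nat_lit 11, nat_lit 11, nat_lit 11, nat_lit 11, nat_lit 11, nat_lit 11, nat_lit 11, nat_lit 11, nat_lit 11, nat_lit 11, nat_lit 11, nat_lit 11, nat_lit 10, nat_lit 10, nat_lit 10, nat_lit 10, nat_lit 10, nat_lit 10, nat_lit 10, nat_lit 10, nat_lit 10, nat_lit 10, nat_lit 10, nat_lit 10, nat_lit 10, nat_lit 10, nat_lit 10, nat_lit 10, nat_lit 10, nat_lit 10, nat_lit 10, nat_lit 10, nat_lit 10, nat_lit 10, nat_lit 10, nat_lit 10, nat_lit 11, nat_lit 11, nat_lit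 11, nat_lit 11, nat_lit 11, nat_lit 11, nat_lit 11, nat_lit 11, nat_lit 11, nat_lit 11, nat_lit 11, nat_lit 11, nat_lit 10, nat_lit 11, nat_lit 11, nat_lit 11, nat_lit 11, nat_lit 11, nat_lit 11, nat_lit 11, nat_lit 11, nat_lit 11, nat_lit 11, nat_lit 11, nat_lit 11, nat_lit 10, nat_lit 11, nat_lit 11, nat_lit 11, nat_lit 11, nat_lit 11, nat_lit 11, nat_lit 11, nat_lit 11, nat_lit 11, nat_lit 11, nat_lit 11, nat_lit 11, nat_lit 11, nat_lit 11, nat_lit 11, nat_lit 11, nat_lit 11, nat_lit 11, nat_lit 11, nat_lit 11, nat_lit 11, nat_lit 11, nat_lit 11, nat_lit 11, nat_lit 10, nat_lit 10, nat_lit 10, nat_lit 10, nat_lit 10, nat_lit 10, nat_lit 10, nat_lit 10, nat_lit 10, nat_lit 10, nat_lit 10, nat_lit 10, nat_lit 11, nat_lit 11, nat_lit 11, nat_lit 11, nat_lit 11, nat_lit 11, nat_lit 11, nat_lit 11, nat_lit 11, nat_lit 11, nat_lit 11, nat_lit 11, nat_lit 11, nat_lit 11, nat_lit 11, nat_lit 11, nat_lit 11, nat_lit 11, nat_lit 11,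 nat_lit 11, nat_lit 11, nat_lit 11, nat_lit 11, nat_lit 11, nat_lit 10, nat_lit 10, nat_lit 10, nat_lit 10, nat_lit 10, nat_lit 10, nat_lit 10, nat_lit 10, nat_lit 10, nat_lit 10, nat_lit 10, nat_lit 10, nat_lit 11, nat_lit 10, nat_lit 10, nat_lit 11, nat_lit 11, nat_lit 11, nat_lit 11, nat_lit 11, nat_lit 11, nat_lit 11, nat_lit 11, nat_lit 11, nat_lit 11, nat_lit 11, nat_lit 11, nat_lit 10, nat_lit 11, nat_lit 11, nat_lit 11, nat_lit 11, nat_lit 11, nat_lit 11, nat_lit 11, nat_lit 11, nat_lit 11, nat_lit 11, nat_lit 11, nat_lit 11, nat_lit 10, nat_lit 10]))) (TL.node (TL.node (TL.node (TL.leaf [nat_lit 11, nat_lit 10, nat_lit 10, nat_lit 10, nat_lit 10, nat_lit 10, nat_lit 10, nat_lit 10, nat_lit 10, nat_lit 10, nat_lit 10, nat_lit 10, nat_lit 10, nat_lit 11, nat_lit 11, nat_lit 11, nat_lit 11, nat_lit 11, nat_lit 11, nat_lit 11, nat_lit 11, nat_lit 11, nat_lit 11, nat_lit 11, nat_lit 11, nat_lit 10, nat_lit 11, nat_lit 11,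 nat_lit 11, nat_lit 11, nat_lit 11, nat_lit 11, nat_lit 11, nat_lit 11, nat_lit 11, nat_lit 11, nat_lit 11, nat_lit 11, nat_lit 11, nat_lit 11, nat_lit 11, nat_lit 11, nat_lit 11, nat_lit 11, nat_lit 11, nat_lit 11, nat_lit 11, nat_lit 11, nat_lit 11, nat_lit 11, nat_lit 10, nat_lit 11, nat_lit 11, nat_lit 10, nat_lit 11, nat_lit 11, nat_lit 11, nat_lit 11, nat_lit 11, nat_lit 11, nat_lit 11, nat_lit 11, nat_lit 11, nat_lit 11, nat_lit 11, nat_lit 11, nat_lit 10, nat_lit 10, nat_lit 10, nat_lit 10, nat_lit 10, nat_lit 10, nat_lit 10, nat_lit 10, nat_lit 10, nat_lit 10, nat_lit 10, nat_lit 10, nat_lit 10, nat_lit 10, nat_lit 10, nat_lit 10, nat_lit 10, nat_lit 10, nat_lit 10, nat_lit 10, nat_lit 10, nat_lit 10, nat_lit 10, nat_lit 10, nat_lit 10, nat_lit 10, nat_lit 10, nat_lit 10, nat_lit 10, nat_lit 10, nat_lit 10, nat_lit 10, nat_lit 10, nat_lit 10, nat_lit 10, nat_lit 10, nat_lit 11, nat_lit 10, nat_lit 10, nat_lit 10, nat_lit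 10, nat_lit 10, nat_lit 10, nat_lit 10, nat_lit 10, nat_lit 10, nat_lit 10, nat_lit 10, nat_lit 10, nat_lit 11, nat_lit 10, nat_lit 10, nat_lit 10, nat_lit 10, nat_lit 11, nat_lit 11, nat_lit 11, nat_lit 11, nat_lit 11, nat_lit 11, nat_lit 11, nat_lit 11, nat_lit 11, nat_lit 11, nat_lit 11, nat_lit 11, nat_lit 10, nat_lit 10, nat_lit 10, nat_lit 10, nat_lit 10, nat_lit 10, nat_lit 10, nat_lit 10, nat_lit 10, nat_lit 10, nat_lit 10, nat_lit 10, nat_lit 11, nat_lit 10, nat_lit 10, nat_lit 10, nat_lit 10, nat_lit 10, nat_lit 10, nat_lit 10, nat_lit 10, nat_lit 10, nat_lit 10, nat_lit 10, nat_lit 10, nat_lit 11, nat_lit 11, nat_lit 11, nat_lit 11, nat_lit 11, nat_lit 11, nat_lit 11, nat_lit 11, nat_lit 11, nat_lit 11, nat_lit 11, nat_lit 11, nat_lit 10, nat_lit 10, nat_lit 11, nat_lit 11, nat_lit 11, nat_lit 11, nat_lit 11, nat_lit 11, nat_lit 11, nat_lit 11, nat_lit 11, nat_lit 11, nat_lit 11, nat_lit 11, nat_lit 11, nat_lit 11,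 nat_lit 11, nat_lit 11, nat_lit 11, nat_lit 11, nat_lit 11, nat_lit 11, nat_lit 11, nat_lit 11, nat_lit 11, nat_lit 11, nat_lit 10, nat_lit 10, nat_lit 10, nat_lit 10, nat_lit 10, nat_lit 10, nat_lit 10, nat_lit 10, nat_lit 10, nat_lit 10, nat_lit 10, nat_lit 10, nat_lit 11, nat_lit 11, nat_lit 11, nat_lit 10, nat_lit 11, nat_lit 11, nat_lit 11, nat_lit 11, nat_lit 11, nat_lit 11, nat_lit 11, nat_lit 11, nat_lit 11, nat_lit 11, nat_lit 11, nat_lit 11, nat_lit 11, nat_lit 11, nat_lit 11, nat_lit 11, nat_lit 11, nat_lit 11, nat_lit 11, nat_lit 11, nat_lit 11, nat_lit 11, nat_lit 11, nat_lit 11, nat_lit 10, nat_lit 10, nat_lit 10, nat_lit 10, nat_lit 10, nat_lit 10, nat_lit 10, nat_lit 10, nat_lit 10, nat_lit 10, nat_lit 10, nat_lit 10, nat_lit 10, nat_lit 10, nat_lit 10, nat_lit 10, nat_lit 10, nat_lit 10, nat_lit 10, nat_lit 10, nat_lit 10, nat_lit 10, nat_lit 10, nat_lit 10, nat_lit 11, nat_lit 10, nat_lit 11, nat_lit 10, nat_lit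 10, nat_lit 10, nat_lit 10, nat_lit 10, nat_lit 10, nat_lit 10, nat_lit 10, nat_lit 10, nat_lit 10, nat_lit 10, nat_lit 10, nat_lit 11, nat_lit 11, nat_lit 11, nat_lit 11, nat_lit 11, nat_lit 11, nat_lit 11, nat_lit 11, nat_lit 11, nat_lit 11, nat_lit 11, nat_lit 11, nat_lit 10, nat_lit 10, nat_lit 10, nat_lit 10, nat_lit 10, nat_lit 10, nat_lit 10, nat_lit 10, nat_lit 10, nat_lit 10, nat_lit 10, nat_lit 10, nat_lit 11, nat_lit 11, nat_lit 11, nat_lit 11, nat_lit 11, nat_lit 11, nat_lit 11, nat_lit 11, nat_lit 11, nat_lit 11, nat_lit 11, nat_lit 11, nat_lit 10, nat_lit 10, nat_lit 10, nat_lit 10, nat_lit 10, nat_lit 10, nat_lit 10, nat_lit 10, nat_lit 10, nat_lit 10, nat_lit 10, nat_lit 10, nat_lit 11, nat_lit 10, nat_lit 10, nat_lit 10, nat_lit 10, nat_lit 10, nat_lit 10, nat_lit 10, nat_lit 10, nat_lit 10, nat_lit 10, nat_lit 10, nat_lit 10, nat_lit 10, nat_lit 10, nat_lit 10, nat_lit 10, nat_lit 10, nat_lit 10, nat_lit 10,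 nat_lit 10, nat_lit 10, nat_lit 10, nat_lit 10, nat_lit 10, nat_lit 11, nat_lit 10, nat_lit 10, nat_lit 10, nat_lit 10, nat_lit 10, nat_lit 10, nat_lit 10, nat_lit 10, nat_lit 10, nat_lit 10, nat_lit 10, nat_lit 10, nat_lit 11, nat_lit 10, nat_lit 10, nat_lit 10, nat_lit 10, nat_lit 10, nat_lit 10, nat_lit 10, nat_lit 10, nat_lit 10, nat_lit 10, nat_lit 10, nat_lit 10, nat_lit 11, nat_lit 11, nat_lit 11, nat_lit 11, nat_lit 11, nat_lit 11, nat_lit 11, nat_lit 11, nat_lit 11, nat_lit 11, nat_lit 11, nat_lit 11, nat_lit 10, nat_lit 10, nat_lit 10, nat_lit 11, nat_lit 11, nat_lit 11, nat_lit 11, nat_lit 11, nat_lit 11, nat_lit 11, nat_lit 11, nat_lit 11, nat_lit 11, nat_lit 11, nat_lit 11, nat_lit 10, nat_lit 10, nat_lit 10, nat_lit 10, nat_lit 10, nat_lit 10, nat_lit 10, nat_lit 10, nat_lit 10, nat_lit 10, nat_lit 10, nat_lit 10, nat_lit 11, nat_lit 10, nat_lit 11, nat_lit 11, nat_lit 11, nat_lit 11, nat_lit 11, nat_lit 11, nat_lit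 11, nat_lit 11, nat_lit 11, nat_lit 11, nat_lit 11, nat_lit 11, nat_lit 10]) (TL.leaf [nat_lit 11, nat_lit 10, nat_lit 10, nat_lit 10, nat_lit 10, nat_lit 10, nat_lit 10, nat_lit 10, nat_lit 10, nat_lit 10, nat_lit 10, nat_lit 10, nat_lit 10, nat_lit 11, nat_lit 11, nat_lit 11, nat_lit 11, nat_lit 11, nat_lit 11, nat_lit 11, nat_lit 11, nat_lit 11, nat_lit 11, nat_lit 11, nat_lit 11, nat_lit 11, nat_lit 11, nat_lit 11, nat_lit 11, nat_lit 11, nat_lit 11, nat_lit 11, nat_lit 11, nat_lit 11, nat_lit 11, nat_lit 11, nat_lit 11, nat_lit 10, nat_lit 10, nat_lit 10, nat_lit 10, nat_lit 10, nat_lit 10, nat_lit 10, nat_lit 10, nat_lit 10, nat_lit 10, nat_lit 10, nat_lit 10, nat_lit 11, nat_lit 11, nat_lit 11, nat_lit 11, nat_lit 11, nat_lit 11, nat_lit 11, nat_lit 11, nat_lit 11, nat_lit 11, nat_lit 11, nat_lit 11, nat_lit 10, nat_lit 10, nat_lit 10, nat_lit 10, nat_lit 10, nat_lit 10, nat_lit 10, nat_lit 10, nat_lit 10, nat_lit 10,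 nat_lit 10, nat_lit 10, nat_lit 11, nat_lit 11, nat_lit 11, nat_lit 11, nat_lit 11, nat_lit 11, nat_lit 11, nat_lit 11, nat_lit 11, nat_lit 11, nat_lit 11, nat_lit 11, nat_lit 10, nat_lit 10, nat_lit 10, nat_lit 11, nat_lit 11, nat_lit 11, nat_lit 10, nat_lit 11, nat_lit 11, nat_lit 11, nat_lit 11, nat_lit 11, nat_lit 11, nat_lit 11, nat_lit 11, nat_lit 11, nat_lit 11, nat_lit 11, nat_lit 11, nat_lit 10, nat_lit 10, nat_lit 10, nat_lit 10, nat_lit 10, nat_lit 11, nat_lit 11, nat_lit 11, nat_lit 11, nat_lit 11, nat_lit 11, nat_lit 11, nat_lit 11, nat_lit 11, nat_lit 11, nat_lit 11, nat_lit 11, nat_lit 10, nat_lit 10, nat_lit 10, nat_lit 10, nat_lit 11, nat_lit 11, nat_lit 11, nat_lit 11, nat_lit 11, nat_lit 11, nat_lit 11, nat_lit 11, nat_lit 11, nat_lit 11, nat_lit 11, nat_lit 11, nat_lit 11, nat_lit 11, nat_lit 11, nat_lit 11, nat_lit 11, nat_lit 11, nat_lit 11, nat_lit 11, nat_lit 11, nat_lit 11, nat_lit 11, nat_lit 11, nat_lit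 11, nat_lit 11, nat_lit 11, nat_lit 11, nat_lit 11, nat_lit 11, nat_lit 11, nat_lit 11, nat_lit 11, nat_lit 11, nat_lit 11, nat_lit 11, nat_lit 10, nat_lit 10, nat_lit 10, nat_lit 10, nat_lit 10, nat_lit 10, nat_lit 10, nat_lit 10, nat_lit 10, nat_lit 10, nat_lit 10, nat_lit 10, nat_lit 10, nat_lit 10, nat_lit 10, nat_lit 10, nat_lit 10, nat_lit 10, nat_lit 10, nat_lit 10, nat_lit 10, nat_lit 10, nat_lit 10, nat_lit 10, nat_lit 10, nat_lit 10, nat_lit 10, nat_lit 10, nat_lit 10, nat_lit 10, nat_lit 10, nat_lit 10, nat_lit 10, nat_lit 10, nat_lit 10, nat_lit 10, nat_lit 11, nat_lit 11, nat_lit 11, nat_lit 11, nat_lit 11, nat_lit 11, nat_lit 11, nat_lit 11, nat_lit 11, nat_lit 11, nat_lit 11, nat_lit 11, nat_lit 11, nat_lit 11, nat_lit 11, nat_lit 11, nat_lit 11, nat_lit 11, nat_lit 11, nat_lit 11, nat_lit 11, nat_lit 11, nat_lit 11, nat_lit 11, nat_lit 11, nat_lit 11, nat_lit 11, nat_lit 11, nat_lit 11, nat_lit 11, nat_lit 11,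 nat_lit 11, nat_lit 11, nat_lit 11, nat_lit 11, nat_lit 11, nat_lit 10, nat_lit 10, nat_lit 10, nat_lit 10, nat_lit 10, nat_lit 10, nat_lit 10, nat_lit 10, nat_lit 10, nat_lit 10, nat_lit 10, nat_lit 10, nat_lit 10, nat_lit 10, nat_lit 10, nat_lit 10, nat_lit 10, nat_lit 10, nat_lit 10, nat_lit 10, nat_lit 10, nat_lit 10, nat_lit 10, nat_lit 10, nat_lit 10, nat_lit 10, nat_lit 10, nat_lit 10, nat_lit 10, nat_lit 10, nat_lit 10, nat_lit 10, nat_lit 10, nat_lit 10, nat_lit 10, nat_lit 10, nat_lit 11, nat_lit 11, nat_lit 11, nat_lit 11, nat_lit 11, nat_lit 11, nat_lit 11, nat_lit 11, nat_lit 11, nat_lit 11, nat_lit 11, nat_lit 11, nat_lit 10, nat_lit 10, nat_lit 10, nat_lit 10, nat_lit 10, nat_lit 10, nat_lit 10, nat_lit 10, nat_lit 10, nat_lit 10, nat_lit 10, nat_lit 10, nat_lit 11, nat_lit 11, nat_lit 11, nat_lit 11, nat_lit 11, nat_lit 11, nat_lit 11, nat_lit 11, nat_lit 11, nat_lit 11, nat_lit 11, nat_lit 11, nat_lit 10, nat_lit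 11, nat_lit 11, nat_lit 11, nat_lit 11, nat_lit 11, nat_lit 11, nat_lit 11, nat_lit 11, nat_lit 11, nat_lit 11, nat_lit 11, nat_lit 11, nat_lit 10, nat_lit 10, nat_lit 10, nat_lit 10, nat_lit 10, nat_lit 10, nat_lit 10, nat_lit 10, nat_lit 10, nat_lit 10, nat_lit 10, nat_lit 10, nat_lit 10, nat_lit 10, nat_lit 10, nat_lit 10, nat_lit 10, nat_lit 10, nat_lit 10, nat_lit 10, nat_lit 10, nat_lit 10, nat_lit 10, nat_lit 10, nat_lit 10, nat_lit 10, nat_lit 10, nat_lit 10, nat_lit 10, nat_lit 10, nat_lit 10, nat_lit 10, nat_lit 10, nat_lit 10, nat_lit 10, nat_lit 10, nat_lit 11])) (TL.leaf [nat_lit 10, nat_lit 10, nat_lit 10, nat_lit 10, nat_lit 10, nat_lit 10, nat_lit 10, nat_lit 10, nat_lit 10, nat_lit 10, nat_lit 10, nat_lit 10, nat_lit 10, nat_lit 10, nat_lit 10, nat_lit 10, nat_lit 10, nat_lit 10, nat_lit 10, nat_lit 10, nat_lit 10, nat_lit 10, nat_lit 10, nat_lit 10, nat_lit 11, nat_lit 10, nat_lit 10, nat_lit 10, nat_lit 10,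 nat_lit 10, nat_lit 10, nat_lit 10, nat_lit 10, nat_lit 10, nat_lit 10, nat_lit 10, nat_lit 10, nat_lit 11, nat_lit 10, nat_lit 10, nat_lit 10, nat_lit 10, nat_lit 10, nat_lit 10, nat_lit 10, nat_lit 10, nat_lit 10, nat_lit 10, nat_lit 10, nat_lit 10, nat_lit 11, nat_lit 11, nat_lit 11, nat_lit 11, nat_lit 11, nat_lit 11, nat_lit 11, nat_lit 11, nat_lit 11, nat_lit 11, nat_lit 11, nat_lit 11, nat_lit 10, nat_lit 11, nat_lit 10, nat_lit 10, nat_lit 11, nat_lit 10, nat_lit 10, nat_lit 10, nat_lit 10, nat_lit 10, nat_lit 10, nat_lit 10, nat_lit 10, nat_lit 10, nat_lit 10, nat_lit 10, nat_lit 10, nat_lit 10, nat_lit 10, nat_lit 10, nat_lit 10, nat_lit 10, nat_lit 10, nat_lit 10, nat_lit 10, nat_lit 10, nat_lit 10, nat_lit 10, nat_lit 10, nat_lit 11, nat_lit 11, nat_lit 11, nat_lit 11, nat_lit 11, nat_lit 11, nat_lit 11, nat_lit 11, nat_lit 11, nat_lit 11, nat_lit 11, nat_lit 11, nat_lit 10, nat_lit 11, nat_lit 11, nat_lit 11, nat_lit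 11, nat_lit 11, nat_lit 11, nat_lit 11, nat_lit 11, nat_lit 11, nat_lit 11, nat_lit 11, nat_lit 11, nat_lit 11, nat_lit 11, nat_lit 11, nat_lit 11, nat_lit 11, nat_lit 11, nat_lit 11, nat_lit 11, nat_lit 11, nat_lit 11, nat_lit 11, nat_lit 11, nat_lit 10, nat_lit 11, nat_lit 11, nat_lit 10, nat_lit 10, nat_lit 10, nat_lit 10, nat_lit 10, nat_lit 10, nat_lit 10, nat_lit 10, nat_lit 10, nat_lit 10, nat_lit 10, nat_lit 10, nat_lit 10, nat_lit 10, nat_lit 10, nat_lit 10, nat_lit 10, nat_lit 10, nat_lit 10, nat_lit 10, nat_lit 10, nat_lit 10, nat_lit 10, nat_lit 10, nat_lit 10, nat_lit 10, nat_lit 10, nat_lit 10, nat_lit 10, nat_lit 10, nat_lit 10, nat_lit 10, nat_lit 10, nat_lit 10, nat_lit 10, nat_lit 10, nat_lit 11, nat_lit 10, nat_lit 10, nat_lit 11, nat_lit 11, nat_lit 10, nat_lit 11, nat_lit 10, nat_lit 10, nat_lit 10, nat_lit 10, nat_lit 10, nat_lit 10, nat_lit 10, nat_lit 10, nat_lit 10, nat_lit 10, nat_lit 10, nat_lit 10,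 nat_lit 10, nat_lit 10, nat_lit 10, nat_lit 10, nat_lit 10, nat_lit 10, nat_lit 10, nat_lit 10, nat_lit 10, nat_lit 10, nat_lit 10, nat_lit 10, nat_lit 10, nat_lit 10, nat_lit 10, nat_lit 10, nat_lit 10, nat_lit 10, nat_lit 10, nat_lit 10, nat_lit 10, nat_lit 10, nat_lit 10, nat_lit 10, nat_lit 11, nat_lit 11, nat_lit 11, nat_lit 11, nat_lit 11, nat_lit 11, nat_lit 11, nat_lit 11, nat_lit 11, nat_lit 11, nat_lit 11, nat_lit 11, nat_lit 11, nat_lit 11, nat_lit 11, nat_lit 11, nat_lit 11, nat_lit 11, nat_lit 11, nat_lit 11, nat_lit 11, nat_lit 11, nat_lit 11, nat_lit 11, nat_lit 10, nat_lit 10, nat_lit 10, nat_lit 10, nat_lit 10, nat_lit 10, nat_lit 10, nat_lit 10, nat_lit 10, nat_lit 10, nat_lit 10, nat_lit 10, nat_lit 11, nat_lit 11, nat_lit 11, nat_lit 11, nat_lit 11, nat_lit 11, nat_lit 11, nat_lit 11, nat_lit 11, nat_lit 11, nat_lit 11, nat_lit 11])) (TL.node (TL.leaf [nat_lit 11, nat_lit 10, nat_lit 10, nat_lit 10, nat_lit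 11, nat_lit 11, nat_lit 10, nat_lit 11, nat_lit 11, nat_lit 10, nat_lit 10, nat_lit 11, nat_lit 11, nat_lit 10, nat_lit 10, nat_lit 10, nat_lit 10, nat_lit 10, nat_lit 10, nat_lit 10, nat_lit 10, nat_lit 10, nat_lit 10, nat_lit 10, nat_lit 10, nat_lit 11, nat_lit 11, nat_lit 11, nat_lit 11, nat_lit 11, nat_lit 11, nat_lit 11, nat_lit 11, nat_lit 11, nat_lit 11, nat_lit 11, nat_lit 11, nat_lit 11, nat_lit 11, nat_lit 11, nat_lit 11, nat_lit 11, nat_lit 11, nat_lit 11, nat_lit 11, nat_lit 11, nat_lit 11, nat_lit 11, nat_lit 11, nat_lit 10, nat_lit 10, nat_lit 10, nat_lit 10, nat_lit 10, nat_lit 10, nat_lit 10, nat_lit 10, nat_lit 10, nat_lit 10, nat_lit 10, nat_lit 10, nat_lit 10, nat_lit 10, nat_lit 10, nat_lit 10, nat_lit 10, nat_lit 10, nat_lit 10, nat_lit 10, nat_lit 10, nat_lit 10, nat_lit 10, nat_lit 10, nat_lit 10, nat_lit 10, nat_lit 10, nat_lit 10, nat_lit 10, nat_lit 10, nat_lit 10, nat_lit 10, nat_lit 10, nat_lit 10,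 nat_lit 10, nat_lit 10, nat_lit 11, nat_lit 11, nat_lit 11, nat_lit 11, nat_lit 11, nat_lit 11, nat_lit 11, nat_lit 11, nat_lit 11, nat_lit 11, nat_lit 11, nat_lit 11, nat_lit 10, nat_lit 10, nat_lit 10, nat_lit 10, nat_lit 10, nat_lit 10, nat_lit 10, nat_lit 10, nat_lit 10, nat_lit 10, nat_lit 10, nat_lit 10, nat_lit 10, nat_lit 10, nat_lit 10, nat_lit 10, nat_lit 10, nat_lit 10, nat_lit 10, nat_lit 10, nat_lit 10, nat_lit 10, nat_lit 10, nat_lit 10, nat_lit 11, nat_lit 11, nat_lit 10, nat_lit 10, nat_lit 11, nat_lit 10, nat_lit 11, nat_lit 10, nat_lit 10, nat_lit 11, nat_lit 11, nat_lit 11, nat_lit 11, nat_lit 11, nat_lit 11, nat_lit 11, nat_lit 11, nat_lit 11, nat_lit 11, nat_lit 11, nat_lit 11, nat_lit 11, nat_lit 11, nat_lit 11, nat_lit 11, nat_lit 11, nat_lit 11, nat_lit 11, nat_lit 11, nat_lit 11, nat_lit 11, nat_lit 11, nat_lit 11, nat_lit 10, nat_lit 10, nat_lit 10, nat_lit 10, nat_lit 10, nat_lit 10, nat_lit 10, nat_lit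 10, nat_lit 10, nat_lit 10, nat_lit 10, nat_lit 10, nat_lit 10, nat_lit 10, nat_lit 10, nat_lit 10, nat_lit 10, nat_lit 10, nat_lit 10, nat_lit 10, nat_lit 10, nat_lit 10, nat_lit 10, nat_lit 10, nat_lit 10, nat_lit 10, nat_lit 10, nat_lit 10, nat_lit 10, nat_lit 10, nat_lit 10, nat_lit 10, nat_lit 10, nat_lit 10, nat_lit 10, nat_lit 10, nat_lit 11, nat_lit 10, nat_lit 11, nat_lit 10, nat_lit 11, nat_lit 11, nat_lit 10, nat_lit 11, nat_lit 11, nat_lit 10, nat_lit 11, nat_lit 11, nat_lit 11, nat_lit 11, nat_lit 11, nat_lit 11, nat_lit 11, nat_lit 11, nat_lit 11, nat_lit 11, nat_lit 11, nat_lit 11, nat_lit 11, nat_lit 11, nat_lit 11, nat_lit 11, nat_lit 11, nat_lit 11, nat_lit 11, nat_lit 11, nat_lit 11, nat_lit 11, nat_lit 11, nat_lit 11, nat_lit 10, nat_lit 10, nat_lit 10, nat_lit 10, nat_lit 10, nat_lit 10, nat_lit 10, nat_lit 10, nat_lit 10, nat_lit 10, nat_lit 10, nat_lit 10, nat_lit 10, nat_lit 10, nat_lit 10, nat_lit 10,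 nat_lit 10, nat_lit 10, nat_lit 10, nat_lit 10, nat_lit 10, nat_lit 10, nat_lit 10, nat_lit 10, nat_lit 11, nat_lit 10, nat_lit 11, nat_lit 10, nat_lit 10, nat_lit 10, nat_lit 10, nat_lit 10, nat_lit 10, nat_lit 10, nat_lit 10, nat_lit 10, nat_lit 10, nat_lit 10, nat_lit 10, nat_lit 11, nat_lit 11, nat_lit 11, nat_lit 11, nat_lit 11, nat_lit 11, nat_lit 11, nat_lit 11, nat_lit 11, nat_lit 11, nat_lit 11, nat_lit 11, nat_lit 11, nat_lit 11, nat_lit 11, nat_lit 11, nat_lit 11, nat_lit 11, nat_lit 11, nat_lit 11, nat_lit 11, nat_lit 11, nat_lit 11, nat_lit 11, nat_lit 10, nat_lit 10, nat_lit 10, nat_lit 10, nat_lit 10, nat_lit 10, nat_lit 10, nat_lit 10, nat_lit 10, nat_lit 10, nat_lit 10, nat_lit 10, nat_lit 10, nat_lit 10, nat_lit 10, nat_lit 10, nat_lit 10, nat_lit 10, nat_lit 10, nat_lit 10, nat_lit 10, nat_lit 10, nat_lit 10, nat_lit 10, nat_lit 10, nat_lit 10, nat_lit 10, nat_lit 10, nat_lit 10, nat_lit 10, nat_lit 10, nat_lit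 10, nat_lit 10, nat_lit 10, nat_lit 10, nat_lit 10, nat_lit 10, nat_lit 10, nat_lit 10, nat_lit 10, nat_lit 10, nat_lit 10, nat_lit 10, nat_lit 10, nat_lit 10, nat_lit 10, nat_lit 10, nat_lit 10, nat_lit 10, nat_lit 10, nat_lit 10, nat_lit 10, nat_lit 10, nat_lit 10, nat_lit 10, nat_lit 10, nat_lit 10, nat_lit 10, nat_lit 10, nat_lit 10, nat_lit 10, nat_lit 10, nat_lit 10, nat_lit 10, nat_lit 10, nat_lit 10, nat_lit 10, nat_lit 10, nat_lit 10, nat_lit 10, nat_lit 10, nat_lit 10, nat_lit 11, nat_lit 10, nat_lit 11, nat_lit 11, nat_lit 11, nat_lit 11, nat_lit 11, nat_lit 11, nat_lit 11, nat_lit 11, nat_lit 11, nat_lit 11, nat_lit 11, nat_lit 11, nat_lit 11, nat_lit 11, nat_lit 11, nat_lit 11, nat_lit 11, nat_lit 11, nat_lit 11, nat_lit 11, nat_lit 11, nat_lit 11, nat_lit 11, nat_lit 11, nat_lit 10, nat_lit 11, nat_lit 11, nat_lit 11, nat_lit 11, nat_lit 11, nat_lit 11, nat_lit 11, nat_lit 11, nat_lit 11, nat_lit 11, nat_lit 11,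 nat_lit 11, nat_lit 10, nat_lit 10, nat_lit 10, nat_lit 10, nat_lit 10, nat_lit 10, nat_lit 10, nat_lit 10, nat_lit 10, nat_lit 10, nat_lit 10, nat_lit 10, nat_lit 11, nat_lit 11, nat_lit 11, nat_lit 11, nat_lit 11, nat_lit 11, nat_lit 11, nat_lit 11, nat_lit 11, nat_lit 11, nat_lit 11, nat_lit 11, nat_lit 10, nat_lit 10, nat_lit 10, nat_lit 10, nat_lit 10, nat_lit 10, nat_lit 10, nat_lit 10, nat_lit 10, nat_lit 10, nat_lit 10, nat_lit 10, nat_lit 11, nat_lit 11, nat_lit 11, nat_lit 11, nat_lit 11, nat_lit 11, nat_lit 11, nat_lit 11, nat_lit 11, nat_lit 11, nat_lit 11, nat_lit 11, nat_lit 10, nat_lit 11, nat_lit 10]) (TL.leaf [nat_lit 11, nat_lit 10, nat_lit 10, nat_lit 10, nat_lit 10, nat_lit 10, nat_lit 10, nat_lit 10, nat_lit 10, nat_lit 10, nat_lit 10, nat_lit 10, nat_lit 10, nat_lit 11, nat_lit 11, nat_lit 11, nat_lit 11, nat_lit 11, nat_lit 11, nat_lit 11, nat_lit 11, nat_lit 11, nat_lit 11, nat_lit 11, nat_lit 11, nat_lit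 10, nat_lit 10, nat_lit 10, nat_lit 10, nat_lit 10, nat_lit 10, nat_lit 10, nat_lit 10, nat_lit 10, nat_lit 10, nat_lit 10, nat_lit 10, nat_lit 11, nat_lit 11, nat_lit 11, nat_lit 11, nat_lit 11, nat_lit 11, nat_lit 11, nat_lit 11, nat_lit 11, nat_lit 11, nat_lit 11, nat_lit 11, nat_lit 11, nat_lit 11, nat_lit 11, nat_lit 11, nat_lit 11, nat_lit 11, nat_lit 11, nat_lit 11, nat_lit 11, nat_lit 11, nat_lit 11, nat_lit 11, nat_lit 10, nat_lit 10, nat_lit 10, nat_lit 10, nat_lit 10, nat_lit 10, nat_lit 10, nat_lit 10, nat_lit 10, nat_lit 10, nat_lit 10, nat_lit 10, nat_lit 11, nat_lit 11, nat_lit 11, nat_lit 11, nat_lit 11, nat_lit 11, nat_lit 11, nat_lit 11, nat_lit 11, nat_lit 11, nat_lit 11, nat_lit 11, nat_lit 10, nat_lit 10, nat_lit 10, nat_lit 10, nat_lit 10, nat_lit 10, nat_lit 10, nat_lit 10, nat_lit 10, nat_lit 10, nat_lit 10, nat_lit 10, nat_lit 10, nat_lit 10, nat_lit 10, nat_lit 10, nat_lit 10, nat_lit 10, nat_lit 10,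 nat_lit 10, nat_lit 10, nat_lit 10, nat_lit 10, nat_lit 10, nat_lit 11, nat_lit 10, nat_lit 11, nat_lit 11, nat_lit 11, nat_lit 11, nat_lit 11, nat_lit 11, nat_lit 11, nat_lit 11, nat_lit 11, nat_lit 11, nat_lit 11, nat_lit 11, nat_lit 10, nat_lit 11, nat_lit 11, nat_lit 11, nat_lit 11, nat_lit 11, nat_lit 11, nat_lit 11, nat_lit 11, nat_lit 11, nat_lit 11, nat_lit 11, nat_lit 11, nat_lit 10, nat_lit 11, nat_lit 11, nat_lit 10, nat_lit 10, nat_lit 10, nat_lit 10, nat_lit 10, nat_lit 10, nat_lit 10, nat_lit 10, nat_lit 10, nat_lit 10, nat_lit 10, nat_lit 10, nat_lit 11, nat_lit 11, nat_lit 11, nat_lit 11, nat_lit 11, nat_lit 11, nat_lit 11, nat_lit 11, nat_lit 11, nat_lit 11, nat_lit 11, nat_lit 11, nat_lit 10]))))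
noncomputable def V1 (i : ℕ) : List ℕ := TL.get V1_t i
noncomputable def e1 : ℕ → ℕ := tabE T Q1 W1 (nat_lit 12)
theorem ee0 : Nat.beq (rng e1 (nat_lit 0) (nat_lit 351)) (nat_lit 0) = true := by decide +kernel
theorem he : ∀ i < 351, e1 i = 0 := by
  have h := zero_lt_zero e1
  have h := zero_lt_add (a := (nat_lit 0)) (n := (nat_lit 351)) (b := (nat_lit 351)) h ee0 rfl
  exact h
theorem md1 : Md pt 351 B0 (fun j => ev al (W1 j)) Q1 12 := md0.words (by decide +kernel) he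
instance simple : IsSimpleGroup P := ch.simple rfl coatom (p := 13) (md1.ord le_rfl (a := ([nat_lit 10], 13)) (by decide +kernel)).2.1
  (by decide +kernel) (md0.ncl (top) md1 (x := 10) (y := 11) [nat_lit 0, nat_lit 4, nat_lit 9, nat_lit 1, nat_lit 0, nat_lit 7] V1 (by decide +kernel))
theorem ctr : Subgroup.center P = ⊥ := ctr_bot card (by norm_num) (by decide)
theorem iv : InvOK al inv 10 := pr.2.sub le_rfl
theorem rl : ∀ w ∈ rels, ev al w = 1 := rels_sub (by decide +kernel) rl0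
theorem ub : Ub inv rels 10 (Nat.card P) := fun _ _ _ h1 h2 => card ▸ ub10 h1 h2

end Cfsg.Agent.Ct.O73
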