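import Cfsg.Agent.Lib.Cert.Mod
import Cfsg.Agent.Lib.PermCert.PL

set_option autoImplicit false
set_option maxRecDepth 100000

namespace Cfsg.Agent.Ct.O73

open Cfsg.Agent.PC

open Cfsg.Agent.Fi Cfsg.Agent.Ct
namespace L1
def t0x : TN := (TN.leaf (nat_lit 0x84eca21))
def t1x : TN := (TN.leaf (nat_lit 0x2a511a2))
def tt : TN := (TN.node (TN.node (TN.node (TN.node t0x (TN.leaf (nat_lit 0))) (TN.node (TN.leaf (nat_lit 0)) (TN.leaf (nat_lit 0)))) (TN.node (TN.node (TN.leaf (nat_lit 0)) (TN.leaf (nat_lit 0))) (TN.node (TN.leaf (nat_lit 0)) (TN.leaf (nat_lit 0))))) (TN.node (TN.node (TN.node t1x (TN.leaf (nat_lit 0))) (TN.node (TN.leaf (nat_lit 0)) (TN.leaf (nat_lit 0)))) (TN.node (TN.node (TN.leaf (nat_lit 0)) (TN.leaf (nat_lit 0))) (TN.node (TN.leaf (nat_lit 0)) (TN.leaf (nat_lit 0))))))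
noncomputable def T (j c : ℕ) : ℕ := getL tt (nat_lit 7) (nat_lit 3) j c
noncomputable def E (j c : ℕ) : ℕ := getL tt (nat_lit 7) (nat_lit 127) j c
theorem T_eq (j c : ℕ) : T j c = E j c % 4 :=
  getL_mod (a := 2) (b := 7) _ _ (by norm_num) (by norm_num) (by norm_num) (by norm_num) j c
def rels : List (List ℕ) := [[nat_lit 0, nat_lit 1, nat_lit 0, nat_lit 1]]
def X_t : TN := (TN.leaf (nat_lit 0))
noncomputable def X (i : ℕ) : ℕ := get9 X_t (nat_lit 1) (nat_lit 1) i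
def Jp_t : TN := (TN.leaf (nat_lit 0))
noncomputable def Jp (i : ℕ) : ℕ := get9 Jp_t (nat_lit 1) (nat_lit 1) i
def J_t : TN := (TN.leaf (nat_lit 0))
noncomputable def J (k : ℕ) : ℕ := getV J_t Jp k
def Pa_t : TN := (TN.leaf (nat_lit 0x91414000))
noncomputable def Pa (i : ℕ) : ℕ := get9 Pa_t (nat_lit 8) (nat_lit 255) i
def W_t : TL := (TL.leaf [nat_lit 1, nat_lit 0, nat_lit 1, nat_lit 0, nat_lit 1])
noncomputable def W (i : ℕ) : List ℕ := TL.get W_t i
def WA_t : TL := (TL.leaf [nat_lit 0])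
noncomputable def WA (i : ℕ) : List ℕ := TL.get WA_t i
noncomputable def row : ℕ → ℕ := hRow (nat_lit 3) (nat_lit 2) (nat_lit 0) (nat_lit 4) (nat_lit 4) (nat_lit 16) (nat_lit 64) (nat_lit 64) (nat_lit 0) E X Pa (fun j => j) (wfun (nat_lit 1) W_t)
noncomputable def aux : ℕ → ℕ := hAux (nat_lit 4) (nat_lit 2) (nat_lit 4) (nat_lit 16) (nat_lit 64) (nat_lit 2) (nat_lit 2) (nat_lit 64) (nat_lit 0) E X J Pa (fun j => j) WA_t.get
theorem r0 : Nat.beq (rng row (nat_lit 0) (nat_lit 4)) (nat_lit 0) = true := by decide +kernel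
theorem rows : ∀ i < 4, row i = 0 := by
  have h := zero_lt_zero row
  have h := zero_lt_add (a := (nat_lit 0)) (n := (nat_lit 4)) (b := (nat_lit 4)) h r0 rfl
  exact h
theorem auxs : ∀ i < 0, aux i = 0 := by
  have h := zero_lt_zero aux
  exact h
theorem closes.{u} : ClosesT.{u} (fun j => j) rels 2 0 4 T :=
  hc_closes (N1 := (nat_lit 3)) rfl T_eq (by decide +kernel) rows auxs
theorem T_inv : ∀ c < 4, ∀ j < 2, T j c < 4 ∧ T j (T j c) = c := 
  hc_inv (inv := (fun j => j)) (N1 := (nat_lit 3)) rfl T_eq rows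
end L1

namespace L2
def t0x : TN := (TN.leaf (nat_lit 0xcf78ea94d78a6f49a3ac348e6cc990910))
def t1x : TN := (TN.leaf (nat_lit 0x22f826cd114416d988920822281501910))
def t2x : TN := (TN.leaf (nat_lit 0xe1101c8aeab69444d04c0240cd1088201))
def t3x : TN := (TN.leaf (nat_lit 0x81045a44b5b226829aa91140e44102202))
def tt : TN := (TN.node (TN.node (TN.node (TN.node t0x (TN.leaf (nat_lit 0))) (TN.node (TN.leaf (nat_lit 0)) (TN.leaf (nat_lit 0)))) (TN.node (TN.node t2x (TN.leaf (nat_lit 0))) (TN.node (TN.leaf (nat_lit 0)) (TN.leaf (nat_lit 0))))) (TN.node (TN.node (TN.node t1x (TN.leaf (nat_lit 0))) (TN.node (TN.leaf (nat_lit 0)) (TN.leaf (nat_lit 0)))) (TN.node (TN.node t3x (TN.leaf (nat_lit 0))) (TN.node (TN.leaf (nat_lit 0)) (TN.leaf (nat_lit 0))))))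
noncomputable def T (j c : ℕ) : ℕ := getL tt (nat_lit 11) (nat_lit 15) j c
noncomputable def E (j c : ℕ) : ℕ := getL tt (nat_lit 11) (nat_lit 2047) j c
theorem T_eq (j c : ℕ) : T j c = E j c % 16 :=
  getL_mod (a := 4) (b := 11) _ _ (by norm_num) (by norm_num) (by norm_num) (by norm_num) j c
def rels : List (List ℕ) := [[nat_lit 0, nat_lit 1, nat_lit 0, nat_lit 1], [nat_lit 0, nat_lit 2, nat_lit 0, nat_lit 2], [nat_lit 0, nat_lit 3, nat_lit 0, nat_lit 3], [nat_lit 1, nat_lit 2, nat_lit 1, nat_lit 2, nat_lit 1, nat_lit 2, nat_lit 1, nat_lit 2], [nat_lit 1, nat_lit 3, nat_lit 1, nat_lit 3, nat_lit 1, nat_lit 3], [nat_lit 2, nat_lit 3, nat_lit 2, nat_lit 3], [nat_lit 1, nat_lit 2, nat_lit 3, nat_lit 1, nat_lit 2, nat_lit 3, nat_lit 1, nat_lit 2, nat_lit 3]]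
def X_t : TN := (TN.leaf (nat_lit 0))
noncomputable def X (i : ℕ) : ℕ := get9 X_t (nat_lit 1) (nat_lit 1) i
def Jp_t : TN := (TN.leaf (nat_lit 0))
noncomputable def Jp (i : ℕ) : ℕ := get9 Jp_t (nat_lit 1) (nat_lit 1) i
def J_t : TN := (TN.leaf (nat_lit 0))
noncomputable def J (k : ℕ) : ℕ := getV J_t Jp k
def Pa_t : TN := (TN.leaf (nat_lit 0x8e318da9341666cc910a1342240c81000))
noncomputable def Pa (i : ℕ) : ℕ := get9 Pa_t (nat_lit 11) (nat_lit 2047) i
def W_t : TL := (TL.node (TL.node (TL.node (TL.node (TL.leaf [nat_lit 2049, nat_lit 0, nat_lit 2, nat_lit 0, nat_lit 2]) (TL.leaf [nat_lit 6147, nat_lit 2, nat_lit 1, nat_lit 2, nat_lit 1, nat_lit 2, nat_lit 1, nat_lit 2, nat_lit 1])) (TL.leaf [nat_lit 6145, nat_lit 1, nat_lit 2, nat_lit 1, nat_lit 2, nat_lit 1, nat_lit 2, nat_lit 1, nat_lit 2])) (TL.node (TL.leaf [nat_lit 10241, nat_lit 2, nat_lit 3, nat_lit 2, nat_lit 3]) (TL.leaf [nat_lit 10243, nat_lit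 3, nat_lit 2, nat_lit 3, nat_lit 2]))) (TL.node (TL.node (TL.leaf [nat_lit 4097, nat_lit 0, nat_lit 3, nat_lit 0, nat_lit 3]) (TL.leaf [nat_lit 1, nat_lit 0, nat_lit 1, nat_lit 0, nat_lit 1])) (TL.node (TL.leaf [nat_lit 8195, nat_lit 3, nat_lit 1, nat_lit 3, nat_lit 1, nat_lit 3, nat_lit 1]) (TL.leaf [nat_lit 12294, nat_lit 1, nat_lit 3, nat_lit 2, nat_lit 1, nat_lit 3, nat_lit 2, nat_lit 1, nat_lit 3, nat_lit 2]))))
noncomputable def W (i : ℕ) : List ℕ := TL.get W_t i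
def WA_t : TL := (TL.leaf [nat_lit 0])
noncomputable def WA (i : ℕ) : List ℕ := TL.get WA_t i
noncomputable def row : ℕ → ℕ := hRow (nat_lit 11) (nat_lit 4) (nat_lit 2) (nat_lit 16) (nat_lit 16) (nat_lit 256) (nat_lit 256) (nat_lit 256) (nat_lit 0) E X Pa (fun j => j) (wfun (nat_lit 9) W_t)
noncomputable def aux : ℕ → ℕ := hAux (nat_lit 12) (nat_lit 4) (nat_lit 16) (nat_lit 256) (nat_lit 256) (nat_lit 2) (nat_lit 2) (nat_lit 256) (nat_lit 0) E X J Pa (fun j => j) WA_t.get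
theorem r0 : Nat.beq (rng row (nat_lit 0) (nat_lit 12)) (nat_lit 0) = true := by decide +kernel
theorem rows : ∀ i < 12, row i = 0 := by
  have h := zero_lt_zero row
  have h := zero_lt_add (a := (nat_lit 0)) (n := (nat_lit 12)) (b := (nat_lit 12)) h r0 rfl
  exact h
theorem auxs : ∀ i < 0, aux i = 0 := by
  have h := zero_lt_zero aux
  exact h
theorem closes.{u} : ClosesT.{u} (fun j => j) rels 4 2 12 T :=
  hc_closes (N1 := (nat_lit 11)) rfl T_eq (by decide +kernel) rows auxs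
theorem T_inv : ∀ c < 12, ∀ j < 4, T j c < 12 ∧ T j (T j c) = c := 
  hc_inv (inv := (fun j => j)) (N1 := (nat_lit 11)) rfl T_eq rows
end L2

namespace L3
def t0x : TN := (TN.leaf (nat_lit 0x3897985b8c25a60ec3295994a8c9d260e830b398398c24a60e432b199488a2c251202a6f95478a23a551c286d95468a9b250d828ab94458a1aa5154286995548a9a25150288794338819a450c206591428899241482083915188a0a44c418a18c40861821040))
def t1x : TN := (TN.leaf (nat_lit 0x8957a89ba604d201e7175a8ba820b053284133c8ab5a54a401b500aa8b89402c42a0082644cb1253a92dc199214b6820902029292ba498533c65010318991c48208a42543927a0c38661a201f29858cb28208420191943918184022104119218802440081040))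
def t2x : TN := (TN.leaf (nat_lit 0xb9d7b40a6a0473025082c84161875c901b40123ec9a4d5878e7a63684139801ed860280e8412c8d3e104941d4041204056202a400a2c01d90aa785739c9900188da2580d5b5088088c0201043100f041084038201a542b0c64820823384100608028400a1040))
def t3x : TN := (TN.leaf (nat_lit 0xb0f7d47baa045302542d5ac061a7d2701b40f3c2d9a47d883e4082752db4e01ec1e0a00e9d67a67be659c31f438020e3b2a22a300a2645963aa51d739e984114afa241d030f08808c879a458c31e590008ac92d21a62c384104402433c418e18c828400c1040))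
def t4x : TN := (TN.leaf (nat_lit 0xb016b0086b35e105c8013c4079404a10577d35841492ed21050601030045735cb763900a42faa4034202c082446e7600181047101410028208d175f08228809974c420243ba4841102086fad908210d159001e201b100c080544026200e10068802c20802001))
def t5x : TN := (TN.leaf (nat_lit 0xa8160417c615d302b1017b4091a05140220829b42a900329a26400e36aa4209a30a11016c4068c01cc95b8d51bc048c022a0a708230c25d4014104544ac1d778404a104418481002440408415284a15730403a10411844080586816200f08200c20c400e2002))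
def t6x : TN := (TN.leaf (nat_lit 0x835900b420bf44af93d638099c044c7a9580c2809020a2c8aa900dcf0a08040104d101720048209278a3680e41278e94a9013200b041192018600b1013ba268af32400f0822152744042600a2002a5254669c400708208805c4028201020010410040102003))
def tt : TN := (TN.node (TN.node (TN.node (TN.node t0x (TN.leaf (nat_lit 0))) (TN.node t4x (TN.leaf (nat_lit 0)))) (TN.node (TN.node t2x (TN.leaf (nat_lit 0))) (TN.node t6x (TN.leaf (nat_lit 0))))) (TN.node (TN.node (TN.node t1x (TN.leaf (nat_lit 0))) (TN.node t5x (TN.leaf (nat_lit 0)))) (TN.node (TN.node t3x (TN.leaf (nat_lit 0))) (TN.node (TN.leaf (nat_lit 0)) (TN.leaf (nat_lit 0))))))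
noncomputable def T (j c : ℕ) : ℕ := getL tt (nat_lit 17) (nat_lit 63) j c
noncomputable def E (j c : ℕ) : ℕ := getL tt (nat_lit 17) (nat_lit 131071) j c
theorem T_eq (j c : ℕ) : T j c = E j c % 64 :=
  getL_mod (a := 6) (b := 17) _ _ (by norm_num) (by norm_num) (by norm_num) (by norm_num) j c
def rels : List (List ℕ) := [[nat_lit 0, nat_lit 1, nat_lit 0, nat_lit 1], [nat_lit 0, nat_lit 2, nat_lit 0, nat_lit 2], [nat_lit 0, nat_lit 3, nat_lit 0, nat_lit 3], [nat_lit 1, nat_lit 2, nat_lit 1, nat_lit 2, nat_lit 1, nat_lit 2, nat_lit 1, nat_lit 2], [nat_lit 1, nat_lit 3, nat_lit 1, nat_lit 3, nat_lit 1, nat_lit 3], [nat_lit 2, nat_lit 3, nat_lit 2, nat_lit 3], [nat_lit 1, nat_lit 2, nat_lit 3, nat_lit 1, nat_lit 2, nat_lit 3, nat_lit 1, nat_lit 2, nat_lit 3], [nat_lit 5, nat_lit 5, nat_lit 5], [nat_lit 0, nat_lit 4, nat_lit 0, nat_lit 4], [nat_lit 5, nat_lit 0, nat_lit 6, nat_lit 0], [nat_lit 5, nat_lit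 3, nat_lit 2, nat_lit 6, nat_lit 3], [nat_lit 6, nat_lit 1, nat_lit 5, nat_lit 2, nat_lit 1, nat_lit 2], [nat_lit 4, nat_lit 1, nat_lit 2, nat_lit 1, nat_lit 4, nat_lit 1, nat_lit 2, nat_lit 1], [nat_lit 4, nat_lit 1, nat_lit 3, nat_lit 1, nat_lit 4, nat_lit 1, nat_lit 3, nat_lit 1], [nat_lit 4, nat_lit 2, nat_lit 5, nat_lit 4, nat_lit 6, nat_lit 1, nat_lit 2, nat_lit 1, nat_lit 2], [nat_lit 4, nat_lit 5, nat_lit 1, nat_lit 6, nat_lit 4, nat_lit 1], [nat_lit 5, nat_lit 2, nat_lit 4, nat_lit 6, nat_lit 3, nat_lit 4, nat_lit 3, nat_lit 1, nat_lit 2, nat_lit 1]]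
def inv (i : ℕ) : ℕ := Nat.land (Nat.shiftRight (nat_lit 0xf74688) (Nat.mul (nat_lit 3) i)) (nat_lit 7)
def X_t : TN := (TN.leaf (nat_lit 0))
noncomputable def X (i : ℕ) : ℕ := get9 X_t (nat_lit 1) (nat_lit 1) i
def Jp_t : TN := (TN.leaf (nat_lit 0))
noncomputable def Jp (i : ℕ) : ℕ := get9 Jp_t (nat_lit 1) (nat_lit 1) i
def J_t : TN := (TN.leaf (nat_lit 0))
noncomputable def J (k : ℕ) : ℕ := getV J_t Jp k
def Pa_t : TN := (TN.leaf (nat_lit 0xb5b47d63ed1c48c9460a30317489ac49222d104871c3899aacd6660b2c992cc926423209902c74632b1998c8c5562a314d8a2c456233111068832412208904281540b204d0248112029018808000))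
noncomputable def Pa (i : ℕ) : ℕ := get9 Pa_t (nat_lit 13) (nat_lit 8191) i
def W_t : TL := (TL.node (TL.node (TL.node (TL.node (TL.node (TL.node (TL.leaf [nat_lit 14338, nat_lit 5, nat_lit 6, nat_lit 6]) (TL.leaf [nat_lit 20481, nat_lit 6, nat_lit 3, nat_lit 2, nat_lit 6, nat_lit 3])) (TL.leaf [nat_lit 14337, nat_lit 6, nat_lit 5, nat_lit 5])) (TL.node (TL.node (TL.leaf [nat_lit 30725, nat_lit 1, nat_lit 6, nat_lit 4, nat_lit 1, nat_lit 4, nat_lit 5]) (TL.leaf [nat_lit 30727, nat_lit 5, nat_lit 4, nat_lit 1, nat_lit 4, nat_lit 5, nat_lit 1])) (TL.leaf [nat_lit 22539, nat_lit 2, nat_lit 6, nat_lit 1, nat_lit 5, nat_lit 2, nat_lit 1]))) (TL.node (TL.node (TL.node (TL.leaf [nat_lit 10241, nat_lit 2, nat_lit 3, nat_lit 2, nat_lit 3]) (TL.leaf [nat_lit 30729, nat_lit 4, nat_lit 1, nat_lit 4, nat_lit 5, nat_lit 1, nat_lit 6])) (TL.leaf [nat_lit 10243, nat_lit 3, nat_lit 2, nat_lit 3, nat_lit 2])) (TL.node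 (TL.node (TL.leaf [nat_lit 24581, nat_lit 2, nat_lit 1, nat_lit 4, nat_lit 1, nat_lit 2, nat_lit 1, nat_lit 4, nat_lit 1]) (TL.leaf [nat_lit 28684, nat_lit 4, nat_lit 6, nat_lit 2, nat_lit 4, nat_lit 2, nat_lit 1, nat_lit 2, nat_lit 1, nat_lit 5])) (TL.leaf [nat_lit 22533, nat_lit 6, nat_lit 2, nat_lit 1, nat_lit 2, nat_lit 6, nat_lit 1])))) (TL.node (TL.node (TL.node (TL.node (TL.leaf [nat_lit 18435, nat_lit 0, nat_lit 6, nat_lit 0, nat_lit 5]) (TL.leaf [nat_lit 20482, nat_lit 3, nat_lit 5, nat_lit 2, nat_lit 3, nat_lit 6])) (TL.leaf [nat_lit 2049, nat_lit 0, nat_lit 2, nat_lit 0, nat_lit 2])) (TL.node (TL.node (TL.leaf [nat_lit 30731, nat_lit 1, nat_lit 4, nat_lit 5, nat_lit 1, nat_lit 6, nat_lit 4]) (TL.leaf [nat_lit 32771, nat_lit 2, nat_lit 4, nat_lit 6, nat_lit 3, nat_lit 4, nat_lit 3, nat_lit 1, nat_lit 2, nat_lit 1, nat_lit 5])) (TL.leaf [nat_lit 12294, nat_lit 1, nat_lit 3, nat_lit 2, nat_lit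 1, nat_lit 3, nat_lit 2, nat_lit 1, nat_lit 3, nat_lit 2]))) (TL.node (TL.node (TL.node (TL.leaf [nat_lit 20488, nat_lit 3, nat_lit 6, nat_lit 3, nat_lit 5, nat_lit 2]) (TL.leaf [nat_lit 32775, nat_lit 5, nat_lit 3, nat_lit 4, nat_lit 3, nat_lit 1, nat_lit 2, nat_lit 1, nat_lit 5, nat_lit 2, nat_lit 4])) (TL.leaf [nat_lit 8193, nat_lit 1, nat_lit 3, nat_lit 1, nat_lit 3, nat_lit 1, nat_lit 3])) (TL.node (TL.node (TL.leaf [nat_lit 28686, nat_lit 5, nat_lit 2, nat_lit 4, nat_lit 2, nat_lit 1, nat_lit 2, nat_lit 1, nat_lit 5, nat_lit 4]) (TL.leaf [nat_lit 20484, nat_lit 6, nat_lit 2, nat_lit 3, nat_lit 6, nat_lit 3])) (TL.leaf [nat_lit 32785, nat_lit 2, nat_lit 1, nat_lit 5, nat_lit 2, nat_lit 4, nat_lit 6, nat_lit 3, nat_lit 4, nat_lit 3, nat_lit 1]))))) (TL.node (TL.node (TL.node (TL.node (TL.node (TL.leaf [nat_lit 16385, nat_lit 0, nat_lit 4, nat_lit 0, nat_lit 4]) (TL.leaf [nat_lit 28688, nat_lit 2,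 nat_lit 4, nat_lit 2, nat_lit 1, nat_lit 2, nat_lit 1, nat_lit 5, nat_lit 4, nat_lit 6])) (TL.leaf [nat_lit 1, nat_lit 0, nat_lit 1, nat_lit 0, nat_lit 1])) (TL.node (TL.node (TL.leaf [nat_lit 22537, nat_lit 1, nat_lit 2, nat_lit 6, nat_lit 1, nat_lit 5, nat_lit 2]) (TL.leaf [nat_lit 32778, nat_lit 4, nat_lit 3, nat_lit 5, nat_lit 4, nat_lit 2, nat_lit 6, nat_lit 1, nat_lit 2, nat_lit 1, nat_lit 3])) (TL.leaf [nat_lit 6147, nat_lit 2, nat_lit 1, nat_lit 2, nat_lit 1, nat_lit 2, nat_lit 1, nat_lit 2, nat_lit 1]))) (TL.node (TL.node (TL.node (TL.leaf [nat_lit 20489, nat_lit 3, nat_lit 5, nat_lit 3, nat_lit 2, nat_lit 6]) (TL.leaf [nat_lit 26631, nat_lit 1, nat_lit 4, nat_lit 1, nat_lit 3, nat_lit 1, nat_lit 4, nat_lit 1, nat_lit 3])) (TL.leaf [nat_lit 20487, nat_lit 5, nat_lit 3, nat_lit 5, nat_lit 3, nat_lit 2])) (TL.node (TL.node (TL.leaf [nat_lit 26629, nat_lit 3, nat_lit 1, nat_lit 4, nat_lit 1, nat_lit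 3, nat_lit 1, nat_lit 4, nat_lit 1]) (TL.leaf [nat_lit 28679, nat_lit 4, nat_lit 6, nat_lit 1, nat_lit 2, nat_lit 1, nat_lit 2, nat_lit 4, nat_lit 2, nat_lit 5])) (TL.leaf [nat_lit 12293, nat_lit 3, nat_lit 1, nat_lit 2, nat_lit 3, nat_lit 1, nat_lit 2, nat_lit 3, nat_lit 1, nat_lit 2])))) (TL.node (TL.node (TL.node (TL.node (TL.leaf [nat_lit 18439, nat_lit 0, nat_lit 5, nat_lit 0, nat_lit 6]) (TL.leaf [nat_lit 28681, nat_lit 5, nat_lit 1, nat_lit 2, nat_lit 1, nat_lit 2, nat_lit 4, nat_lit 2, nat_lit 5, nat_lit 4])) (TL.leaf [nat_lit 4097, nat_lit 0, nat_lit 3, nat_lit 0, nat_lit 3])) (TL.node (TL.node (TL.leaf [nat_lit 30723, nat_lit 6, nat_lit 1, nat_lit 6, nat_lit 4, nat_lit 1, nat_lit 4]) (TL.leaf [nat_lit 20483, nat_lit 3, nat_lit 2, nat_lit 6, nat_lit 3, nat_lit 5])) (TL.leaf [nat_lit 30721, nat_lit 4, nat_lit 5, nat_lit 1, nat_lit 6, nat_lit 4, nat_lit 1]))) (TL.node (TL.node (TL.node (TL.leaf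 [nat_lit 22531, nat_lit 1, nat_lit 5, nat_lit 2, nat_lit 1, nat_lit 2, nat_lit 6]) (TL.leaf [nat_lit 24577, nat_lit 4, nat_lit 1, nat_lit 2, nat_lit 1, nat_lit 4, nat_lit 1, nat_lit 2, nat_lit 1])) (TL.leaf [nat_lit 8195, nat_lit 3, nat_lit 1, nat_lit 3, nat_lit 1, nat_lit 3, nat_lit 1])) (TL.node (TL.node (TL.leaf [nat_lit 32784, nat_lit 4, nat_lit 2, nat_lit 6, nat_lit 1, nat_lit 2, nat_lit 1, nat_lit 3, nat_lit 4, nat_lit 3, nat_lit 5]) (TL.leaf [nat_lit 20486, nat_lit 2, nat_lit 3, nat_lit 6, nat_lit 3, nat_lit 5])) (TL.leaf [nat_lit 20485, nat_lit 2, nat_lit 6, nat_lit 3, nat_lit 5, nat_lit 3]))))))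
noncomputable def W (i : ℕ) : List ℕ := TL.get W_t i
def WA_t : TL := (TL.leaf [nat_lit 0])
noncomputable def WA (i : ℕ) : List ℕ := TL.get WA_t i
noncomputable def row : ℕ → ℕ := hRow (nat_lit 47) (nat_lit 7) (nat_lit 4) (nat_lit 64) (nat_lit 64) (nat_lit 4096) (nat_lit 1024) (nat_lit 1024) (nat_lit 0) E X Pa inv (wfun (nat_lit 48) W_t)
noncomputable def aux : ℕ → ℕ := hAux (nat_lit 48) (nat_lit 7) (nat_lit 64) (nat_lit 4096) (nat_lit 1024) (nat_lit 2) (nat_lit 2) (nat_lit 1024) (nat_lit 0) E X J Pa inv WA_t.get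
theorem r0 : Nat.beq (rng row (nat_lit 0) (nat_lit 48)) (nat_lit 0) = true := by decide +kernel
theorem rows : ∀ i < 48, row i = 0 := by
  have h := zero_lt_zero row
  have h := zero_lt_add (a := (nat_lit 0)) (n := (nat_lit 48)) (b := (nat_lit 48)) h r0 rfl
  exact h
theorem auxs : ∀ i < 0, aux i = 0 := by
  have h := zero_lt_zero aux
  exact h
theorem closes.{u} : ClosesT.{u} inv rels 7 4 48 T :=
  hc_closes (N1 := (nat_lit 47)) rfl T_eq (by decide +kernel) rows auxs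
theorem T_inv : ∀ c < 48, ∀ j < 7, T j c < 48 ∧ T (inv j) (T j c) = c := 
  hc_inv (inv := inv) (N1 := (nat_lit 47)) rfl T_eq rows
end L3

namespace L4
def t0x : TN := (TN.leaf (nat_lit 0xe2ec1c1d638fa871d48e2a81c1ce30d9861728c364181c630f8861b08c0e0186be30b78606e8c2dc181b631568616c8c2981872e30d58506a8a354146a628a4850688a3d01471e2953851468a3cc1471628f2851c48a3481458e20f1841c2883441058620a08306082040))
def t1x : TN := (TN.leaf (nat_lit 0x3e0296d0d6d0081e2360205d41846c13998232b20174404eb807cd007327ea58fc42917820141c00b4402c3a168c00802049609c88316cf42a9400c149a60811570e89645914010613841022124d43493831f28200c0848f14b8e1871820090400d1088608104200102040))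
def t2x : TN := (TN.leaf (nat_lit 0x20637004cdc0a9d574b2020215cedabac1028b401508058c00510009b10685002c0812d456e8204a4001a4805c10248e00f20eb49b67d95522f0223d5426002020129400518cb048018f56d8e0040803c10070200c96a920408441d3894a80c6cc040821001c200182040))
def t3x : TN := (TN.leaf (nat_lit 0xa0251c040a90a9d094b40261c24ec98a04196340121002289089200b0c12b600263002c708e8e31c4001a08124800b8c6181cb328b384e004166145de3ecb39030919200518c1e08110f08d8a00614b3c31028200d1a115180042103082080400e1060629a1c308082040))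
def t4x : TN := (TN.leaf (nat_lit 0x42fec75dcada7a5c015369e85003a08145e0158205055d46c005c1026aee6004096b00493713aa0194802a68061472e18b5a5dfc40811d16ad820460408aabb782013040242539c5003c201090a4a0803e480305001820420802c1005020098204110a1210020200202040))
def t5x : TN := (TN.leaf (nat_lit 0x400287404c081743055360234804ed0095d055ae016593580813440091e0205563e880382014a601b440343a67090511e81e280288325597d21000759f426ac4d57a8820440c12048060740c820430c118081083045080080802e0810430430400f0801610024200282040))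
def t6x : TN := (TN.leaf (nat_lit 0x2e0237804a200a4102ebf1ec45a4ee45ad98533401568f505006570099cbe05803e8006020151001a4923881e6c80069078e0408eb0691100b12917380241868560088800f040888247820110800b04086200241021062481d1a8200141020840100801810028200304000))
def t7x : TN := (TN.leaf (nat_lit 0x38024040bce46a9c01136026040b0d43a0e0093616c0409cdc4a5500b0204b1c020100ac102526ddc0409278034e00b8402735432a0584102316b941000a6859410220c71f1d41e1008ce5cd1a0080804010074200d9870c1c004100543109840110c2863221c102004001))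
def tt : TN := (TN.node (TN.node (TN.node (TN.node t0x (TN.leaf (nat_lit 0))) (TN.node t4x (TN.leaf (nat_lit 0)))) (TN.node (TN.node t2x (TN.leaf (nat_lit 0))) (TN.node t6x (TN.leaf (nat_lit 0))))) (TN.node (TN.node (TN.node t1x (TN.leaf (nat_lit 0))) (TN.node t5x (TN.leaf (nat_lit 0)))) (TN.node (TN.node t3x (TN.leaf (nat_lit 0))) (TN.node t7x (TN.leaf (nat_lit 0))))))
noncomputable def T (j c : ℕ) : ℕ := getL tt (nat_lit 19) (nat_lit 63) j c
noncomputable def E (j c : ℕ) : ℕ := getL tt (nat_lit 19) (nat_lit 524287) j c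
theorem T_eq (j c : ℕ) : T j c = E j c % 64 :=
  getL_mod (a := 6) (b := 19) _ _ (by norm_num) (by norm_num) (by norm_num) (by norm_num) j c
def rels : List (List ℕ) := [[nat_lit 0, nat_lit 1, nat_lit 0, nat_lit 1], [nat_lit 0, nat_lit 2, nat_lit 0, nat_lit 2], [nat_lit 0, nat_lit 3, nat_lit 0, nat_lit 3], [nat_lit 1, nat_lit 2, nat_lit 1, nat_lit 2, nat_lit 1, nat_lit 2, nat_lit 1, nat_lit 2], [nat_lit 1, nat_lit 3, nat_lit 1, nat_lit 3, nat_lit 1, nat_lit 3], [nat_lit 2, nat_lit 3, nat_lit 2, nat_lit 3], [nat_lit 1, nat_lit 2, nat_lit 3, nat_lit 1, nat_lit 2, nat_lit 3, nat_lit 1, nat_lit 2, nat_lit 3], [nat_lit 5, nat_lit 5, nat_lit 5], [nat_lit 0, nat_lit 4, nat_lit 0, nat_lit 4], [nat_lit 5, nat_lit 0, nat_lit 6, nat_lit 0], [nat_lit 5, nat_lit 3, nat_lit 2, nat_lit 6, nat_lit 3], [nat_lit 6, nat_lit 1, nat_lit 5, nat_lit 2, nat_lit 1, nat_lit 2], [nat_lit 4, nat_lit 1, nat_lit 2, nat_lit 1, nat_lit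 4, nat_lit 1, nat_lit 2, nat_lit 1], [nat_lit 4, nat_lit 1, nat_lit 3, nat_lit 1, nat_lit 4, nat_lit 1, nat_lit 3, nat_lit 1], [nat_lit 4, nat_lit 2, nat_lit 5, nat_lit 4, nat_lit 6, nat_lit 1, nat_lit 2, nat_lit 1, nat_lit 2], [nat_lit 4, nat_lit 5, nat_lit 1, nat_lit 6, nat_lit 4, nat_lit 1], [nat_lit 5, nat_lit 2, nat_lit 4, nat_lit 6, nat_lit 3, nat_lit 4, nat_lit 3, nat_lit 1, nat_lit 2, nat_lit 1], [nat_lit 0, nat_lit 7, nat_lit 0, nat_lit 7], [nat_lit 2, nat_lit 7, nat_lit 2, nat_lit 7, nat_lit 2, nat_lit 7], [nat_lit 3, nat_lit 7, nat_lit 3, nat_lit 7], [nat_lit 5, nat_lit 7, nat_lit 5, nat_lit 7, nat_lit 5, nat_lit 7, nat_lit 5, nat_lit 7, nat_lit 5, nat_lit 7], [nat_lit 1, nat_lit 3, nat_lit 7, nat_lit 1, nat_lit 3, nat_lit 7, nat_lit 1, nat_lit 3, nat_lit 7], [nat_lit 7, nat_lit 1, nat_lit 3, nat_lit 2, nat_lit 1, nat_lit 7, nat_lit 6, nat_lit 1, nat_lit 5], [nat_lit 7, nat_lit 2, nat_lit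 4, nat_lit 6, nat_lit 1, nat_lit 7, nat_lit 3, nat_lit 1, nat_lit 5, nat_lit 4, nat_lit 2, nat_lit 3], [nat_lit 7, nat_lit 5, nat_lit 7, nat_lit 4, nat_lit 6, nat_lit 7, nat_lit 4, nat_lit 6, nat_lit 4, nat_lit 6, nat_lit 1], [nat_lit 7, nat_lit 1, nat_lit 2, nat_lit 6, nat_lit 4, nat_lit 5, nat_lit 7, nat_lit 1, nat_lit 3, nat_lit 1, nat_lit 6, nat_lit 4, nat_lit 5], [nat_lit 7, nat_lit 1, nat_lit 4, nat_lit 1, nat_lit 6, nat_lit 4, nat_lit 7, nat_lit 1, nat_lit 4, nat_lit 5, nat_lit 4, nat_lit 1]]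
def inv (i : ℕ) : ℕ := Nat.land (Nat.shiftRight (nat_lit 0x875643210) (Nat.mul (nat_lit 4) i)) (nat_lit 15)
def X_t : TN := (TN.leaf (nat_lit 0))
noncomputable def X (i : ℕ) : ℕ := get9 X_t (nat_lit 1) (nat_lit 1) i
def Jp_t : TN := (TN.leaf (nat_lit 0))
noncomputable def Jp (i : ℕ) : ℕ := get9 Jp_t (nat_lit 1) (nat_lit 1) i
def J_t : TN := (TN.leaf (nat_lit 0))
noncomputable def J (k : ℕ) : ℕ := getV J_t Jp k
def Pa_t : TN := (TN.leaf (nat_lit 0x1632af3d756bad5d1ac3c452225104873c3561a90b785a42ca14f0a284bc24e12509183b41d18cec6462a314588ec45623310d882c3561b309584cc24611205502c814409204480e000))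
noncomputable def Pa (i : ℕ) : ℕ := get9 Pa_t (nat_lit 13) (nat_lit 8191) i
def W_t1 : TL := (TL.node (TL.node (TL.node (TL.node (TL.node (TL.node (TL.leaf [nat_lit 14338, nat_lit 5, nat_lit 6, nat_lit 6]) (TL.leaf [nat_lit 51211, nat_lit 6, nat_lit 7, nat_lit 1, nat_lit 3, nat_lit 1, nat_lit 6, nat_lit 4, nat_lit 5, nat_lit 7, nat_lit 1, nat_lit 2, nat_lit 6, nat_lit 4])) (TL.leaf [nat_lit 43013, nat_lit 7, nat_lit 1, nat_lit 3, nat_lit 7, nat_lit 1, nat_lit 3, nat_lit 7, nat_lit 1, nat_lit 3])) (TL.node (TL.leaf [nat_lit 30725, nat_lit 1, nat_lit 6, nat_lit 4, nat_lit 1, nat_lit 4, nat_lit 5]) (TL.leaf [nat_lit 51221, nat_lit 5, nat_lit 4, nat_lit 5, nat_lit 7, nat_lit 1, nat_lit 2, nat_lit 6, nat_lit 4, nat_lit 5, nat_lit 7, nat_lit 1, nat_lit 3, nat_lit 1]))) (TL.node (TL.node (TL.leaf [nat_lit 1, nat_lit 0, nat_lit 1, nat_lit 0, nat_lit 1]) (TL.leaf [nat_lit 22539, nat_lit 2, nat_lit 6, nat_lit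 1, nat_lit 5, nat_lit 2, nat_lit 1])) (TL.node (TL.leaf [nat_lit 12293, nat_lit 3, nat_lit 1, nat_lit 2, nat_lit 3, nat_lit 1, nat_lit 2, nat_lit 3, nat_lit 1, nat_lit 2]) (TL.leaf [nat_lit 53253, nat_lit 4, nat_lit 1, nat_lit 6, nat_lit 4, nat_lit 7, nat_lit 1, nat_lit 4, nat_lit 5, nat_lit 4, nat_lit 1, nat_lit 7, nat_lit 1])))) (TL.node (TL.node (TL.node (TL.node (TL.leaf [nat_lit 30723, nat_lit 6, nat_lit 1, nat_lit 6, nat_lit 4, nat_lit 1, nat_lit 4]) (TL.leaf [nat_lit 40963, nat_lit 7, nat_lit 5, nat_lit 7, nat_lit 5, nat_lit 7, nat_lit 5, nat_lit 7, nat_lit 5, nat_lit 7, nat_lit 5])) (TL.leaf [nat_lit 20487, nat_lit 5, nat_lit 3, nat_lit 5, nat_lit 3, nat_lit 2])) (TL.node (TL.leaf [nat_lit 20488, nat_lit 3, nat_lit 6, nat_lit 3, nat_lit 5, nat_lit 2]) (TL.leaf [nat_lit 28675, nat_lit 2, nat_lit 5, nat_lit 4, nat_lit 6, nat_lit 1, nat_lit 2, nat_lit 1, nat_lit 2, nat_lit 4]))) (TL.node (TL.node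 (TL.leaf [nat_lit 18435, nat_lit 0, nat_lit 6, nat_lit 0, nat_lit 5]) (TL.leaf [nat_lit 53249, nat_lit 7, nat_lit 1, nat_lit 4, nat_lit 1, nat_lit 6, nat_lit 4, nat_lit 7, nat_lit 1, nat_lit 4, nat_lit 5, nat_lit 4, nat_lit 1])) (TL.node (TL.leaf [nat_lit 20481, nat_lit 6, nat_lit 3, nat_lit 2, nat_lit 6, nat_lit 3]) (TL.leaf [nat_lit 30727, nat_lit 5, nat_lit 4, nat_lit 1, nat_lit 4, nat_lit 5, nat_lit 1]))))) (TL.node (TL.node (TL.node (TL.node (TL.node (TL.leaf [nat_lit 38913, nat_lit 3, nat_lit 7, nat_lit 3, nat_lit 7]) (TL.leaf [nat_lit 45057, nat_lit 7, nat_lit 1, nat_lit 3, nat_lit 2, nat_lit 1, nat_lit 7, nat_lit 6, nat_lit 1, nat_lit 5])) (TL.leaf [nat_lit 14337, nat_lit 6, nat_lit 5, nat_lit 5])) (TL.node (TL.leaf [nat_lit 47123, nat_lit 4, nat_lit 2, nat_lit 3, nat_lit 7, nat_lit 2, nat_lit 4, nat_lit 6, nat_lit 1, nat_lit 7, nat_lit 3, nat_lit 1, nat_lit 5]) (TL.leaf [nat_lit 49155, nat_lit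 6, nat_lit 7, nat_lit 4, nat_lit 6, nat_lit 7, nat_lit 4, nat_lit 6, nat_lit 4, nat_lit 6, nat_lit 1, nat_lit 7]))) (TL.node (TL.node (TL.leaf [nat_lit 10243, nat_lit 3, nat_lit 2, nat_lit 3, nat_lit 2]) (TL.leaf [nat_lit 28686, nat_lit 5, nat_lit 2, nat_lit 4, nat_lit 2, nat_lit 1, nat_lit 2, nat_lit 1, nat_lit 5, nat_lit 4])) (TL.node (TL.leaf [nat_lit 49164, nat_lit 7, nat_lit 5, nat_lit 4, nat_lit 7, nat_lit 6, nat_lit 7, nat_lit 1, nat_lit 5, nat_lit 4, nat_lit 5, nat_lit 4]) (TL.leaf [nat_lit 32777, nat_lit 3, nat_lit 4, nat_lit 3, nat_lit 1, nat_lit 2, nat_lit 1, nat_lit 5, nat_lit 2, nat_lit 4, nat_lit 6])))) (TL.node (TL.node (TL.node (TL.leaf [nat_lit 49170, nat_lit 7, nat_lit 6, nat_lit 7, nat_lit 1, nat_lit 5, nat_lit 4, nat_lit 5, nat_lit 4, nat_lit 7, nat_lit 5, nat_lit 4]) (TL.leaf [nat_lit 47115, nat_lit 7, nat_lit 3, nat_lit 1, nat_lit 5, nat_lit 4, nat_lit 2, nat_lit 3, nat_lit 7, nat_lit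 2, nat_lit 4, nat_lit 6, nat_lit 1])) (TL.node (TL.leaf [nat_lit 26629, nat_lit 3, nat_lit 1, nat_lit 4, nat_lit 1, nat_lit 3, nat_lit 1, nat_lit 4, nat_lit 1]) (TL.leaf [nat_lit 49168, nat_lit 4, nat_lit 7, nat_lit 6, nat_lit 7, nat_lit 1, nat_lit 5, nat_lit 4, nat_lit 5, nat_lit 4, nat_lit 7, nat_lit 5]))) (TL.node (TL.node (TL.leaf [nat_lit 20489, nat_lit 3, nat_lit 5, nat_lit 3, nat_lit 2, nat_lit 6]) (TL.leaf [nat_lit 43009, nat_lit 1, nat_lit 3, nat_lit 7, nat_lit 1, nat_lit 3, nat_lit 7, nat_lit 1, nat_lit 3, nat_lit 7])) (TL.node (TL.leaf [nat_lit 22529, nat_lit 5, nat_lit 1, nat_lit 5, nat_lit 2, nat_lit 1, nat_lit 2]) (TL.leaf [nat_lit 6147, nat_lit 2, nat_lit 1, nat_lit 2, nat_lit 1, nat_lit 2, nat_lit 1, nat_lit 2, nat_lit 1]))))))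
def W_t2 : TL := (TL.node (TL.node (TL.node (TL.node (TL.node (TL.node (TL.leaf [nat_lit 34817, nat_lit 0, nat_lit 7, nat_lit 0, nat_lit 7]) (TL.leaf [nat_lit 43010, nat_lit 7, nat_lit 3, nat_lit 1, nat_lit 7, nat_lit 3, nat_lit 1, nat_lit 7, nat_lit 3, nat_lit 1])) (TL.leaf [nat_lit 51206, nat_lit 6, nat_lit 1, nat_lit 3, nat_lit 1, nat_lit 7, nat_lit 6, nat_lit 4, nat_lit 5, nat_lit 2, nat_lit 1, nat_lit 7, nat_lit 6, nat_lit 4])) (TL.node (TL.leaf [nat_lit 30731, nat_lit 1, nat_lit 4, nat_lit 5, nat_lit 1, nat_lit 6, nat_lit 4]) (TL.leaf [nat_lit 8195, nat_lit 3, nat_lit 1, nat_lit 3, nat_lit 1, nat_lit 3, nat_lit 1]))) (TL.node (TL.node (TL.leaf [nat_lit 2049, nat_lit 0, nat_lit 2, nat_lit 0, nat_lit 2]) (TL.leaf [nat_lit 36865, nat_lit 2, nat_lit 7, nat_lit 2, nat_lit 7, nat_lit 2, nat_lit 7])) (TL.node (TL.leaf [nat_lit 28688, nat_lit 2, nat_lit 4, nat_lit 2, nat_lit 1, nat_lit 2, nat_lit 1, nat_lit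 5, nat_lit 4, nat_lit 6]) (TL.leaf [nat_lit 24577, nat_lit 4, nat_lit 1, nat_lit 2, nat_lit 1, nat_lit 4, nat_lit 1, nat_lit 2, nat_lit 1])))) (TL.node (TL.node (TL.node (TL.node (TL.leaf [nat_lit 45071, nat_lit 1, nat_lit 5, nat_lit 7, nat_lit 1, nat_lit 3, nat_lit 2, nat_lit 1, nat_lit 7, nat_lit 6]) (TL.leaf [nat_lit 22533, nat_lit 6, nat_lit 2, nat_lit 1, nat_lit 2, nat_lit 6, nat_lit 1])) (TL.leaf [nat_lit 30729, nat_lit 4, nat_lit 1, nat_lit 4, nat_lit 5, nat_lit 1, nat_lit 6])) (TL.node (TL.leaf [nat_lit 6145, nat_lit 1, nat_lit 2, nat_lit 1, nat_lit 2, nat_lit 1, nat_lit 2, nat_lit 1, nat_lit 2]) (TL.leaf [nat_lit 49174, nat_lit 7, nat_lit 1, nat_lit 5, nat_lit 4, nat_lit 5, nat_lit 4, nat_lit 7, nat_lit 5, nat_lit 4, nat_lit 7, nat_lit 6]))) (TL.node (TL.node (TL.leaf [nat_lit 18439, nat_lit 0, nat_lit 5, nat_lit 0, nat_lit 6]) (TL.leaf [nat_lit 40961, nat_lit 6, nat_lit 7, nat_lit 5, nat_lit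 7, nat_lit 5, nat_lit 7, nat_lit 5, nat_lit 7, nat_lit 5, nat_lit 7])) (TL.node (TL.leaf [nat_lit 22531, nat_lit 1, nat_lit 5, nat_lit 2, nat_lit 1, nat_lit 2, nat_lit 6]) (TL.leaf [nat_lit 30721, nat_lit 4, nat_lit 5, nat_lit 1, nat_lit 6, nat_lit 4, nat_lit 1]))))) (TL.node (TL.node (TL.node (TL.node (TL.node (TL.leaf [nat_lit 36867, nat_lit 7, nat_lit 2, nat_lit 7, nat_lit 2, nat_lit 7, nat_lit 2]) (TL.leaf [nat_lit 20484, nat_lit 6, nat_lit 2, nat_lit 3, nat_lit 6, nat_lit 3])) (TL.leaf [nat_lit 20485, nat_lit 2, nat_lit 6, nat_lit 3, nat_lit 5, nat_lit 3])) (TL.node (TL.leaf [nat_lit 4097, nat_lit 0, nat_lit 3, nat_lit 0, nat_lit 3]) (TL.leaf [nat_lit 53259, nat_lit 4, nat_lit 7, nat_lit 1, nat_lit 4, nat_lit 5, nat_lit 4, nat_lit 1, nat_lit 7, nat_lit 1, nat_lit 4, nat_lit 1, nat_lit 6]))) (TL.node (TL.node (TL.leaf [nat_lit 16385, nat_lit 0, nat_lit 4, nat_lit 0, nat_lit 4]) (TL.leaf [nat_lit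 28690, nat_lit 4, nat_lit 2, nat_lit 1, nat_lit 2, nat_lit 1, nat_lit 5, nat_lit 4, nat_lit 6, nat_lit 2])) (TL.node (TL.leaf [nat_lit 10241, nat_lit 2, nat_lit 3, nat_lit 2, nat_lit 3]) (TL.leaf [nat_lit 49172, nat_lit 5, nat_lit 7, nat_lit 1, nat_lit 5, nat_lit 4, nat_lit 5, nat_lit 4, nat_lit 7, nat_lit 5, nat_lit 4, nat_lit 7])))) (TL.node (TL.node (TL.node (TL.leaf [nat_lit 53267, nat_lit 6, nat_lit 4, nat_lit 1, nat_lit 7, nat_lit 1, nat_lit 4, nat_lit 1, nat_lit 6, nat_lit 4, nat_lit 7, nat_lit 1, nat_lit 4]) (TL.leaf [nat_lit 51218, nat_lit 4, nat_lit 5, nat_lit 2, nat_lit 1, nat_lit 7, nat_lit 6, nat_lit 4, nat_lit 5, nat_lit 1, nat_lit 3, nat_lit 1, nat_lit 7, nat_lit 6])) (TL.node (TL.leaf [nat_lit 24581, nat_lit 2, nat_lit 1, nat_lit 4, nat_lit 1, nat_lit 2, nat_lit 1, nat_lit 4, nat_lit 1]) (TL.leaf [nat_lit 49159, nat_lit 4, nat_lit 6, nat_lit 7, nat_lit 4, nat_lit 6, nat_lit 4, nat_lit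 6, nat_lit 1, nat_lit 7, nat_lit 5, nat_lit 7]))) (TL.node (TL.node (TL.leaf [nat_lit 22537, nat_lit 1, nat_lit 2, nat_lit 6, nat_lit 1, nat_lit 5, nat_lit 2]) (TL.leaf [nat_lit 24583, nat_lit 1, nat_lit 4, nat_lit 1, nat_lit 2, nat_lit 1, nat_lit 4, nat_lit 1, nat_lit 2])) (TL.node (TL.leaf [nat_lit 8193, nat_lit 1, nat_lit 3, nat_lit 1, nat_lit 3, nat_lit 1, nat_lit 3]) (TL.leaf [nat_lit 51205, nat_lit 2, nat_lit 6, nat_lit 4, nat_lit 5, nat_lit 7, nat_lit 1, nat_lit 3, nat_lit 1, nat_lit 6, nat_lit 4, nat_lit 5, nat_lit 7, nat_lit 1]))))))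
def W_t : TL := (TL.node W_t1 W_t2)
noncomputable def W (i : ℕ) : List ℕ := TL.get W_t i
def WA_t : TL := (TL.leaf [nat_lit 0])
noncomputable def WA (i : ℕ) : List ℕ := TL.get WA_t i
noncomputable def row : ℕ → ℕ := hRow (nat_lit 44) (nat_lit 8) (nat_lit 7) (nat_lit 64) (nat_lit 128) (nat_lit 8192) (nat_lit 1024) (nat_lit 1024) (nat_lit 0) E X Pa inv (wfun (nat_lit 70) W_t)
noncomputable def aux : ℕ → ℕ := hAux (nat_lit 45) (nat_lit 8) (nat_lit 64) (nat_lit 8192) (nat_lit 1024) (nat_lit 2) (nat_lit 2) (nat_lit 1024) (nat_lit 0) E X J Pa inv WA_t.get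
theorem r0 : Nat.beq (rng row (nat_lit 0) (nat_lit 45)) (nat_lit 0) = true := by decide +kernel
theorem rows : ∀ i < 45, row i = 0 := by
  have h := zero_lt_zero row
  have h := zero_lt_add (a := (nat_lit 0)) (n := (nat_lit 45)) (b := (nat_lit 45)) h r0 rfl
  exact h
theorem auxs : ∀ i < 0, aux i = 0 := by
  have h := zero_lt_zero aux
  exact h
theorem closes.{u} : ClosesT.{u} inv rels 8 7 45 T :=
  hc_closes (N1 := (nat_lit 44)) rfl T_eq (by decide +kernel) rows auxs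
theorem T_inv : ∀ c < 45, ∀ j < 8, T j c < 45 ∧ T (inv j) (T j c) = c := 
  hc_inv (inv := inv) (N1 := (nat_lit 44)) rfl T_eq rows
end L4

namespace L5
def t0x : TN := (TN.leaf (nat_lit 0x302df5202fc4809ec9827a382de4e0af83809dce0af62827d450b742237cce0df2140fc4b89f02e2bbcb8dee0e0fb518dec0e0fac38aea3637a440368100b9ce8de63c3794c8de424378cc0de2360d84d82e0362b7cd8dde4401009805b24277038057320160c03d90c2b686003d2a010498dd4120b4cd0dd21001304004b3600e840049123734383510e2b40b0dca0e2b38600432000f0303c60c271430ac4163720a003e280b5508b5d0c36fc98b42160d58789c70e36ecd03cf0a00a0280270a0098280250a008c280220a00802801f0a00782801d0a0070280110a00402800f0a00382800d3436a4202b9082ce020ab70808d830021080ed420b340a3690203b3082cc8209b1082ac02022f10366c380160e0054380140e004c3039a0c0c64302980c2c5c28d92080eb82032d080ab020b2b082aa82000808001c2000608000c1838c060c2c1828a0c0010289850608240808104000808080))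
def t1x : TN := (TN.leaf (nat_lit 0x5c57f51257c0203b0080e34a01c96806b02037d81b763a41d51806752edc1215f97001b9500737495bdbbff15069481007b586de0e9b6a3851a47804d4457d1800603e5195515e40401e95bb615801897a5660401dcf804a4001015805a40015d5105c520161413593e6d6c8803d2400b8d80292c00ed4806d5001313804b4000e8700491c49a1392514ce540f145e1a6d392801a2200ad3afc60e686cd2544480058f003e020244fb55d32befce95c22049580808e2a6d4cf9b4f3c0090db2331c00d40808c1a82dca00153800e04801f1400787002c0202288a55512004069b3020411c4000d345150f80213c008059b23020220ea539180098895993c94a0e94271056c84903116003c08086100115220c82400885959418564d195c32656d0600181a005c314120401044122d146c741003c0e4ca81003610001c1002f020208100250e482c1001c0a4010300050202041000904000c08080))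
def t2x : TN := (TN.leaf (nat_lit 0x7a01c9e80797601c5780647879f0080e0620198080de5a018d23774780189e21fd744becc806e020328c0a702e011968061560150080bf3c9fa4b80672c4ba1812f7427d49712fa5829d5dc073587db0100780202a4100764a00e090036020294080a4500120480430202850802b440109537eb289f4d100654e00cc0809a3a6f3c08099247d35280200202581006f02025539bd922005cb1bed1200ec0809210296109e551200f8700270401a8412c102023878013102914c2c3a1e00d521e5d02023088a5c1c78e4b80104c294478a320e00500808a1a7ebc4800b2a008861e2c404b580808904017c51ba31a89000808804016c1005a1600a0a1e2d04015d237cc1c867c2801802021861e9c147c6c1005004013820a1e20291c1004b04012430a311c86f01004408001cb0a3412643c1003d02020c100371028b8100300400a810026061a441001d0a00080808104003420a0504001008080))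
def t3x : TN := (TN.leaf (nat_lit 0x7c01c9e84fc6271ed900664c73e4f00607e01917806c02035121c747a0189e9cfd1e11c4080ca3001b8b93ef08011970c7654018d080673ac7a4f803f4031a989c7a40c795f04f75211ade1af3560178e84f83a317d50fe1427300080a52200d948048300090080a110010c8003d2a00f810075263f4d18c52460080280263600e8380491c3f35200330c00dc100700c313940c5a02024c1846d0202484003b0e4f5d000413e6b091005d3c3fa0a1ad51e3f58700170e4f10d044f1e00a0f31a70a312c804db10008cb002d463f3051c9f02022830014120070300112a70d05800f1e00383000d38c6a471ab93e00e020c50040170b84590e10d498f9004016110fd11600c808086080060419af12706c200080c00541849d1a72f02800c0a3e64284b004011c100450a10b8a0022146ab070fab0a30a8204160e001c100310a000c1841a0c3e2c1001e02020420002083a241860404001408080))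
def t4x : TN := (TN.leaf (nat_lit 0x203c1f16777801d9e0071020385c806f7e01f1da37b5601cc080d35497d510054768de81007d708de19806d6407b9080655c0118f80442007a4baa6842079d200524007b12805f480180a004a0401e5181e348079020029020299700585601655a34c548d6d6a35c520144daa56280125081f20401d1181e650e75d40023420074b004108006d6005a4600d4981e2268d54d80363a8d1d681eb165314f166a460094080912a5939000370800489002e34c2f47a33c1406ecc00304600680808c3ed700d01c844db2c0808b3000900808a2400bcbaa3a2296c4894be222454500140202244962a060778f80160202201005d44070cb81b34e594008087300680c80210202188001c408d3c7a41e060735123392200404000f020214f34282400b44892c020210181bf040108814990e526008083125c34100380400d0100320400ac100270400881001f04005c100130400382090206060408080))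
def t5x : TN := (TN.leaf (nat_lit 0x6201e99006d7ca1f5e8d7b5e01e1d0076560195d01795c478d18d7456019150d77740189611756e4729b006e6001b01007c7201bd111ea3a01a4080bb0605a1c0d715cf9c9480527445c173de60202a4181615201194805f5400cc380504c012d51159520120711c34c45600809f060559180541e01356807302026920038420088980471a006c0809648009d5a86b2000f13285a3800c17805e0c0114db13f4aa15d0002b3c00f5000203a00480808e1400c87001d04019cb80341000d91915c4435743000c1a0544a800d4400dc90d41160044391ce3c3508d01170202241812d0a34bcf11cf0401803002544a16d08140080020622a41c05309282a1a8085080260401543112e0e47243013e04014c591350202141811934007862023020210181153600c4187c436044c0808306044020d1c0400e8100390202081810b0400b010028020204181070400601001404003c1000a04001808080))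
def t6x : TN := (TN.leaf (nat_lit 0x7e01ec080ec7c01e9823fd7601d9723f95601c9ca1785a01c12007458ef4978065720199d80637023adabf6e6223f17ba6d5801291806a38cba4200670202ed780625485dd532f35e01d5c88f1080180080a950ef7973bc64600dd2003846009d38048560169380574c010c2005502027d132d402026d432e41c00d430cdc3e00a8400301c234c780234a236dc006f10007543a59248539432df0a3314200121e0160f802f2600c9100263801103801c3a8504788c90401a00808d02023118cd0423ccc388b9180068b08ba528f74498bd343c4cd8cc70c00ac3801e0800b0080893e23089802204018408088468f2d023a00a22a0680241a00590214f1c0084f98c0040158cb0171a84f02800e188f3410051080060080853600b81004c08005008084380044e08bf1432c42000f02020c1003e288ed028f36080028080820400b41872508001808081040064100150400401000b04001c10000))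
def t7x : TN := (TN.leaf (nat_lit 0x78f5c9f05fc7817ee100667801a5c006f8001cd780755c17d96bd5f7e9bdde807d020335b804a6e17e1a0060020315780540202fd6806176f3e54806356017a085fa40d94d6806250eba162ce4589ba99bc6e5c01d153c67449ab0a003624009530055020284b80244c0105105d64a1769705ec4201956bcd248007830037020264e26ce0401c528031080099b36703617253003e40005c080920401b4a803b4a0109238c34a9b5c0808f0401ad29dc81e16f4f001328a310caf152000a8eb3b80a17409a6dc02022cb001002022859dab489b30bac983076bc080892c76891805d1800c8785b952d8a44978d3c769c185cb22996cb29d802021cb802d040164080861474391a6d12eb650bad1c26746c0808504013cc00303e9b1c080843400e8c001d3accf01004602020caaab40401005801f1400a0080820400d4100330400b80808104008c10020040068100160400441000c04002008080))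
def t8x : TN := (TN.leaf (nat_lit 0x762ff5f16fc7a2fede8bfa602fe5d0bf85061dd810f65c015cc0bf4020344080cf7421c5d16f07221bc080c962fb54080c05a0165210ea0202f11b8684000f4080b90202dc080b50202c4080ad5ee1851002f3e012c080a73c2f7578bdc2e0119010da58d3acfae585a5bd5090d66401b40809d2e614c0809a0401ccd10d00401c8b10ce02025c824cc3c5b7c080950401b80809434391cb295b126114516c40202451002534bb041006c0202390800f3ed39c10069020234c8bba040198d0bb8040194c802c040190280322e008820bb404018c9273042d38051698040188c2eb60a2eac310aa020220e0828040178eaea64215080808730b88cb2b33020218c001f2e148088b9e0401504181c020214100522a38645802e040134ca91604012810048102e4c0808304010cbab904092f81003f0400eccae0c0800281880b083824100290400901002104006c395040400481850202020010001))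
def tt : TN := (TN.node (TN.node (TN.node (TN.node t0x t8x) (TN.node t4x (TN.leaf (nat_lit 0)))) (TN.node (TN.node t2x (TN.leaf (nat_lit 0))) (TN.node t6x (TN.leaf (nat_lit 0))))) (TN.node (TN.node (TN.node t1x (TN.leaf (nat_lit 0))) (TN.node t5x (TN.leaf (nat_lit 0)))) (TN.node (TN.node t3x (TN.leaf (nat_lit 0))) (TN.node t7x (TN.leaf (nat_lit 0))))))
noncomputable def T (j c : ℕ) : ℕ := getL tt (nat_lit 22) (nat_lit 127) j c
noncomputable def E (j c : ℕ) : ℕ := getL tt (nat_lit 22) (nat_lit 0x3fffff) j c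
theorem T_eq (j c : ℕ) : T j c = E j c % 128 :=
  getL_mod (a := 7) (b := 22) _ _ (by norm_num) (by norm_num) (by norm_num) (by norm_num) j c
def rels : List (List ℕ) := [[nat_lit 0, nat_lit 1, nat_lit 0, nat_lit 1], [nat_lit 0, nat_lit 2, nat_lit 0, nat_lit 2], [nat_lit 0, nat_lit 3, nat_lit 0, nat_lit 3], [nat_lit 1, nat_lit 2, nat_lit 1, nat_lit 2, nat_lit 1, nat_lit 2, nat_lit 1, nat_lit 2], [nat_lit 1, nat_lit 3, nat_lit 1, nat_lit 3, nat_lit 1, nat_lit 3], [nat_lit 2, nat_lit 3, nat_lit 2, nat_lit 3], [nat_lit 1, nat_lit 2, nat_lit 3, nat_lit 1, nat_lit 2, nat_lit 3, nat_lit 1, nat_lit 2, nat_lit 3], [nat_lit 5, nat_lit 5, nat_lit 5], [nat_lit 0, nat_lit 4, nat_lit 0, nat_lit 4], [nat_lit 5, nat_lit 0, nat_lit 6, nat_lit 0], [nat_lit 5, nat_lit 3, nat_lit 2, nat_lit 6, nat_lit 3], [nat_lit 6, nat_lit 1, nat_lit 5, nat_lit 2, nat_lit 1, nat_lit 2], [nat_lit 4, nat_lit 1, nat_lit 2, nat_lit 1, nat_lit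 4, nat_lit 1, nat_lit 2, nat_lit 1], [nat_lit 4, nat_lit 1, nat_lit 3, nat_lit 1, nat_lit 4, nat_lit 1, nat_lit 3, nat_lit 1], [nat_lit 4, nat_lit 2, nat_lit 5, nat_lit 4, nat_lit 6, nat_lit 1, nat_lit 2, nat_lit 1, nat_lit 2], [nat_lit 4, nat_lit 5, nat_lit 1, nat_lit 6, nat_lit 4, nat_lit 1], [nat_lit 5, nat_lit 2, nat_lit 4, nat_lit 6, nat_lit 3, nat_lit 4, nat_lit 3, nat_lit 1, nat_lit 2, nat_lit 1], [nat_lit 0, nat_lit 7, nat_lit 0, nat_lit 7], [nat_lit 2, nat_lit 7, nat_lit 2, nat_lit 7, nat_lit 2, nat_lit 7], [nat_lit 3, nat_lit 7, nat_lit 3, nat_lit 7], [nat_lit 5, nat_lit 7, nat_lit 5, nat_lit 7, nat_lit 5, nat_lit 7, nat_lit 5, nat_lit 7, nat_lit 5, nat_lit 7], [nat_lit 1, nat_lit 3, nat_lit 7, nat_lit 1, nat_lit 3, nat_lit 7, nat_lit 1, nat_lit 3, nat_lit 7], [nat_lit 7, nat_lit 1, nat_lit 3, nat_lit 2, nat_lit 1, nat_lit 7, nat_lit 6, nat_lit 1, nat_lit 5], [nat_lit 7, nat_lit 2, nat_lit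 4, nat_lit 6, nat_lit 1, nat_lit 7, nat_lit 3, nat_lit 1, nat_lit 5, nat_lit 4, nat_lit 2, nat_lit 3], [nat_lit 7, nat_lit 5, nat_lit 7, nat_lit 4, nat_lit 6, nat_lit 7, nat_lit 4, nat_lit 6, nat_lit 4, nat_lit 6, nat_lit 1], [nat_lit 7, nat_lit 1, nat_lit 2, nat_lit 6, nat_lit 4, nat_lit 5, nat_lit 7, nat_lit 1, nat_lit 3, nat_lit 1, nat_lit 6, nat_lit 4, nat_lit 5], [nat_lit 7, nat_lit 1, nat_lit 4, nat_lit 1, nat_lit 6, nat_lit 4, nat_lit 7, nat_lit 1, nat_lit 4, nat_lit 5, nat_lit 4, nat_lit 1], [nat_lit 0, nat_lit 8, nat_lit 0, nat_lit 8, nat_lit 0, nat_lit 8], [nat_lit 4, nat_lit 8, nat_lit 4, nat_lit 8], [nat_lit 0, nat_lit 1, nat_lit 8, nat_lit 0, nat_lit 1, nat_lit 8, nat_lit 0, nat_lit 1, nat_lit 8], [nat_lit 2, nat_lit 7, nat_lit 8, nat_lit 2, nat_lit 7, nat_lit 8, nat_lit 2, nat_lit 7, nat_lit 8, nat_lit 2, nat_lit 7, nat_lit 8], [nat_lit 8, nat_lit 0, nat_lit 2, nat_lit 3, nat_lit 8, nat_lit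 0, nat_lit 3, nat_lit 2], [nat_lit 8, nat_lit 1, nat_lit 3, nat_lit 1, nat_lit 0, nat_lit 8, nat_lit 1, nat_lit 0, nat_lit 3, nat_lit 1], [nat_lit 8, nat_lit 6, nat_lit 2, nat_lit 7, nat_lit 1, nat_lit 8, nat_lit 1, nat_lit 7, nat_lit 2, nat_lit 5], [nat_lit 8, nat_lit 7, nat_lit 6, nat_lit 1, nat_lit 7, nat_lit 8, nat_lit 7, nat_lit 1, nat_lit 5, nat_lit 7], [nat_lit 8, nat_lit 0, nat_lit 5, nat_lit 8, nat_lit 5, nat_lit 0, nat_lit 8, nat_lit 1, nat_lit 0, nat_lit 2, nat_lit 4, nat_lit 2, nat_lit 3, nat_lit 4, nat_lit 7, nat_lit 1, nat_lit 4], [nat_lit 8, nat_lit 1, nat_lit 8, nat_lit 5, nat_lit 2, nat_lit 8, nat_lit 1, nat_lit 8, nat_lit 4, nat_lit 7, nat_lit 4, nat_lit 7]]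
def inv (i : ℕ) : ℕ := Nat.land (Nat.shiftRight (nat_lit 0x9875643210) (Nat.mul (nat_lit 4) i)) (nat_lit 15)
def X_t : TN := (TN.leaf (nat_lit 0))
noncomputable def X (i : ℕ) : ℕ := get9 X_t (nat_lit 1) (nat_lit 1) i
def Jp_t : TN := (TN.leaf (nat_lit 0))
noncomputable def Jp (i : ℕ) : ℕ := get9 Jp_t (nat_lit 1) (nat_lit 1) i
def J_t : TN := (TN.leaf (nat_lit 0))
noncomputable def J (k : ℕ) : ℕ := getV J_t Jp k
def Pa_t : TN := (TN.leaf (nat_lit 0xdc136c6db07631b852e02b7c6de2b50ed34b462cf8b35eca3b28ac98b15ec08afdebf2af22bb5aedab98ade2b58ac62ad88a562968a4a2788992253894a242885e213884a1f587da1d886da1a886961a2865e19285e2165858a158854a14884ce127848e122846211484460f783a20e5838a0e183620d6831a0c4830a0c182de0b4829e0a4828e0a282860978256096825209262218866211882620587861dd87461a1867619186361898616161857615585661518476115846611183860dd83560d983460c9827609582660850174055016404d01240450102020000))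
noncomputable def Pa (i : ℕ) : ℕ := get9 Pa_t (nat_lit 14) (nat_lit 16383) i
def W_t1 : TL := (TL.node (TL.node (TL.node (TL.node (TL.node (TL.node (TL.leaf [nat_lit 14338, nat_lit 5, nat_lit 6, nat_lit 6]) (TL.leaf [nat_lit 22533, nat_lit 6, nat_lit 2, nat_lit 1, nat_lit 2, nat_lit 6, nat_lit 1])) (TL.node (TL.leaf [nat_lit 20490, nat_lit 5, nat_lit 3, nat_lit 5, nat_lit 2, nat_lit 3]) (TL.leaf [nat_lit 32775, nat_lit 5, nat_lit 3, nat_lit 4, nat_lit 3, nat_lit 1, nat_lit 2, nat_lit 1, nat_lit 5, nat_lit 2, nat_lit 4]))) (TL.node (TL.node (TL.leaf [nat_lit 16387, nat_lit 4, nat_lit 0, nat_lit 4, nat_lit 0]) (TL.leaf [nat_lit 69643, nat_lit 8, nat_lit 7, nat_lit 1, nat_lit 5, nat_lit 7, nat_lit 8, nat_lit 7, nat_lit 6, nat_lit 1, nat_lit 7])) (TL.node (TL.leaf [nat_lit 32786, nat_lit 2, nat_lit 6, nat_lit 1, nat_lit 2, nat_lit 1, nat_lit 3, nat_lit 4, nat_lit 3, nat_lit 5, nat_lit 4]) (TL.leaf [nat_lit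 24583, nat_lit 1, nat_lit 4, nat_lit 1, nat_lit 2, nat_lit 1, nat_lit 4, nat_lit 1, nat_lit 2])))) (TL.node (TL.node (TL.node (TL.leaf [nat_lit 55299, nat_lit 8, nat_lit 0, nat_lit 8, nat_lit 0, nat_lit 8, nat_lit 0]) (TL.leaf [nat_lit 30725, nat_lit 1, nat_lit 6, nat_lit 4, nat_lit 1, nat_lit 4, nat_lit 5])) (TL.node (TL.leaf [nat_lit 65547, nat_lit 8, nat_lit 1, nat_lit 0, nat_lit 3, nat_lit 1, nat_lit 8, nat_lit 1, nat_lit 3, nat_lit 1, nat_lit 0]) (TL.leaf [nat_lit 24579, nat_lit 1, nat_lit 2, nat_lit 1, nat_lit 4, nat_lit 1, nat_lit 2, nat_lit 1, nat_lit 4]))) (TL.node (TL.node (TL.leaf [nat_lit 30727, nat_lit 5, nat_lit 4, nat_lit 1, nat_lit 4, nat_lit 5, nat_lit 1]) (TL.leaf [nat_lit 47118, nat_lit 7, nat_lit 1, nat_lit 5, nat_lit 4, nat_lit 2, nat_lit 7, nat_lit 3, nat_lit 2, nat_lit 4, nat_lit 6, nat_lit 1, nat_lit 3])) (TL.node (TL.leaf [nat_lit 71709, nat_lit 7, nat_lit 1, nat_lit 4, nat_lit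 8, nat_lit 0, nat_lit 5, nat_lit 8, nat_lit 5, nat_lit 0, nat_lit 8, nat_lit 1, nat_lit 0, nat_lit 2, nat_lit 4, nat_lit 2, nat_lit 3, nat_lit 4]) (TL.leaf [nat_lit 73751, nat_lit 7, nat_lit 8, nat_lit 1, nat_lit 8, nat_lit 5, nat_lit 2, nat_lit 8, nat_lit 1, nat_lit 8, nat_lit 4, nat_lit 7, nat_lit 4]))))) (TL.node (TL.node (TL.node (TL.node (TL.leaf [nat_lit 18439, nat_lit 0, nat_lit 5, nat_lit 0, nat_lit 6]) (TL.leaf [nat_lit 30721, nat_lit 4, nat_lit 5, nat_lit 1, nat_lit 6, nat_lit 4, nat_lit 1])) (TL.node (TL.leaf [nat_lit 6145, nat_lit 1, nat_lit 2, nat_lit 1, nat_lit 2, nat_lit 1, nat_lit 2, nat_lit 1, nat_lit 2]) (TL.leaf [nat_lit 40962, nat_lit 7, nat_lit 6, nat_lit 7, nat_lit 6, nat_lit 7, nat_lit 6, nat_lit 7, nat_lit 6, nat_lit 7, nat_lit 6]))) (TL.node (TL.node (TL.leaf [nat_lit 16385, nat_lit 0, nat_lit 4, nat_lit 0, nat_lit 4]) (TL.leaf [nat_lit 73729, nat_lit 8, nat_lit 1, nat_lit 8,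 nat_lit 5, nat_lit 2, nat_lit 8, nat_lit 1, nat_lit 8, nat_lit 4, nat_lit 7, nat_lit 4, nat_lit 7])) (TL.node (TL.leaf [nat_lit 22537, nat_lit 1, nat_lit 2, nat_lit 6, nat_lit 1, nat_lit 5, nat_lit 2]) (TL.leaf [nat_lit 65543, nat_lit 1, nat_lit 0, nat_lit 8, nat_lit 1, nat_lit 0, nat_lit 3, nat_lit 1, nat_lit 8, nat_lit 1, nat_lit 3])))) (TL.node (TL.node (TL.node (TL.leaf [nat_lit 69649, nat_lit 6, nat_lit 7, nat_lit 8, nat_lit 7, nat_lit 6, nat_lit 1, nat_lit 7, nat_lit 8, nat_lit 7, nat_lit 1]) (TL.leaf [nat_lit 63504, nat_lit 8, nat_lit 2, nat_lit 3, nat_lit 0, nat_lit 8, nat_lit 3, nat_lit 2, nat_lit 0])) (TL.node (TL.leaf [nat_lit 28690, nat_lit 4, nat_lit 2, nat_lit 1, nat_lit 2, nat_lit 1, nat_lit 5, nat_lit 4, nat_lit 6, nat_lit 2]) (TL.leaf [nat_lit 22535, nat_lit 2, nat_lit 1, nat_lit 2, nat_lit 6, nat_lit 1, nat_lit 5]))) (TL.node (TL.node (TL.leaf [nat_lit 18433, nat_lit 6, nat_lit 0, nat_lit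 6, nat_lit 0]) (TL.leaf [nat_lit 49153, nat_lit 7, nat_lit 5, nat_lit 7, nat_lit 4, nat_lit 6, nat_lit 7, nat_lit 4, nat_lit 6, nat_lit 4, nat_lit 6, nat_lit 1])) (TL.node (TL.leaf [nat_lit 63493, nat_lit 2, nat_lit 3, nat_lit 8, nat_lit 0, nat_lit 3, nat_lit 2, nat_lit 8, nat_lit 0]) (TL.leaf [nat_lit 40961, nat_lit 6, nat_lit 7, nat_lit 5, nat_lit 7, nat_lit 5, nat_lit 7, nat_lit 5, nat_lit 7, nat_lit 5, nat_lit 7])))))) (TL.node (TL.node (TL.node (TL.node (TL.node (TL.leaf [nat_lit 1, nat_lit 0, nat_lit 1, nat_lit 0, nat_lit 1]) (TL.leaf [nat_lit 47107, nat_lit 2, nat_lit 4, nat_lit 6, nat_lit 1, nat_lit 7, nat_lit 3, nat_lit 1, nat_lit 5, nat_lit 4, nat_lit 2, nat_lit 3, nat_lit 7])) (TL.node (TL.leaf [nat_lit 22531, nat_lit 1, nat_lit 5, nat_lit 2, nat_lit 1, nat_lit 2, nat_lit 6]) (TL.leaf [nat_lit 73741, nat_lit 1, nat_lit 8, nat_lit 4, nat_lit 7, nat_lit 4, nat_lit 7, nat_lit 8, nat_lit 1, nat_lit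 8, nat_lit 5, nat_lit 2, nat_lit 8]))) (TL.node (TL.node (TL.leaf [nat_lit 10241, nat_lit 2, nat_lit 3, nat_lit 2, nat_lit 3]) (TL.leaf [nat_lit 30729, nat_lit 4, nat_lit 1, nat_lit 4, nat_lit 5, nat_lit 1, nat_lit 6])) (TL.node (TL.leaf [nat_lit 65549, nat_lit 1, nat_lit 0, nat_lit 3, nat_lit 1, nat_lit 8, nat_lit 1, nat_lit 3, nat_lit 1, nat_lit 0, nat_lit 8]) (TL.leaf [nat_lit 20484, nat_lit 6, nat_lit 2, nat_lit 3, nat_lit 6, nat_lit 3])))) (TL.node (TL.node (TL.node (TL.leaf [nat_lit 63492, nat_lit 3, nat_lit 0, nat_lit 8, nat_lit 3, nat_lit 2, nat_lit 0, nat_lit 8, nat_lit 2]) (TL.leaf [nat_lit 43013, nat_lit 7, nat_lit 1, nat_lit 3, nat_lit 7, nat_lit 1, nat_lit 3, nat_lit 7, nat_lit 1, nat_lit 3])) (TL.node (TL.leaf [nat_lit 24577, nat_lit 4, nat_lit 1, nat_lit 2, nat_lit 1, nat_lit 4, nat_lit 1, nat_lit 2, nat_lit 1]) (TL.leaf [nat_lit 67591, nat_lit 7, nat_lit 1, nat_lit 8, nat_lit 1, nat_lit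 7, nat_lit 2, nat_lit 5, nat_lit 8, nat_lit 6, nat_lit 2]))) (TL.node (TL.node (TL.leaf [nat_lit 59394, nat_lit 8, nat_lit 1, nat_lit 0, nat_lit 8, nat_lit 1, nat_lit 0, nat_lit 8, nat_lit 1, nat_lit 0]) (TL.leaf [nat_lit 69633, nat_lit 8, nat_lit 7, nat_lit 6, nat_lit 1, nat_lit 7, nat_lit 8, nat_lit 7, nat_lit 1, nat_lit 5, nat_lit 7])) (TL.node (TL.leaf [nat_lit 20486, nat_lit 2, nat_lit 3, nat_lit 6, nat_lit 3, nat_lit 5]) (TL.leaf [nat_lit 28681, nat_lit 5, nat_lit 1, nat_lit 2, nat_lit 1, nat_lit 2, nat_lit 4, nat_lit 2, nat_lit 5, nat_lit 4]))))) (TL.node (TL.node (TL.node (TL.node (TL.leaf [nat_lit 38913, nat_lit 3, nat_lit 7, nat_lit 3, nat_lit 7]) (TL.leaf [nat_lit 32773, nat_lit 4, nat_lit 6, nat_lit 3, nat_lit 4, nat_lit 3, nat_lit 1, nat_lit 2, nat_lit 1, nat_lit 5, nat_lit 2])) (TL.node (TL.leaf [nat_lit 59395, nat_lit 1, nat_lit 8, nat_lit 0, nat_lit 1, nat_lit 8, nat_lit 0, nat_lit 1,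 nat_lit 8, nat_lit 0]) (TL.leaf [nat_lit 53259, nat_lit 4, nat_lit 7, nat_lit 1, nat_lit 4, nat_lit 5, nat_lit 4, nat_lit 1, nat_lit 7, nat_lit 1, nat_lit 4, nat_lit 1, nat_lit 6]))) (TL.node (TL.node (TL.leaf [nat_lit 10243, nat_lit 3, nat_lit 2, nat_lit 3, nat_lit 2]) (TL.leaf [nat_lit 28675, nat_lit 2, nat_lit 5, nat_lit 4, nat_lit 6, nat_lit 1, nat_lit 2, nat_lit 1, nat_lit 2, nat_lit 4])) (TL.node (TL.leaf [nat_lit 8195, nat_lit 3, nat_lit 1, nat_lit 3, nat_lit 1, nat_lit 3, nat_lit 1]) (TL.leaf [nat_lit 73747, nat_lit 7, nat_lit 4, nat_lit 7, nat_lit 8, nat_lit 1, nat_lit 8, nat_lit 5, nat_lit 2, nat_lit 8, nat_lit 1, nat_lit 8, nat_lit 4])))) (TL.node (TL.node (TL.node (TL.leaf [nat_lit 71708, nat_lit 8, nat_lit 6, nat_lit 0, nat_lit 8, nat_lit 4, nat_lit 1, nat_lit 7, nat_lit 4, nat_lit 3, nat_lit 2, nat_lit 4, nat_lit 2, nat_lit 0, nat_lit 1, nat_lit 8, nat_lit 0, nat_lit 6]) (TL.leaf [nat_lit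 22529, nat_lit 5, nat_lit 1, nat_lit 5, nat_lit 2, nat_lit 1, nat_lit 2])) (TL.node (TL.leaf [nat_lit 59397, nat_lit 8, nat_lit 0, nat_lit 1, nat_lit 8, nat_lit 0, nat_lit 1, nat_lit 8, nat_lit 0, nat_lit 1]) (TL.leaf [nat_lit 71687, nat_lit 8, nat_lit 5, nat_lit 0, nat_lit 8, nat_lit 1, nat_lit 0, nat_lit 2, nat_lit 4, nat_lit 2, nat_lit 3, nat_lit 4, nat_lit 7, nat_lit 1, nat_lit 4, nat_lit 8, nat_lit 0, nat_lit 5]))) (TL.node (TL.node (TL.leaf [nat_lit 8193, nat_lit 1, nat_lit 3, nat_lit 1, nat_lit 3, nat_lit 1, nat_lit 3]) (TL.leaf [nat_lit 51206, nat_lit 6, nat_lit 1, nat_lit 3, nat_lit 1, nat_lit 7, nat_lit 6, nat_lit 4, nat_lit 5, nat_lit 2, nat_lit 1, nat_lit 7, nat_lit 6, nat_lit 4])) (TL.node (TL.leaf [nat_lit 18437, nat_lit 5, nat_lit 0, nat_lit 5, nat_lit 0]) (TL.leaf [nat_lit 71699, nat_lit 2, nat_lit 4, nat_lit 2, nat_lit 3, nat_lit 4, nat_lit 7, nat_lit 1, nat_lit 4, nat_lit 8, nat_lit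 0, nat_lit 5, nat_lit 8, nat_lit 5, nat_lit 0, nat_lit 8, nat_lit 1, nat_lit 0])))))))
def W_t2 : TL := (TL.node (TL.node (TL.node (TL.node (TL.node (TL.node (TL.leaf [nat_lit 57345, nat_lit 4, nat_lit 8, nat_lit 4, nat_lit 8]) (TL.leaf [nat_lit 24581, nat_lit 2, nat_lit 1, nat_lit 4, nat_lit 1, nat_lit 2, nat_lit 1, nat_lit 4, nat_lit 1])) (TL.node (TL.leaf [nat_lit 20487, nat_lit 5, nat_lit 3, nat_lit 5, nat_lit 3, nat_lit 2]) (TL.leaf [nat_lit 65541, nat_lit 3, nat_lit 1, nat_lit 0, nat_lit 8, nat_lit 1, nat_lit 0, nat_lit 3, nat_lit 1, nat_lit 8, nat_lit 1]))) (TL.node (TL.node (TL.leaf [nat_lit 4097, nat_lit 0, nat_lit 3, nat_lit 0, nat_lit 3]) (TL.leaf [nat_lit 61443, nat_lit 7, nat_lit 8, nat_lit 2, nat_lit 7, nat_lit 8, nat_lit 2, nat_lit 7, nat_lit 8, nat_lit 2, nat_lit 7, nat_lit 8, nat_lit 2])) (TL.node (TL.leaf [nat_lit 65540, nat_lit 3, nat_lit 0, nat_lit 1, nat_lit 8, nat_lit 0, nat_lit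 1, nat_lit 3, nat_lit 1, nat_lit 8, nat_lit 1]) (TL.leaf [nat_lit 28684, nat_lit 4, nat_lit 6, nat_lit 2, nat_lit 4, nat_lit 2, nat_lit 1, nat_lit 2, nat_lit 1, nat_lit 5])))) (TL.node (TL.node (TL.node (TL.leaf [nat_lit 36867, nat_lit 7, nat_lit 2, nat_lit 7, nat_lit 2, nat_lit 7, nat_lit 2]) (TL.leaf [nat_lit 26625, nat_lit 4, nat_lit 1, nat_lit 3, nat_lit 1, nat_lit 4, nat_lit 1, nat_lit 3, nat_lit 1])) (TL.node (TL.leaf [nat_lit 30731, nat_lit 1, nat_lit 4, nat_lit 5, nat_lit 1, nat_lit 6, nat_lit 4]) (TL.leaf [nat_lit 71701, nat_lit 4, nat_lit 2, nat_lit 3, nat_lit 4, nat_lit 7, nat_lit 1, nat_lit 4, nat_lit 8, nat_lit 0, nat_lit 5, nat_lit 8, nat_lit 5, nat_lit 0, nat_lit 8, nat_lit 1, nat_lit 0, nat_lit 2]))) (TL.node (TL.node (TL.leaf [nat_lit 55297, nat_lit 0, nat_lit 8, nat_lit 0, nat_lit 8, nat_lit 0, nat_lit 8]) (TL.leaf [nat_lit 53261, nat_lit 7, nat_lit 1, nat_lit 4, nat_lit 5, nat_lit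 4, nat_lit 1, nat_lit 7, nat_lit 1, nat_lit 4, nat_lit 1, nat_lit 6, nat_lit 4])) (TL.node (TL.leaf [nat_lit 34819, nat_lit 7, nat_lit 0, nat_lit 7, nat_lit 0]) (TL.leaf [nat_lit 49161, nat_lit 5, nat_lit 7, nat_lit 4, nat_lit 6, nat_lit 4, nat_lit 6, nat_lit 1, nat_lit 7, nat_lit 5, nat_lit 7, nat_lit 4]))))) (TL.node (TL.node (TL.node (TL.node (TL.leaf [nat_lit 34817, nat_lit 0, nat_lit 7, nat_lit 0, nat_lit 7]) (TL.leaf [nat_lit 30723, nat_lit 6, nat_lit 1, nat_lit 6, nat_lit 4, nat_lit 1, nat_lit 4])) (TL.node (TL.leaf [nat_lit 63495, nat_lit 3, nat_lit 8, nat_lit 0, nat_lit 3, nat_lit 2, nat_lit 8, nat_lit 0, nat_lit 2]) (TL.leaf [nat_lit 73730, nat_lit 7, nat_lit 4, nat_lit 7, nat_lit 4, nat_lit 8, nat_lit 1, nat_lit 8, nat_lit 2, nat_lit 6, nat_lit 8, nat_lit 1, nat_lit 8]))) (TL.node (TL.node (TL.leaf [nat_lit 57347, nat_lit 8, nat_lit 4, nat_lit 8, nat_lit 4]) (TL.leaf [nat_lit 65537, nat_lit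 8, nat_lit 1, nat_lit 3, nat_lit 1, nat_lit 0, nat_lit 8, nat_lit 1, nat_lit 0, nat_lit 3, nat_lit 1])) (TL.node (TL.leaf [nat_lit 36865, nat_lit 2, nat_lit 7, nat_lit 2, nat_lit 7, nat_lit 2, nat_lit 7]) (TL.leaf [nat_lit 71689, nat_lit 6, nat_lit 0, nat_lit 8, nat_lit 1, nat_lit 0, nat_lit 2, nat_lit 4, nat_lit 2, nat_lit 3, nat_lit 4, nat_lit 7, nat_lit 1, nat_lit 4, nat_lit 8, nat_lit 0, nat_lit 5, nat_lit 8])))) (TL.node (TL.node (TL.node (TL.leaf [nat_lit 73746, nat_lit 5, nat_lit 8, nat_lit 1, nat_lit 8, nat_lit 7, nat_lit 4, nat_lit 7, nat_lit 4, nat_lit 8, nat_lit 1, nat_lit 8, nat_lit 2]) (TL.leaf [nat_lit 20485, nat_lit 2, nat_lit 6, nat_lit 3, nat_lit 5, nat_lit 3])) (TL.node (TL.leaf [nat_lit 45074, nat_lit 7, nat_lit 6, nat_lit 1, nat_lit 5, nat_lit 7, nat_lit 1, nat_lit 2, nat_lit 3, nat_lit 1]) (TL.leaf [nat_lit 63503, nat_lit 2, nat_lit 8, nat_lit 0, nat_lit 2, nat_lit 3, nat_lit 8,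 nat_lit 0, nat_lit 3]))) (TL.node (TL.node (TL.leaf [nat_lit 20489, nat_lit 3, nat_lit 5, nat_lit 3, nat_lit 2, nat_lit 6]) (TL.leaf [nat_lit 73731, nat_lit 1, nat_lit 8, nat_lit 5, nat_lit 2, nat_lit 8, nat_lit 1, nat_lit 8, nat_lit 4, nat_lit 7, nat_lit 4, nat_lit 7, nat_lit 8])) (TL.node (TL.leaf [nat_lit 2051, nat_lit 2, nat_lit 0, nat_lit 2, nat_lit 0]) (TL.leaf [nat_lit 47119, nat_lit 1, nat_lit 5, nat_lit 4, nat_lit 2, nat_lit 3, nat_lit 7, nat_lit 2, nat_lit 4, nat_lit 6, nat_lit 1, nat_lit 7, nat_lit 3])))))) (TL.node (TL.node (TL.node (TL.node (TL.node (TL.leaf [nat_lit 18435, nat_lit 0, nat_lit 6, nat_lit 0, nat_lit 5]) (TL.leaf [nat_lit 71710, nat_lit 5, nat_lit 0, nat_lit 8, nat_lit 4, nat_lit 1, nat_lit 7, nat_lit 4, nat_lit 3, nat_lit 2, nat_lit 4, nat_lit 2, nat_lit 0, nat_lit 1, nat_lit 8, nat_lit 0, nat_lit 6, nat_lit 8])) (TL.node (TL.leaf [nat_lit 22539, nat_lit 2, nat_lit 6, nat_lit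 1, nat_lit 5, nat_lit 2, nat_lit 1]) (TL.leaf [nat_lit 71685, nat_lit 6, nat_lit 8, nat_lit 5, nat_lit 0, nat_lit 8, nat_lit 1, nat_lit 0, nat_lit 2, nat_lit 4, nat_lit 2, nat_lit 3, nat_lit 4, nat_lit 7, nat_lit 1, nat_lit 4, nat_lit 8, nat_lit 0]))) (TL.node (TL.node (TL.leaf [nat_lit 2049, nat_lit 0, nat_lit 2, nat_lit 0, nat_lit 2]) (TL.leaf [nat_lit 49163, nat_lit 7, nat_lit 4, nat_lit 6, nat_lit 4, nat_lit 6, nat_lit 1, nat_lit 7, nat_lit 5, nat_lit 7, nat_lit 4, nat_lit 6])) (TL.node (TL.leaf [nat_lit 20483, nat_lit 3, nat_lit 2, nat_lit 6, nat_lit 3, nat_lit 5]) (TL.leaf [nat_lit 69641, nat_lit 7, nat_lit 8, nat_lit 7, nat_lit 1, nat_lit 5, nat_lit 7, nat_lit 8, nat_lit 7, nat_lit 6, nat_lit 1])))) (TL.node (TL.node (TL.node (TL.leaf [nat_lit 67601, nat_lit 2, nat_lit 5, nat_lit 8, nat_lit 6, nat_lit 2, nat_lit 7, nat_lit 1, nat_lit 8, nat_lit 1, nat_lit 7]) (TL.leaf [nat_lit 38915, nat_lit 7,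 nat_lit 3, nat_lit 7, nat_lit 3])) (TL.node (TL.leaf [nat_lit 63497, nat_lit 8, nat_lit 0, nat_lit 3, nat_lit 2, nat_lit 8, nat_lit 0, nat_lit 2, nat_lit 3]) (TL.leaf [nat_lit 49159, nat_lit 4, nat_lit 6, nat_lit 7, nat_lit 4, nat_lit 6, nat_lit 4, nat_lit 6, nat_lit 1, nat_lit 7, nat_lit 5, nat_lit 7]))) (TL.node (TL.node (TL.leaf [nat_lit 65553, nat_lit 3, nat_lit 1, nat_lit 8, nat_lit 1, nat_lit 3, nat_lit 1, nat_lit 0, nat_lit 8, nat_lit 1, nat_lit 0]) (TL.leaf [nat_lit 67595, nat_lit 8, nat_lit 1, nat_lit 7, nat_lit 2, nat_lit 5, nat_lit 8, nat_lit 6, nat_lit 2, nat_lit 7, nat_lit 1])) (TL.node (TL.leaf [nat_lit 6147, nat_lit 2, nat_lit 1, nat_lit 2, nat_lit 1, nat_lit 2, nat_lit 1, nat_lit 2, nat_lit 1]) (TL.leaf [nat_lit 71681, nat_lit 8, nat_lit 0, nat_lit 5, nat_lit 8, nat_lit 5, nat_lit 0, nat_lit 8, nat_lit 1, nat_lit 0, nat_lit 2, nat_lit 4, nat_lit 2, nat_lit 3, nat_lit 4, nat_lit 7, nat_lit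 1, nat_lit 4]))))) (TL.node (TL.node (TL.node (TL.node (TL.leaf [nat_lit 20488, nat_lit 3, nat_lit 6, nat_lit 3, nat_lit 5, nat_lit 2]) (TL.leaf [nat_lit 67585, nat_lit 8, nat_lit 6, nat_lit 2, nat_lit 7, nat_lit 1, nat_lit 8, nat_lit 1, nat_lit 7, nat_lit 2, nat_lit 5])) (TL.node (TL.leaf [nat_lit 28679, nat_lit 4, nat_lit 6, nat_lit 1, nat_lit 2, nat_lit 1, nat_lit 2, nat_lit 4, nat_lit 2, nat_lit 5]) (TL.leaf [nat_lit 71693, nat_lit 8, nat_lit 1, nat_lit 0, nat_lit 2, nat_lit 4, nat_lit 2, nat_lit 3, nat_lit 4, nat_lit 7, nat_lit 1, nat_lit 4, nat_lit 8, nat_lit 0, nat_lit 5, nat_lit 8, nat_lit 5, nat_lit 0]))) (TL.node (TL.node (TL.leaf [nat_lit 20481, nat_lit 6, nat_lit 3, nat_lit 2, nat_lit 6, nat_lit 3]) (TL.leaf [nat_lit 69645, nat_lit 7, nat_lit 1, nat_lit 5, nat_lit 7, nat_lit 8, nat_lit 7, nat_lit 6, nat_lit 1, nat_lit 7, nat_lit 8])) (TL.node (TL.leaf [nat_lit 26629, nat_lit 3, nat_lit 1,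 nat_lit 4, nat_lit 1, nat_lit 3, nat_lit 1, nat_lit 4, nat_lit 1]) (TL.leaf [nat_lit 69651, nat_lit 7, nat_lit 8, nat_lit 7, nat_lit 6, nat_lit 1, nat_lit 7, nat_lit 8, nat_lit 7, nat_lit 1, nat_lit 5])))) (TL.node (TL.node (TL.node (TL.leaf [nat_lit 14337, nat_lit 6, nat_lit 5, nat_lit 5]) (TL.leaf [nat_lit 47105, nat_lit 7, nat_lit 2, nat_lit 4, nat_lit 6, nat_lit 1, nat_lit 7, nat_lit 3, nat_lit 1, nat_lit 5, nat_lit 4, nat_lit 2, nat_lit 3])) (TL.node (TL.leaf [nat_lit 28677, nat_lit 6, nat_lit 4, nat_lit 6, nat_lit 1, nat_lit 2, nat_lit 1, nat_lit 2, nat_lit 4, nat_lit 2]) (TL.leaf [nat_lit 43010, nat_lit 7, nat_lit 3, nat_lit 1, nat_lit 7, nat_lit 3, nat_lit 1, nat_lit 7, nat_lit 3, nat_lit 1]))) (TL.node (TL.node (TL.leaf [nat_lit 63489, nat_lit 8, nat_lit 0, nat_lit 2, nat_lit 3, nat_lit 8, nat_lit 0, nat_lit 3, nat_lit 2]) (TL.leaf [nat_lit 28673, nat_lit 4, nat_lit 2, nat_lit 5, nat_lit 4,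 nat_lit 6, nat_lit 1, nat_lit 2, nat_lit 1, nat_lit 2])) (TL.leaf [nat_lit 3, nat_lit 1, nat_lit 0, nat_lit 1, nat_lit 0]))))))
def W_t : TL := (TL.node W_t1 W_t2)
noncomputable def W (i : ℕ) : List ℕ := TL.get W_t i
def WA_t : TL := (TL.leaf [nat_lit 0])
noncomputable def WA (i : ℕ) : List ℕ := TL.get WA_t i
noncomputable def row : ℕ → ℕ := hRow (nat_lit 125) (nat_lit 9) (nat_lit 8) (nat_lit 128) (nat_lit 256) (nat_lit 32768) (nat_lit 2048) (nat_lit 2048) (nat_lit 0) E X Pa inv (wfun (nat_lit 127) W_t)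
noncomputable def aux : ℕ → ℕ := hAux (nat_lit 126) (nat_lit 9) (nat_lit 128) (nat_lit 32768) (nat_lit 2048) (nat_lit 2) (nat_lit 2) (nat_lit 2048) (nat_lit 0) E X J Pa inv WA_t.get
theorem r0 : Nat.beq (rng row (nat_lit 0) (nat_lit 126)) (nat_lit 0) = true := by decide +kernel
theorem rows : ∀ i < 126, row i = 0 := by
  have h := zero_lt_zero row
  have h := zero_lt_add (a := (nat_lit 0)) (n := (nat_lit 126)) (b := (nat_lit 126)) h r0 rfl
  exact h
theorem auxs : ∀ i < 0, aux i = 0 := by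
  have h := zero_lt_zero aux
  exact h
theorem closes.{u} : ClosesT.{u} inv rels 9 8 126 T :=
  hc_closes (N1 := (nat_lit 125)) rfl T_eq (by decide +kernel) rows auxs
theorem T_inv : ∀ c < 126, ∀ j < 9, T j c < 126 ∧ T (inv j) (T j c) = c := 
  hc_inv (inv := inv) (N1 := (nat_lit 125)) rfl T_eq rows
end L5

namespace L6
def t0x : TN := (TN.leaf (nat_lit 0x48004ea7802b938155d9a0083b50045c2001ff0801486600804a004542001ee0402f46e009fbe005282801e33c01109c009a8100ba680027d1801140201743d0654a0001f3041758020173460045a58023f14010d720077cc004f2080204cdbf406c1ba9cf06d363801fd2daf42880089c70dd7a3001e11000f5660072b8004be682a9e1400d634008dc10043e38024b24012b6e1b9b38003f12001d61400c5900b9844003495802341000b7780087450032a302e620402aa62007c4500475a001b4d000d5940ca2c00035e202a441000a5320a99aa054a59801fa6c00cc6803ad4506d1a4836ad14194c86279dc100418200131381750800a993b6bc9e202688d0010850006fb200410200126cc190c980aadc001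c48200114c4070a7e00714005d0408050cc80757060dacc606cf5903232dc372e020141210034df82e92c1af23060aaa81009fa18267008015410037988053c8202ea3141b39700aa18a003b4480ddcb400b146039684001dc10029c08014b020136820051d906e6ed800c3100a71be05c0dc00188cc00a44e0d8588053784031ba2036dc10096db3064844029b22012d87e278f040dcd19b5e40c800a840037d4305ca9d8012e10005a08002bb30017cc8013e6807184800484405c982000a810005168005f810093c200e58dc12e16a037232001915801608c0074660d63a3002c820009a10004c0800249800160382d721c14b8060394300016408048ab000910201222206af9606dd8a81ac10e1b578713ab8380d5a1c1aac0e0b558200490382d52c406d40e0c538705298180e38c9aee002011d0705a883829421c36a03003669a00148380d3a1c169c0e0a4d870da683831320c0711741b6881008d0382d2a1c1894060384a7001895831688c36cb0201190701a3838351a1c168c0e1b458301c14f0008204022e0e0343820040438350a1c36840e034182003ec3825021c1a800e0a3f82003d83834fa1c167c0e0b3d87051e8386cf21c187806037509001d4409cec8814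c00201139f50938382ce21c14700e1b3787019b81001ce1c166c0e0a35870d9a83830d21c06680e1b338706198380ccac416c20e1b31a605a48380cc21c1a60640a67070d9783828ba1c365c0e0c2d8301b4178316c5cf6ba060a67810086c380caa0c1ac930001b9905a7818319004021904006320001c8182d7a0c14bc100025071392c1825760402160c0c23860191810016a0800b30c0d218601908e831121816400c0a1f860d8f830307a18123c0c031d820028c3024721806382e0b2986068d8300c6a0800960c0319820023c302862184e300c0317820022030345a18162c0c0a15860d8a83030521806280400398606898300c4a1836240c091186018883034421816200c0a0f861387830243a18061c04002b06060681000a0141a180a090b820012028342a1436140a0c098504848280c22141a100a0a07851383828301a14120c0a03058506828282c121414080a1b038504818202c0a101404081b018406008180c02040200))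
def t1x : TN := (TN.leaf (nat_lit 0x45004d298026d38012f76009844004ca5802a90001339a00ab4c1bd5e7801ef2859597a009e3e00529d0029300012e7400784e003a66002632401148e00913d16549c8aaa2bc011b9800734c0050658023e0402e566007b4a004fe592a8cd075409239a14b004964801fcf073538600898100b5a60026a0402d5880086d2165765c027310735e7e2aac431256a592a9ae8575b9a2aae3f155419801d6d000ee4e0083c400349f801fa8c00b77e00873c0035e50e67cb800d066007c463ed2e1801b50c00f5942ca2c10032a0801d0fc00a55c2ba42d00465611e34ec00e2667287c000409580201211d4c842c9da300416100130ac00fc68008bbe2549e1a1e6ed8550856005f3200411900126dc010c4cb4958100a29109224c4490a8a00663f2bc59d801a6a88f1568007a48124f5f0ae52a975105400413900219e801e2c855239c2baab215d0e10ae40cc8eff52004da6002a5e2d1f2e4574f70003f33124b180018af000b16424968d001de6a1e9d01d91d480036cb1cd1c100288d800c34a2b71ba124600804c8ec00a46400592815b79780134b800a602012e42164857000ca04025b762a9302004e8100270dc00a8747d80c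3154a9d8012eb4fb2470005b390017d10013f109503480047c05fc7990018c90009e68005fb115b257891dad800c26a2472351cb11a00112bc0073662463aa1242d60009a8c004c0201242500160d0a9728c56b84424943715b3d10008a780062440027311237dd8e5d80402412439579d1bab950011aa4008e362a55ad0016928ade4d848d4362c53ad1cb71f09238e9d8e044001d24001c118ad428854a0424a66a31632030913a9c549c502479ae163753239330495117439689a0014ce8a92a711c94622484a815245480124040232463965a85fab148915aa0005d48b245820041998e58270002e0c001db823be8b800dc2c72844a2b41a91d3ec080456809480162b3fb7753bd1090fa2c547c3e0035a1161e910e4f258006c183a7523001d510b0ec0402275c2b600900110e0007e8c54a2360034962521518adce54e4783c2a3d9500118d21cde480035303933981619968adb20800e12e00181d162d0f0005e3c002d702b670f000793891180800db04006c2c5a2a8a000ae9128ba26682c870006c58005075284f327d4b120014488aca42800193c002a213eacd58a97a8856bc5600252a2692c08042c0800bb2e001b14121a9091d6a208e722637219200054100160445440362b389a450cc80907a0402110a2443a11528c08042080002a1a001a161611c8890d030ae3736001f0200240a800285872633a4a309b442207170c058dc2c0400409f418e0b8b05228485504003a0b12098ca0c4a1872240201041825088b9b84224000d16000c0e1c97808040e30941c0c3a2b071606848e8a028561f02010282001248890845056310a2c0981008101000780800390a2b07861b83840b040040203144a05892682828a81208002304000e810080810002e0800120400060200018209002040200))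
def t2x : TN := (TN.leaf (nat_lit 0x4652d7a8962bb38a55c9a00934552d6a5002313c01049a0098be00479a802370c01419600818100badfae1f94971508c0095380046a9002560402e88a008a3c004b682e29300010a760077cd005080805cb2801277200734c0351a1142a915e9408600714d004c0700273280116580088ab52ce868967acd4b3894008fb95c4b00805a501710668007bbb003ea601aaf30993e020162ba003c5d89694e80136a206a6c52c53db001d2a00d289286a24c2c56e400200cca12464007dc100470080550d000d092529bbd12d5808054b00b1226858aab72853808053f244b595ad18bc92c4f23001af111b4b02014c2a00359581a76dd0d10660069ba00435c9621c040293520058bf2c521980210c971097e006541004d1101a0b3971589452a9bb003d1f142031d97256c00663c003c188019b000151625091ba2c4c9f219f21000826658998d003a9bb45eae9970254005627001fdc81a5cec2efe7450a3ac033b95895daf400df0400a90c283d9a9625208014c5a0060b82c50c10028adc0ce4400035c225cfdc0018cdc00c778867620001b80804c2c4006558004d0d0035178011cac007d8aaa8aa95c4480804b43096da644b878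2004d5e81976cc97206a0067342c33d8161fad5d0ff5a00393e78c1cf895920402506c4b70372938410025ee4004f6aa361b7033096141cec8004c640052300016179497ac000747c0068a8002c93219729400704ebd5b810091569fcb2040244560048a75c2e9409616a0006d468657a3002755800c0a4a4f3460037b251aa928014208012102011e270026c10023ac47ebf460029250021120fd528d0ca004008ca1000e910195ca4005d4c58532b2936c08046a0801135cd524a50023cf0010204023304008628000dd52356694004e48504b2e4336470951aa400804a00341f51a2808045c740041260017bd77a192aed06910ca24c0042830bbe0e9612aa0ce8c4c52790c001dd530db094007b48863e20000ad1a18f2040228164b3f08001cc08044ebd96bc0e063b2c65b2d1294e290b0b8443f559f2c37939616075306c3e58719d0010008044490b08b3800218100885832db8d8e2643000131b0014c1001baa8a4ad2c002b9000091421938a0a43b02010e020035570016abc4abe2a712f8a26158a8fcaa784a54348231222828c0804320800c8705262241924173549ac4b0c00e0024010085978012e180c4b02010a960009410016c0800b43686339333908e2351070a46a40521c193f8b00804220800a752002e202c278b0002884003f4e504911128d810013289543204004a23000d068002e10000e246443820022490945a68003e3e583d1e4d0a808041608007804003a972918ca9b48c3ca45e18000c02001a41000cc2000081a0006070002490002008005b124b0d81008181000a22ca423185818820012810008e54a439020102082283c10007a447e1d12000903030c008040630b01f040014841282830183c1c7e200c0002820006828c80e0800130400068100804100004040200))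
def t3x : TN := (TN.leaf (nat_lit 0x46004ea8002b93ce75d9a0083b50045e680289080148960092c300475b002672c01029c009fbb004d87801f13c011086009ab7004a6880297380130a008a6b9004be0001f30445587600a1c7004de600279301159747ca3cb0047e4801e8d5cf409a38a9cc003a23001e12c354502016b451c57a3801fd1000f58c08a33a0d54a11ce9f0435136a73aabb0043258020134354c7008a539003ed98018ad000eb88008a4400349b1f29c8800b77a008c450032a503aaed400aa660078c800455a001aad000da94e1a10100a961022acfc00d766007bb5003a59801faf0f927680ead320039639ce450dbd2b84009a2600445283a253845506800843900331c001fee8e73280007632004119001a6cdc30f9873adc000261080114c41d0a8400714a3e55200010d281d316e7386c6044e5906a32040282702297310024df88a9238455164778d8e001fa18e27120a7414e0041a7001fd908a4714113d6a00730a003b44839dcfc110b660e960b001dda38e352c613e500065b472bbd8b7a2cd800c3402371c11140de801c0f070e13a0058b300371380116c8e6de56386db370c8178011cb4007d7c0e8e02004ed986a422c00d0620e84c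3114a9e0c12e281cd430002fb30015d08013ee0e70e4e7c73c4114986800a83400516a0063340431d903a5ae800a46a0e7232001911000e4c40074620027af002c848009ac4004c5a0024a700160b089729446b8420e94300016450008ab400b3581a5a2e042f8e021bea0004e3a305781008fd0000cc7c00853e2255b442c90288952c41c5a241a53a711a9810023ce434c444004f250021128c1428844a0400e66a13e28c480070ac005d4ab34daa112695000b8fc1d067a0068a4000d0e80102543494600e7d280022548008898006d4a00192e1c36470211a50448c4c1a6ea00741539f1246c00530e0017bf42c04f021589060a24c0e7982003f0e0892a8010804c30790d29bd96321b020007b0e223e20119e918c0f21c0029140e75010089c3800e6c0e6c00c313aa104304b888e28c44703a38378f001952a152070446c3c223594071a8e000441000613400239f072b47038dcc444c23000119c001041838d01000212e736790000e5508938a43499141a2db2002a178696c9962ba647367090006c5038aa3010c9347c4420000e860699030001960225fa739ac040897ac046bc02010b060012160e17614624a323033950009448896aa0ee910c000a9107108da14c41044400400571e000b020002244703c08001a9f1114878e0bc201c9d32001708040d81838768ca696280e19a429a3c688c6204020d0c0e43983b8dc30205a74283e3c22159f398a83068f018000b04003b0600060a0388c5000142e38319b071a41820c01c00081a230f810081c700020241c1c10422b09000185908a01410260c380b820012c2820864c10240a0002061c04818507a34101d0e3007810080c10006014600c0a0e14050402828000a18442004000f0811868208812104613040007040d008183802040200))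
def t4x : TN := (TN.leaf (nat_lit 0x100cc6a002830401027a0082c50049aa8029b1401489c0080cb0051a9001ee980124020176d100511e802514000f89a009aa5003daa0b6b32801113a0084d0004367001f710a35868007eca1055a60025b405b5272007529004ae98b6baf40f406a007735003fe7001fcec01308c00913e0049638026710010302016a0100b4e60b69e0402d08c209cc2003541002bce9d73c6c007d0100b0e58b68b1c01065007a1440042a00019af0a3515a006d4416d69e8b6749441544c00884516cee48021c7c010f520075c20046223ee2700010c8600780100a7d3001cd045b1e5000652d00455601e2c0402988a008ec50031648b698940f233c0790487f486794694fc5b1c762d85c328ca8e08296a000a502014546524b1e0b6b6cc00d2862d9c4028d7268b6ae10008668079f4d2ecf598828ec000e49a51a4b503cbd3001053ca350a207aaa4105390001c49400aa5a004027002ade0016f080f1b02013bb403cfc1002a604027550078fb82d50d2000fc7000931c0059a503c65200150bc0efc4c5a5c1f03bd608017a100064782d6fb22d3658001b004025d540041ac03c9d9801bcbca2dd76bc66010096a08826408013704009b32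6ec100804ae08013474004bb400165f96a52f000d70201292703c5db8018e9c00926ca4648d0015a201e2404024d04009734002919801689400be5e002a241030200b5c2c840bc5a00251603ae92800f09c00e3760778970017c280090c80ec11a20739f001d15b40eca8009102011fa4001b160b55ab0005b4c2d792403bd128012a8c0ee53c004a2800215381e10cd00c244002723001ed2000d204023804008d23002410a90aa9c006158004c81008d55b1136080114726c678d0022122995274b4a73607742616b2148b56088a29e400044a7001a0d918849c003b020117820041cf8811e3040964a00370303c013b014c04022c522d6da503be5380080b05af34a0015a303ba4f800ca89483d445151220011808045090a2b9040077ac002c41001d8780eb22c203990000e91800526c0033020112a456a1c6800888d48ae422d1e01008891a994299788e0201109b0010cf270fa0c0ee002011010001453145386900602c075b01008741001b804021c56c056020035998819cb9b0580400688c1031910013ab80ebf300028020032c781cc45ca25318000da11028c100188c4b44c460024ac522ed1144961040b52a6f23a1531e820002c300e6d3446331c00234680064985a8104005781008451800f888006b4c51460f039c8a000340800a00a000c8c000b410013430002e3489380c03904b00060545a310400458b038d059586c08008448a73f810082d1168e20800792a07138f000401000de04020818000982001a81000ce0800631c000f0d1687c1000bc08005c160727932d0e4201c6e248c060e00048303914a1182a040204165a118a2a03410007c38ba260800028b0003058002428a20e040015143602830b42e0800240201010a00060184c1e080014020100820001c100006040200))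
def t5x : TN := (TN.leaf (nat_lit 0x57005527002ae0403000602ae4607d6a7212b20402f9980083c542559a0024700013f8e009d500052c0805d40402e90602a84d004d698029b44014a92008a4f003a00805cc0c05498002ac4c0051a6002773001277600854c004180805c5100140905baf4b2dcfa5001f6c40112920072c9003d2480aa2e41f3892008fc9014ae5802212c6d4274009737003e80805940402c57002983800335aa5e5aec01368eb6960100adc180a54a8011a7a00848100aa8180a4d0c053164007b4300471ca1242d800d08e0089b44248220014b0400a864007e420034a500a7b00010f52008bb05b45962da2b2109528c5b9baf42359725e2334054e6e00698100a4c180a1cd52f0c740070b900392521288d1c9080400aec2004d132120ac400c3020143030140df80a8208015b68b67f8100a081809fcc0009f640f8cb500331f03e8e04027e06027c0200555a801eaf4b7535400402d0029c0804ee0c04f17af08232423b98b71dad800c768b675c71b4e410029f35094c5a006082005219a128a0801434c0057bd3040588012f0000bb76006216001b94211bab8b6dc58003eaf00369680132c0b6f374006a82004f1c000b509ef1d80028c4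23b4a1a16dbf0c6d1e34005d22002c81002660801324c5b65c3004919000beb400b36a005b21002d5b2125ef800d16ce977810092da000e4c8006460002cb0423240804900c04bd5e003a980015808048c0c04b9040094bc2dbb02800e6a000623e0044200015180097e98004e4800349f001a958008eac009a02011f020049408047a08012256cc3ca00023991d9a8b0004942004481008e018094484008104008d81008dd18095204023506024e290021d5800b6b56c98745b85a24ba8c0804668404a004008681008c818092498009054845a1e000ecc0008404022f4a0034255b229125d2c7108c84e365602004096211b6946cae22024602003f4d83d289d7cd834001e02003dd11810a04022902011403011ec1001e48404ab0400782400291ba11c08804c23e9763204bb9c08044a0c047134023e1400184f96d6004022206023622272101001c67c00653600331a0010d1ab916c0004a22001ca51b23c1001bca8b6ad5a765f040008c3000b810001c04006c820035d42056204021b06022c020033ca8092a0800ce02010c830114ce2488860049e3c02229f001b408042c0c044d44003a02003016008ec0800bc305b3002002e020004e78002e34363396000d90800680402110602201f421e108d93a60f22a0400531e2f904b8004c0800a12c76281940a3410013684043a26602a820024450003a3000171e60418f2f94488005a04020b06021602001fcc1e4de08007a3c0027972d98c1000e03cb65e144e1202001acb000420402070602100c0003040001a08005d04002b8a1b0c01000a4144c18060f0d020013038002a5000140c360f100004010007e386c0e0c00030a0004810006228001304001593348280804040c040904000f840000c0804020c04050400078200020100008040200))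
def t6x : TN := (TN.leaf (nat_lit 0x49004fc08060e10015b020180470056a7802b30401479a19aec6005580805ed58215e7c007a490045250027210014f020174ce0044291229b3800e89e49a9500cd302002900402e67e007ccb24519a001cb2c01090201724c004d20002030d6f407e21aa4c004fa5802320402d69649a2c60854e4001d4e801388e0089ba3f4b260429d04fd060201668100b32200248e4012f6e0062b90cccdb0025b20012b94009b04004a408056f0c00d29619a204004940805550892ca6619aa8100aa1d00242d4011e90199bc4003421801a908332202014fa95bca19801f70400d350c78bb10045968022b20934b8cfd8fb00ccf178022329ff357e498c0400434080526d8010c76004bba0cd0de0864ed40108967eabcb2450938020af800ef0800810100a19f001c408015c6a007f84003f4080504c4331b92499eb60ccc81002b01000f702013f3110c8da31deb20e93a62006c01009e42001e00402776e0061b3003b99001daf400b66a007582005441002a138914a4200390200526408676e0930a0201348200505c92616e000756a006881009854801babc00dc5a0042ae6a3680804b6a0008002012d3000449c865aecc00a56c7e87c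179c69e92188d4fd2002012b0100951b8425cd120fa4e006582004c588017c7400886a107620001cc100260e892df60908223001d16085ce04024a620058ae0017c2001780402487e4970190cb3c2001700402460400953424b1d00858cac008f584964210cb394800b280006d4a1971a6002115800c0a0008744003c020049920013b00211c58197901008ee18663a8d567646004b04002840804708800945ed97e190014110007a10009b02011aaa0cab16065b2b80098604970a300224b000aa700081040087040024408046494e8904c00311f0ca98d0006c480083480032a6002290085467842b350104d020040d1800fa8c006a20001782003f9004140a492f302011502003e15925b66c006f08003d01008a160014e80003e040078ad00125704176852a4b08215ab3083042000e0040225320014950cb78f2749c10006b0201111e242b918415e90328b3600219a3f19cf240d0c432c03000132724ad099a8dc640047621964900009008043814325d54484cb74ab5578417e10005702010d973c2e8a000667c20b2080029010086480005c5c00373a9513a524ac02000980402160400612f3c1915b3d480800bd54495682002e4f8009e740051325e33171aa34f8007410003f02010882002ac10015264327f3a904722000d08040c60800a204004f152f108100138812a4104004a820024808041a2c001a0400461d0c91081785a10002b02010599000f01000f808007b061522963a0e41000e22c002306102f02001b0a8d44210001f020103870004c4864620c2c5c04002c040005c1000a6180018161918020013430d42a4cd61412490609240381000803c32120201018f0004039043a2c321e0400161400028200010040202040010050c83c200008040201061203020002410000a080000))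
def t7x : TN := (TN.leaf (nat_lit 0x527357a987ebb49195c98008833025680805f740b3589e00a28100be280021920014c9a007cbd0051e01663b340107a862a7c50044c0805d11d3d549e009f0100b9a70027f31cd487859a90100b967012af2c012e74009b4d004c650025719ed409a62a4ce2cd2c0805b52c01256c0074ca7d4e80805ab143f388a008b394f50d99666ad00129820099402ccce607e851401026e0077ca2cd11980258c8092d929ea0c5004919a7a688409287a008e407349a51667911192a92008ac4003c63001fd1400f08800803c003320802a2f13d27820087b200359196632f800d752c58bc4464de407e46d800f4889ea7040026208020d2d195b801f8dba00295c801f93d195502014932004059001f4fc00f7988ca8400244508013e040286861f81c45ccc18812150d8b1f020141452cc859165fae03f0d0400acb1024266232a60801567c9f842b4f3d9a315ead5cd144e0041aa001fe1bda451119206cda978a003a84000eef800895e006289023b9a87e7608014d600048020052810028cd808e4545971b302389c8013cf000a30201313300371380116c8b2de5a005582004f578011c8800787a048c314dc6810027210005a0a00499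9002a9e87d2cd800a86a0067340fb3d080114ec3f1e5c00369e023280804a0783ec8020127b3002fd7011d6ec0052660461b30fb08080494c800bd64da630100925887d80c4b2bc440059300023d4800d69cb2b840045bb40015902796ab80044500048a1462ec080482a4004b4aaf382d002710000c604023e58596d9802349580140d408d054044d2800251c98a1c04023a7659702800211318942a972a9400482b82cb84200070b03eae4000202b0029d5000b80c091202011a3e003455001029cb2a6080469820042d3ad566bd3ce75e9b5d2e46364080462a0088c4c596ea002335e965d880003708001782004100804589ccaa24c047982003fd49892a04022a528c792a611f808045294007b48ac3e272c9e9300056853ed80e047689001cc38004eb8004d101f3b204f1211aa4e29800af38001e0f000956965968cc46c50b95c94000cce000c21000223a00238e0008ca0008cc936643e0456820037cd810d204021e2e3c2b98000e520007ea4b2992c592d830235008043610003230002fb36d2d85800380402193c9b173a0fb10ea58a20800c904006381008596b4ce8c93c4c501f58020030410017c8400723859339302194fa808ab43eb402010991021081001627d329b46432e82002b030006a6d186f0800088200290b964bc0c089d3e9e44010083c287c7a080097260435030c16010011a4c000d0604439f0014c0804180800854aa83c82002001000fa10000b0c3c3a81008247010dc3800081a593303021a008040e4c001422620f820018068001c28085504002c88218181000a80402050c3b0b820013808040848ca20040021903184818107604020304001b0c1d87491646008002d060414010080810004c34762404001089000681000300800150400080200028181002040200))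
def t8x : TN := (TN.leaf (nat_lit 0x53004c688028340013d9005adb402d6a5112b33801226605abcb2255a88024a205d545c1ca9c700511f072a3443950a400a5081753a88be9b2c394c102ea5d10e53e78729334013b102ea3ce17d1a68728b188952741ca18100b8e80baba0402df02016f0100b6e7872b8c5c53c9805a44a003de501673143938561c9bac0e4da40021a203934862e99c2224ca9016bd285d306a0079b60e4b9b0165b1c012a02015c4602cb20872521c0b280201564102c9a8016aa1c5d24020154cd0e561a912420402a702015343004121002261c0b1c840051050028128015cc800d202014e0100a6c08053214009a82f58ec40035c38162204029502014a3e02c3a3b366ad4890c64db85c10041838161204028c0a0045c002c2838160b08391e880581be003f838ba02040284660041bd774099b35fabc00a10e2e7d8100a000804fec85cf892fc9d07173d80804fa04027c684497ad02bc9d800f4e8007b0a003cb1003656815dab438ec3c00428702ba80804e20402700e2e7381009b00804d60402690400a1040019610012e0402630400a002004fcd111ba9838dc04009f010096d8015dc98ead8860589050017223b9aaa80ad4560569b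102c619801201c0ad066005eb417338d0159ac000c56000620f00185c001223088c85c00580617319781598bc38cb6a0561b317309900176d488c0020124b0222f990b99ecc0060620560810091d30717208012b080023160017830b96ab8004a0c2e59810090cf80084b40ac7361c57a42246438155a080127482f5581008f410024604023c040090020047c2000768c68a40c2e51c102c6d7359f810391a08001c310015c60153a08011704008b040e45010022a100035821c70861725810022008010f080019a817249b87192c838d10c2e478f02a395324ec080108081c8384000bcf91112185c8828054381008b0e815d608010064057f81008ad4071020800fa04007c81008a41001ea0800f47233783a76bc42071de2088780800142b002356338ea7400660c2e3981008981001d20800e80e1c3787029b80804460800e6040072880e1a81001c8640a68321c339c479d01815c4040220040070010087c701594c9c0bc02010e95222d92954ba1038d604006d04000714b04b2a8665860db4f06171585814aab4004b321c29af0013470003c145c5002010c2117139723ca4d05c4c58cd2a2d692d010017e145c4804005d0302adc0804280402130400591e02ac408042478884034331f860e0f81001540800a80605528100840a870720c0a9f0201078b2a8d818153004020e060549810083470bc621c5e30060545010083098cc5a080086040041070e0a81000fc0c0a7702010502001c830144a1838240400368702888c1d4420800640400310d221441000be0c0a5a0201030a2786808040a08004f101c0b810081028d02a080045040022020010428142208003a04001b82000d010006408002e0c0505820009c38bc121466080c1c03820006c100032080016081c018517808181402040200))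
def t9x : TN := (TN.leaf (nat_lit 0x520056298fabb443d5c8e009b8100bf5d801f745275e02017c4e0051680022720014c9800a6cd0f54a587679380146a61ea7b6004325a4ea71c51548400a4a40ed2a08a29730013a4828a3cd49d4268a6ad303b4474009b3d003c610a2824c3d406a009f340f4fd70767b30015186007bcb49d224801ab147d388c93adb91450e43e66b0c0132840094c2144d25002452851306c0077b9144b80805800402bd581e95c50033e08a2660402b5400070400032248023ad400ce4c008049144c6387642f000f05a008abc0031243e24a0402a382008d407946d70022e04029e5a1e8c9b00441607a3eac00f49e93aa8100a5c08052c683d1636006b3d00291c8fa1ad4514e521d858100a4008051ea000e94e0072bf00344080510c000cb8600613108c08c001ce943d236400413f0f3f81002b4c03cfc7429aca0002e91001d0080157843e9da2143d91079eaa83d1402013cac002bde07a84ec3d206a1e9781009d80804eafc008902013a01009cd387a10843cf92e2880a30f399307a0ed400bc58003d0100991e801ae7c3d27241d6fb40036d580172bc00ab661d6f2d0f36978011a8800787891709a0f43e40a67204025902012c0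10095df24e0c04025688939534144900804a60402525e1d820100945a0017efd272618002a0c0014008049aec7d1e020126421f40c40009408012d661d64aa002cc100258d03ce460005a1f0f3e95075baacc2b80201229a002a0100250bd26bb521d5f0800110f00082a4004b5693792d0027008047c7c00635c936e110017d280108643cb650613dac00264080474f07d0e04008e27002808045429822a202011b820046008046cb07cae34004aaa001f158754c0402340400890200444c8453660f45c0201192814249424c9208010a04008481008c5724db29c00714c003581008b9f0a5d808010502011697001b4b800cc9022a9020115b114bfd4000807c0047420038210f1f90874faa4e09a520053ab6338c1001e68544d802011382003b81001da0800eb0400750b0f1c930451880e07f3a001c8100890b0790c89446c4a704593000c0d800c00402213a0015160ea140804400800e23c2956110f18808043c691669201e5519000f05844ba64009458ca2d810086c1001a80800d304006902003400804342c3ac704006682003301001942c50c616000c850e93810018a0800c3503e580714b054801221450483c1d40010085010016e1c3cb20e00098100848e8a5629d60811e111f82002b480003a60805e0201080200294e24cde04020f04004f820027408041c080098020106820024c10011c48cc6a020106020022810010e5800230400419c4899d022c5204020a04003b8a0e89808041008006e2a7016010081c1000d008006520610f820018478f87a04020604002d020015450789e207a0512400b840f05820742a0800460c2921820010808040608003b04001c02000d410006608002f02010102000a048f81208002504001102000704800300c2204040008820002c080400080001))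
def tt : TN := (TN.node (TN.node (TN.node (TN.node t0x t8x) (TN.node t4x (TN.leaf (nat_lit 0)))) (TN.node (TN.node t2x (TN.leaf (nat_lit 0))) (TN.node t6x (TN.leaf (nat_lit 0))))) (TN.node (TN.node (TN.node t1x t9x) (TN.node t5x (TN.leaf (nat_lit 0)))) (TN.node (TN.node t3x (TN.leaf (nat_lit 0))) (TN.node t7x (TN.leaf (nat_lit 0))))))
noncomputable def T (j c : ℕ) : ℕ := getL tt (nat_lit 25) (nat_lit 511) j c
noncomputable def E (j c : ℕ) : ℕ := getL tt (nat_lit 25) (nat_lit 0x1ffffff) j c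
theorem T_eq (j c : ℕ) : T j c = E j c % 512 :=
  getL_mod (a := 9) (b := 25) _ _ (by norm_num) (by norm_num) (by norm_num) (by norm_num) j c
def rels : List (List ℕ) := [[nat_lit 0, nat_lit 1, nat_lit 0, nat_lit 1], [nat_lit 0, nat_lit 2, nat_lit 0, nat_lit 2], [nat_lit 0, nat_lit 3, nat_lit 0, nat_lit 3], [nat_lit 1, nat_lit 2, nat_lit 1, nat_lit 2, nat_lit 1, nat_lit 2, nat_lit 1, nat_lit 2], [nat_lit 1, nat_lit 3, nat_lit 1, nat_lit 3, nat_lit 1, nat_lit 3], [nat_lit 2, nat_lit 3, nat_lit 2, nat_lit 3], [nat_lit 1, nat_lit 2, nat_lit 3, nat_lit 1, nat_lit 2, nat_lit 3, nat_lit 1, nat_lit 2, nat_lit 3], [nat_lit 5, nat_lit 5, nat_lit 5], [nat_lit 0, nat_lit 4, nat_lit 0, nat_lit 4], [nat_lit 5, nat_lit 0, nat_lit 6, nat_lit 0], [nat_lit 5, nat_lit 3, nat_lit 2, nat_lit 6, nat_lit 3], [nat_lit 6, nat_lit 1, nat_lit 5, nat_lit 2, nat_lit 1, nat_lit 2], [nat_lit 4, nat_lit 1, nat_lit 2, nat_lit 1, nat_lit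 4, nat_lit 1, nat_lit 2, nat_lit 1], [nat_lit 4, nat_lit 1, nat_lit 3, nat_lit 1, nat_lit 4, nat_lit 1, nat_lit 3, nat_lit 1], [nat_lit 4, nat_lit 2, nat_lit 5, nat_lit 4, nat_lit 6, nat_lit 1, nat_lit 2, nat_lit 1, nat_lit 2], [nat_lit 4, nat_lit 5, nat_lit 1, nat_lit 6, nat_lit 4, nat_lit 1], [nat_lit 5, nat_lit 2, nat_lit 4, nat_lit 6, nat_lit 3, nat_lit 4, nat_lit 3, nat_lit 1, nat_lit 2, nat_lit 1], [nat_lit 0, nat_lit 7, nat_lit 0, nat_lit 7], [nat_lit 2, nat_lit 7, nat_lit 2, nat_lit 7, nat_lit 2, nat_lit 7], [nat_lit 3, nat_lit 7, nat_lit 3, nat_lit 7], [nat_lit 5, nat_lit 7, nat_lit 5, nat_lit 7, nat_lit 5, nat_lit 7, nat_lit 5, nat_lit 7, nat_lit 5, nat_lit 7], [nat_lit 1, nat_lit 3, nat_lit 7, nat_lit 1, nat_lit 3, nat_lit 7, nat_lit 1, nat_lit 3, nat_lit 7], [nat_lit 7, nat_lit 1, nat_lit 3, nat_lit 2, nat_lit 1, nat_lit 7, nat_lit 6, nat_lit 1, nat_lit 5], [nat_lit 7, nat_lit 2, nat_lit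 4, nat_lit 6, nat_lit 1, nat_lit 7, nat_lit 3, nat_lit 1, nat_lit 5, nat_lit 4, nat_lit 2, nat_lit 3], [nat_lit 7, nat_lit 5, nat_lit 7, nat_lit 4, nat_lit 6, nat_lit 7, nat_lit 4, nat_lit 6, nat_lit 4, nat_lit 6, nat_lit 1], [nat_lit 7, nat_lit 1, nat_lit 2, nat_lit 6, nat_lit 4, nat_lit 5, nat_lit 7, nat_lit 1, nat_lit 3, nat_lit 1, nat_lit 6, nat_lit 4, nat_lit 5], [nat_lit 7, nat_lit 1, nat_lit 4, nat_lit 1, nat_lit 6, nat_lit 4, nat_lit 7, nat_lit 1, nat_lit 4, nat_lit 5, nat_lit 4, nat_lit 1], [nat_lit 0, nat_lit 8, nat_lit 0, nat_lit 8, nat_lit 0, nat_lit 8], [nat_lit 4, nat_lit 8, nat_lit 4, nat_lit 8], [nat_lit 0, nat_lit 1, nat_lit 8, nat_lit 0, nat_lit 1, nat_lit 8, nat_lit 0, nat_lit 1, nat_lit 8], [nat_lit 2, nat_lit 7, nat_lit 8, nat_lit 2, nat_lit 7, nat_lit 8, nat_lit 2, nat_lit 7, nat_lit 8, nat_lit 2, nat_lit 7, nat_lit 8], [nat_lit 8, nat_lit 0, nat_lit 2, nat_lit 3, nat_lit 8, nat_lit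 0, nat_lit 3, nat_lit 2], [nat_lit 8, nat_lit 1, nat_lit 3, nat_lit 1, nat_lit 0, nat_lit 8, nat_lit 1, nat_lit 0, nat_lit 3, nat_lit 1], [nat_lit 8, nat_lit 6, nat_lit 2, nat_lit 7, nat_lit 1, nat_lit 8, nat_lit 1, nat_lit 7, nat_lit 2, nat_lit 5], [nat_lit 8, nat_lit 7, nat_lit 6, nat_lit 1, nat_lit 7, nat_lit 8, nat_lit 7, nat_lit 1, nat_lit 5, nat_lit 7], [nat_lit 8, nat_lit 0, nat_lit 5, nat_lit 8, nat_lit 5, nat_lit 0, nat_lit 8, nat_lit 1, nat_lit 0, nat_lit 2, nat_lit 4, nat_lit 2, nat_lit 3, nat_lit 4, nat_lit 7, nat_lit 1, nat_lit 4], [nat_lit 8, nat_lit 1, nat_lit 8, nat_lit 5, nat_lit 2, nat_lit 8, nat_lit 1, nat_lit 8, nat_lit 4, nat_lit 7, nat_lit 4, nat_lit 7], [nat_lit 0, nat_lit 9, nat_lit 0, nat_lit 9], [nat_lit 7, nat_lit 9, nat_lit 7, nat_lit 9], [nat_lit 8, nat_lit 9, nat_lit 8, nat_lit 9], [nat_lit 1, nat_lit 7, nat_lit 9, nat_lit 1, nat_lit 7, nat_lit 9], [nat_lit 5, nat_lit 9,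 nat_lit 7, nat_lit 5, nat_lit 9, nat_lit 7, nat_lit 5, nat_lit 9, nat_lit 7, nat_lit 5, nat_lit 9, nat_lit 7, nat_lit 5, nat_lit 9, nat_lit 7], [nat_lit 9, nat_lit 3, nat_lit 9, nat_lit 3, nat_lit 7], [nat_lit 9, nat_lit 4, nat_lit 6, nat_lit 1, nat_lit 2, nat_lit 9, nat_lit 0, nat_lit 2, nat_lit 4, nat_lit 6, nat_lit 7, nat_lit 6, nat_lit 4, nat_lit 6], [nat_lit 9, nat_lit 5, nat_lit 9, nat_lit 6, nat_lit 9, nat_lit 4, nat_lit 3, nat_lit 7, nat_lit 4, nat_lit 7, nat_lit 5, nat_lit 3], [nat_lit 9, nat_lit 6, nat_lit 4, nat_lit 6, nat_lit 4, nat_lit 9, nat_lit 4, nat_lit 5, nat_lit 4, nat_lit 7, nat_lit 6, nat_lit 7, nat_lit 5, nat_lit 7], [nat_lit 9, nat_lit 4, nat_lit 9, nat_lit 3, nat_lit 2, nat_lit 9, nat_lit 4, nat_lit 9, nat_lit 2, nat_lit 6, nat_lit 2, nat_lit 7, nat_lit 2, nat_lit 5, nat_lit 3], [nat_lit 9, nat_lit 2, nat_lit 1, nat_lit 9, nat_lit 6, nat_lit 4, nat_lit 9, nat_lit 1, nat_lit 2,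 nat_lit 9, nat_lit 1, nat_lit 5, nat_lit 7, nat_lit 5, nat_lit 3, nat_lit 4, nat_lit 6], [nat_lit 9, nat_lit 2, nat_lit 7, nat_lit 8, nat_lit 6, nat_lit 8, nat_lit 4, nat_lit 6, nat_lit 9, nat_lit 7, nat_lit 4, nat_lit 5, nat_lit 8, nat_lit 5, nat_lit 1, nat_lit 8, nat_lit 5], [nat_lit 9, nat_lit 4, nat_lit 2, nat_lit 8, nat_lit 7, nat_lit 5, nat_lit 8, nat_lit 1, nat_lit 2, nat_lit 9, nat_lit 0, nat_lit 5, nat_lit 1, nat_lit 8, nat_lit 3, nat_lit 8, nat_lit 6, nat_lit 8, nat_lit 4, nat_lit 3, nat_lit 2], [nat_lit 9, nat_lit 2, nat_lit 9, nat_lit 5, nat_lit 8, nat_lit 2, nat_lit 5, nat_lit 8, nat_lit 2, nat_lit 9, nat_lit 2, nat_lit 9, nat_lit 7, nat_lit 6, nat_lit 8, nat_lit 6, nat_lit 8, nat_lit 7]]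
def inv (i : ℕ) : ℕ := Nat.land (Nat.shiftRight (nat_lit 0xa9875643210) (Nat.mul (nat_lit 4) i)) (nat_lit 15)
def X_t : TN := (TN.leaf (nat_lit 0))
noncomputable def X (i : ℕ) : ℕ := get9 X_t (nat_lit 1) (nat_lit 1) i
def Jp_t : TN := (TN.leaf (nat_lit 0))
noncomputable def Jp (i : ℕ) : ℕ := get9 Jp_t (nat_lit 1) (nat_lit 1) i
def J_t : TN := (TN.leaf (nat_lit 0))
noncomputable def J (k : ℕ) : ℕ := getV J_t Jp k
def Pa_t : TN := (TN.leaf (nat_lit 0xf314f076f005f006efd9efb7ef95ef89ef87ef66ef40eed4eeb2eea5ee95ee96ee90ee87ee82ee80ee67ee65ee66ee60ee57ee52ee51ee46ee38ee25edf8ede8edb8eda7ed66ed63ed61ed57ed51ed44ed34ed22ed04ccd6ccc6cca5cc55cc52cc34cc09cbd9cb88cb75cb76cb59cac8caa5caa6caa0ca98ca86ca82ca78ca68ca53ca52ca39c9f6c9f4c9f2c9e9c9c8c9b8c998c984c982c979c969c958c948c935c936c932c927c909c8f9c8c8c8a4c8a1c889c867c865c866c860c848c827c825c826c823c820c808c7f8c7e5c7e6c7e0c7d8c7c8c799c796c775c776c774c769c759c75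4c749c739c718c708c6d0c6c8c6b8c698c696c649c641c638c627c616c612c5d4c5c1c5b8c5b6c5b1c5a6c5a4c5a2c599c589c579c574c569c566a546a539a529a524a519a507a502a4f7a4f0a4d9a4d4a4c9a4b5a4a7a4a6a498a497a485a486a481a478a465a466a459a452a450a442a440a438a417a411a3f4a3f3a3e9a3e7a3e5a3d8a3d5a3c8a3c2a3b6a3a9a3a7a3a0a385a386a384a379a375a369a355a356a354a352a349a347a340a335a332a329a325a326a321a320a319a317a2f5a2f4a2e9a2e2a2e0a2d9a2c8a2c7a2c4a2b9a2b8a2b1a2a7a2a6a298a297a295a285a286a284a282a279a273a272a271a270a268a255a256a254a249a238a225a226a224a222a219a214a212a209a208a204a1f8a1e9a1e7a1d8a1d4a1c6a1c4a1c2a1b9a1b7a1b5a1b6a1b0a1a9819781958196819281908188816781658166816381628161816081528149814881388137812981288115811681148112811181098108810180f980f880f780e980e880d980d880d680d380c980c880c780b580b680b480b280a980a8809780898084808180798077807580768073807180698068806260586057605160486047604460426041603960376036603360326031602960276025602660246021401540164014401220090000))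
noncomputable def Pa (i : ℕ) : ℕ := get9 Pa_t (nat_lit 16) (nat_lit 65535) i
def W_t1 : TL := (TL.node (TL.node (TL.node (TL.node (TL.node (TL.node (TL.leaf [nat_lit 14338, nat_lit 5, nat_lit 6, nat_lit 6]) (TL.leaf [nat_lit 32786, nat_lit 2, nat_lit 6, nat_lit 1, nat_lit 2, nat_lit 1, nat_lit 3, nat_lit 4, nat_lit 3, nat_lit 5, nat_lit 4])) (TL.node (TL.leaf [nat_lit 65540, nat_lit 3, nat_lit 0, nat_lit 1, nat_lit 8, nat_lit 0, nat_lit 1, nat_lit 3, nat_lit 1, nat_lit 8, nat_lit 1]) (TL.leaf [nat_lit 102402, nat_lit 7, nat_lit 8, nat_lit 5, nat_lit 8, nat_lit 5, nat_lit 7, nat_lit 9, nat_lit 2, nat_lit 9, nat_lit 2, nat_lit 8, nat_lit 6, nat_lit 2, nat_lit 8, nat_lit 6, nat_lit 9, nat_lit 2, nat_lit 9]))) (TL.node (TL.node (TL.leaf [nat_lit 20489, nat_lit 3, nat_lit 5, nat_lit 3, nat_lit 2, nat_lit 6]) (TL.leaf [nat_lit 96263, nat_lit 9, nat_lit 6, nat_lit 4, nat_lit 9, nat_lit 1, nat_lit 2, nat_lit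 9, nat_lit 1, nat_lit 5, nat_lit 7, nat_lit 5, nat_lit 3, nat_lit 4, nat_lit 6, nat_lit 9, nat_lit 2, nat_lit 1])) (TL.node (TL.leaf [nat_lit 86025, nat_lit 7, nat_lit 9, nat_lit 3, nat_lit 9, nat_lit 3]) (TL.leaf [nat_lit 98314, nat_lit 8, nat_lit 6, nat_lit 4, nat_lit 7, nat_lit 9, nat_lit 5, nat_lit 4, nat_lit 8, nat_lit 5, nat_lit 8, nat_lit 7, nat_lit 2, nat_lit 9, nat_lit 6, nat_lit 8, nat_lit 1, nat_lit 6])))) (TL.node (TL.node (TL.node (TL.leaf [nat_lit 88088, nat_lit 6, nat_lit 4, nat_lit 9, nat_lit 5, nat_lit 4, nat_lit 5, nat_lit 7, nat_lit 5, nat_lit 4, nat_lit 2, nat_lit 0, nat_lit 9, nat_lit 2, nat_lit 1]) (TL.leaf [nat_lit 102431, nat_lit 5, nat_lit 8, nat_lit 7, nat_lit 9, nat_lit 2, nat_lit 9, nat_lit 5, nat_lit 8, nat_lit 2, nat_lit 5, nat_lit 8, nat_lit 2, nat_lit 9, nat_lit 2, nat_lit 9, nat_lit 7, nat_lit 6, nat_lit 8])) (TL.node (TL.leaf [nat_lit 22539, nat_lit 2, nat_lit 6, nat_lit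 1, nat_lit 5, nat_lit 2, nat_lit 1]) (TL.leaf [nat_lit 73748, nat_lit 8, nat_lit 1, nat_lit 8, nat_lit 7, nat_lit 4, nat_lit 7, nat_lit 4, nat_lit 8, nat_lit 1, nat_lit 8, nat_lit 2, nat_lit 6]))) (TL.node (TL.node (TL.leaf [nat_lit 28675, nat_lit 2, nat_lit 5, nat_lit 4, nat_lit 6, nat_lit 1, nat_lit 2, nat_lit 1, nat_lit 2, nat_lit 4]) (TL.leaf [nat_lit 53266, nat_lit 1, nat_lit 4, nat_lit 1, nat_lit 7, nat_lit 1, nat_lit 4, nat_lit 6, nat_lit 4, nat_lit 1, nat_lit 7, nat_lit 4, nat_lit 5])) (TL.node (TL.leaf [nat_lit 88086, nat_lit 1, nat_lit 5, nat_lit 4, nat_lit 9, nat_lit 5, nat_lit 4, nat_lit 5, nat_lit 7, nat_lit 5, nat_lit 4, nat_lit 2, nat_lit 0, nat_lit 9, nat_lit 2]) (TL.leaf [nat_lit 86022, nat_lit 9, nat_lit 3, nat_lit 9, nat_lit 7, nat_lit 3]))))) (TL.node (TL.node (TL.node (TL.node (TL.leaf [nat_lit 18435, nat_lit 0, nat_lit 6, nat_lit 0, nat_lit 5]) (TL.leaf [nat_lit 96286, nat_lit 1,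 nat_lit 2, nat_lit 9, nat_lit 5, nat_lit 4, nat_lit 3, nat_lit 6, nat_lit 7, nat_lit 6, nat_lit 1, nat_lit 9, nat_lit 2, nat_lit 1, nat_lit 9, nat_lit 4, nat_lit 5, nat_lit 9])) (TL.node (TL.leaf [nat_lit 81926, nat_lit 1, nat_lit 9, nat_lit 7, nat_lit 1, nat_lit 9, nat_lit 7]) (TL.leaf [nat_lit 92161, nat_lit 9, nat_lit 6, nat_lit 4, nat_lit 6, nat_lit 4, nat_lit 9, nat_lit 4, nat_lit 5, nat_lit 4, nat_lit 7, nat_lit 6, nat_lit 7, nat_lit 5, nat_lit 7]))) (TL.node (TL.node (TL.leaf [nat_lit 22531, nat_lit 1, nat_lit 5, nat_lit 2, nat_lit 1, nat_lit 2, nat_lit 6]) (TL.leaf [nat_lit 102411, nat_lit 2, nat_lit 5, nat_lit 8, nat_lit 2, nat_lit 9, nat_lit 2, nat_lit 9, nat_lit 7, nat_lit 6, nat_lit 8, nat_lit 6, nat_lit 8, nat_lit 7, nat_lit 9, nat_lit 2, nat_lit 9, nat_lit 5, nat_lit 8])) (TL.node (TL.leaf [nat_lit 90130, nat_lit 6, nat_lit 9, nat_lit 6, nat_lit 9, nat_lit 3, nat_lit 6, nat_lit 7, nat_lit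 4, nat_lit 7, nat_lit 3, nat_lit 4, nat_lit 9]) (TL.leaf [nat_lit 100377, nat_lit 1, nat_lit 8, nat_lit 3, nat_lit 8, nat_lit 6, nat_lit 8, nat_lit 4, nat_lit 3, nat_lit 2, nat_lit 9, nat_lit 4, nat_lit 2, nat_lit 8, nat_lit 7, nat_lit 5, nat_lit 8, nat_lit 1, nat_lit 2, nat_lit 9, nat_lit 0, nat_lit 5])))) (TL.node (TL.node (TL.node (TL.leaf [nat_lit 10243, nat_lit 3, nat_lit 2, nat_lit 3, nat_lit 2]) (TL.leaf [nat_lit 32771, nat_lit 2, nat_lit 4, nat_lit 6, nat_lit 3, nat_lit 4, nat_lit 3, nat_lit 1, nat_lit 2, nat_lit 1, nat_lit 5])) (TL.node (TL.leaf [nat_lit 24577, nat_lit 4, nat_lit 1, nat_lit 2, nat_lit 1, nat_lit 4, nat_lit 1, nat_lit 2, nat_lit 1]) (TL.leaf [nat_lit 86018, nat_lit 7, nat_lit 3, nat_lit 9, nat_lit 3, nat_lit 9]))) (TL.node (TL.node (TL.leaf [nat_lit 59395, nat_lit 1, nat_lit 8, nat_lit 0, nat_lit 1, nat_lit 8, nat_lit 0, nat_lit 1, nat_lit 8, nat_lit 0]) (TL.leaf [nat_lit 65539,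 nat_lit 1, nat_lit 3, nat_lit 1, nat_lit 0, nat_lit 8, nat_lit 1, nat_lit 0, nat_lit 3, nat_lit 1, nat_lit 8])) (TL.node (TL.leaf [nat_lit 94213, nat_lit 9, nat_lit 3, nat_lit 2, nat_lit 9, nat_lit 4, nat_lit 9, nat_lit 2, nat_lit 6, nat_lit 2, nat_lit 7, nat_lit 2, nat_lit 5, nat_lit 3, nat_lit 9, nat_lit 4]) (TL.leaf [nat_lit 49164, nat_lit 7, nat_lit 5, nat_lit 4, nat_lit 7, nat_lit 6, nat_lit 7, nat_lit 1, nat_lit 5, nat_lit 4, nat_lit 5, nat_lit 4])))))) (TL.node (TL.node (TL.node (TL.node (TL.node (TL.leaf [nat_lit 10241, nat_lit 2, nat_lit 3, nat_lit 2, nat_lit 3]) (TL.leaf [nat_lit 24581, nat_lit 2, nat_lit 1, nat_lit 4, nat_lit 1, nat_lit 2, nat_lit 1, nat_lit 4, nat_lit 1])) (TL.node (TL.leaf [nat_lit 49159, nat_lit 4, nat_lit 6, nat_lit 7, nat_lit 4, nat_lit 6, nat_lit 4, nat_lit 6, nat_lit 1, nat_lit 7, nat_lit 5, nat_lit 7]) (TL.leaf [nat_lit 88065, nat_lit 9, nat_lit 4, nat_lit 6, nat_lit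 1, nat_lit 2, nat_lit 9, nat_lit 0, nat_lit 2, nat_lit 4, nat_lit 6, nat_lit 7, nat_lit 6, nat_lit 4, nat_lit 6]))) (TL.node (TL.node (TL.leaf [nat_lit 92181, nat_lit 5, nat_lit 7, nat_lit 5, nat_lit 7, nat_lit 9, nat_lit 6, nat_lit 4, nat_lit 6, nat_lit 4, nat_lit 9, nat_lit 4, nat_lit 5, nat_lit 4, nat_lit 7]) (TL.leaf [nat_lit 32784, nat_lit 4, nat_lit 2, nat_lit 6, nat_lit 1, nat_lit 2, nat_lit 1, nat_lit 3, nat_lit 4, nat_lit 3, nat_lit 5])) (TL.node (TL.leaf [nat_lit 94223, nat_lit 9, nat_lit 2, nat_lit 6, nat_lit 2, nat_lit 7, nat_lit 2, nat_lit 5, nat_lit 3, nat_lit 9, nat_lit 4, nat_lit 9, nat_lit 3, nat_lit 2, nat_lit 9, nat_lit 4]) (TL.leaf [nat_lit 81924, nat_lit 7, nat_lit 1, nat_lit 9, nat_lit 7, nat_lit 1, nat_lit 9])))) (TL.node (TL.node (TL.node (TL.leaf [nat_lit 96282, nat_lit 6, nat_lit 9, nat_lit 1, nat_lit 2, nat_lit 9, nat_lit 5, nat_lit 4, nat_lit 3, nat_lit 6, nat_lit 7, nat_lit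 6, nat_lit 1, nat_lit 9, nat_lit 2, nat_lit 1, nat_lit 9, nat_lit 4]) (TL.leaf [nat_lit 100361, nat_lit 7, nat_lit 5, nat_lit 8, nat_lit 1, nat_lit 2, nat_lit 9, nat_lit 0, nat_lit 5, nat_lit 1, nat_lit 8, nat_lit 3, nat_lit 8, nat_lit 6, nat_lit 8, nat_lit 4, nat_lit 3, nat_lit 2, nat_lit 9, nat_lit 4, nat_lit 2, nat_lit 8])) (TL.node (TL.leaf [nat_lit 90129, nat_lit 4, nat_lit 7, nat_lit 5, nat_lit 3, nat_lit 9, nat_lit 5, nat_lit 9, nat_lit 6, nat_lit 9, nat_lit 4, nat_lit 3, nat_lit 7]) (TL.leaf [nat_lit 100368, nat_lit 8, nat_lit 1, nat_lit 6, nat_lit 0, nat_lit 9, nat_lit 2, nat_lit 1, nat_lit 8, nat_lit 6, nat_lit 7, nat_lit 8, nat_lit 2, nat_lit 4, nat_lit 9, nat_lit 2, nat_lit 3, nat_lit 4, nat_lit 8, nat_lit 5, nat_lit 8, nat_lit 3]))) (TL.node (TL.node (TL.leaf [nat_lit 20490, nat_lit 5, nat_lit 3, nat_lit 5, nat_lit 2, nat_lit 3]) (TL.leaf [nat_lit 98313, nat_lit 5, nat_lit 8, nat_lit 4,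 nat_lit 6, nat_lit 9, nat_lit 7, nat_lit 4, nat_lit 5, nat_lit 8, nat_lit 5, nat_lit 1, nat_lit 8, nat_lit 5, nat_lit 9, nat_lit 2, nat_lit 7, nat_lit 8])) (TL.node (TL.leaf [nat_lit 71706, nat_lit 5, nat_lit 8, nat_lit 6, nat_lit 0, nat_lit 8, nat_lit 4, nat_lit 1, nat_lit 7, nat_lit 4, nat_lit 3, nat_lit 2, nat_lit 4, nat_lit 2, nat_lit 0, nat_lit 1, nat_lit 8, nat_lit 0]) (TL.leaf [nat_lit 88085, nat_lit 7, nat_lit 6, nat_lit 4, nat_lit 6, nat_lit 9, nat_lit 4, nat_lit 6, nat_lit 1, nat_lit 2, nat_lit 9, nat_lit 0, nat_lit 2, nat_lit 4, nat_lit 6]))))) (TL.node (TL.node (TL.node (TL.node (TL.leaf [nat_lit 86019, nat_lit 3, nat_lit 9, nat_lit 3, nat_lit 7, nat_lit 9]) (TL.leaf [nat_lit 6145, nat_lit 1, nat_lit 2, nat_lit 1, nat_lit 2, nat_lit 1, nat_lit 2, nat_lit 1, nat_lit 2])) (TL.node (TL.leaf [nat_lit 28681, nat_lit 5, nat_lit 1, nat_lit 2, nat_lit 1, nat_lit 2, nat_lit 4, nat_lit 2, nat_lit 5,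 nat_lit 4]) (TL.leaf [nat_lit 73739, nat_lit 8, nat_lit 1, nat_lit 8, nat_lit 4, nat_lit 7, nat_lit 4, nat_lit 7, nat_lit 8, nat_lit 1, nat_lit 8, nat_lit 5, nat_lit 2]))) (TL.node (TL.node (TL.leaf [nat_lit 55299, nat_lit 8, nat_lit 0, nat_lit 8, nat_lit 0, nat_lit 8, nat_lit 0]) (TL.leaf [nat_lit 53254, nat_lit 5, nat_lit 4, nat_lit 1, nat_lit 7, nat_lit 4, nat_lit 5, nat_lit 1, nat_lit 4, nat_lit 1, nat_lit 7, nat_lit 1, nat_lit 4])) (TL.node (TL.leaf [nat_lit 45071, nat_lit 1, nat_lit 5, nat_lit 7, nat_lit 1, nat_lit 3, nat_lit 2, nat_lit 1, nat_lit 7, nat_lit 6]) (TL.leaf [nat_lit 102409, nat_lit 8, nat_lit 2, nat_lit 5, nat_lit 8, nat_lit 2, nat_lit 9, nat_lit 2, nat_lit 9, nat_lit 7, nat_lit 6, nat_lit 8, nat_lit 6, nat_lit 8, nat_lit 7, nat_lit 9, nat_lit 2, nat_lit 9, nat_lit 5])))) (TL.node (TL.node (TL.node (TL.leaf [nat_lit 79875, nat_lit 9, nat_lit 8, nat_lit 9, nat_lit 8]) (TL.leaf [nat_lit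 34819, nat_lit 7, nat_lit 0, nat_lit 7, nat_lit 0])) (TL.node (TL.leaf [nat_lit 49155, nat_lit 6, nat_lit 7, nat_lit 4, nat_lit 6, nat_lit 7, nat_lit 4, nat_lit 6, nat_lit 4, nat_lit 6, nat_lit 1, nat_lit 7]) (TL.leaf [nat_lit 100381, nat_lit 3, nat_lit 8, nat_lit 6, nat_lit 8, nat_lit 4, nat_lit 3, nat_lit 2, nat_lit 9, nat_lit 4, nat_lit 2, nat_lit 8, nat_lit 7, nat_lit 5, nat_lit 8, nat_lit 1, nat_lit 2, nat_lit 9, nat_lit 0, nat_lit 5, nat_lit 1, nat_lit 8]))) (TL.node (TL.node (TL.leaf [nat_lit 86021, nat_lit 9, nat_lit 3, nat_lit 7, nat_lit 9, nat_lit 3]) (TL.leaf [nat_lit 100384, nat_lit 5, nat_lit 7, nat_lit 8, nat_lit 2, nat_lit 4, nat_lit 9, nat_lit 2, nat_lit 3, nat_lit 4, nat_lit 8, nat_lit 5, nat_lit 8, nat_lit 3, nat_lit 8, nat_lit 1, nat_lit 6, nat_lit 0, nat_lit 9, nat_lit 2, nat_lit 1, nat_lit 8])) (TL.node (TL.leaf [nat_lit 20484, nat_lit 6, nat_lit 2, nat_lit 3, nat_lit 6, nat_lit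 3]) (TL.leaf [nat_lit 90123, nat_lit 4, nat_lit 3, nat_lit 7, nat_lit 4, nat_lit 7, nat_lit 5, nat_lit 3, nat_lit 9, nat_lit 5, nat_lit 9, nat_lit 6, nat_lit 9])))))))
def W_t2 : TL := (TL.node (TL.node (TL.node (TL.node (TL.node (TL.node (TL.leaf [nat_lit 77825, nat_lit 7, nat_lit 9, nat_lit 7, nat_lit 9]) (TL.leaf [nat_lit 20487, nat_lit 5, nat_lit 3, nat_lit 5, nat_lit 3, nat_lit 2])) (TL.node (TL.leaf [nat_lit 63489, nat_lit 8, nat_lit 0, nat_lit 2, nat_lit 3, nat_lit 8, nat_lit 0, nat_lit 3, nat_lit 2]) (TL.leaf [nat_lit 49168, nat_lit 4, nat_lit 7, nat_lit 6, nat_lit 7, nat_lit 1, nat_lit 5, nat_lit 4, nat_lit 5, nat_lit 4, nat_lit 7, nat_lit 5]))) (TL.node (TL.node (TL.leaf [nat_lit 81921, nat_lit 1, nat_lit 7, nat_lit 9, nat_lit 1, nat_lit 7, nat_lit 9]) (TL.leaf [nat_lit 26625, nat_lit 4, nat_lit 1, nat_lit 3, nat_lit 1, nat_lit 4, nat_lit 1, nat_lit 3, nat_lit 1])) (TL.node (TL.leaf [nat_lit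 45068, nat_lit 2, nat_lit 3, nat_lit 1, nat_lit 7, nat_lit 6, nat_lit 1, nat_lit 5, nat_lit 7, nat_lit 1]) (TL.leaf [nat_lit 92167, nat_lit 5, nat_lit 4, nat_lit 9, nat_lit 4, nat_lit 5, nat_lit 4, nat_lit 7, nat_lit 6, nat_lit 7, nat_lit 5, nat_lit 7, nat_lit 9, nat_lit 6, nat_lit 4])))) (TL.node (TL.node (TL.node (TL.leaf [nat_lit 94232, nat_lit 3, nat_lit 9, nat_lit 4, nat_lit 9, nat_lit 3, nat_lit 6, nat_lit 2, nat_lit 7, nat_lit 2, nat_lit 5, nat_lit 2, nat_lit 9, nat_lit 4, nat_lit 9, nat_lit 2]) (TL.leaf [nat_lit 67597, nat_lit 1, nat_lit 7, nat_lit 2, nat_lit 5, nat_lit 8, nat_lit 6, nat_lit 2, nat_lit 7, nat_lit 1, nat_lit 8])) (TL.node (TL.leaf [nat_lit 32773, nat_lit 4, nat_lit 6, nat_lit 3, nat_lit 4, nat_lit 3, nat_lit 1, nat_lit 2, nat_lit 1, nat_lit 5, nat_lit 2]) (TL.leaf [nat_lit 102407, nat_lit 6, nat_lit 8, nat_lit 2, nat_lit 5, nat_lit 8, nat_lit 2, nat_lit 9, nat_lit 2, nat_lit 9,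 nat_lit 7, nat_lit 6, nat_lit 8, nat_lit 6, nat_lit 8, nat_lit 7, nat_lit 9, nat_lit 2, nat_lit 9]))) (TL.node (TL.node (TL.leaf [nat_lit 69633, nat_lit 8, nat_lit 7, nat_lit 6, nat_lit 1, nat_lit 7, nat_lit 8, nat_lit 7, nat_lit 1, nat_lit 5, nat_lit 7]) (TL.leaf [nat_lit 73741, nat_lit 1, nat_lit 8, nat_lit 4, nat_lit 7, nat_lit 4, nat_lit 7, nat_lit 8, nat_lit 1, nat_lit 8, nat_lit 5, nat_lit 2, nat_lit 8])) (TL.node (TL.leaf [nat_lit 28677, nat_lit 6, nat_lit 4, nat_lit 6, nat_lit 1, nat_lit 2, nat_lit 1, nat_lit 2, nat_lit 4, nat_lit 2]) (TL.leaf [nat_lit 100369, nat_lit 2, nat_lit 9, nat_lit 0, nat_lit 5, nat_lit 1, nat_lit 8, nat_lit 3, nat_lit 8, nat_lit 6, nat_lit 8, nat_lit 4, nat_lit 3, nat_lit 2, nat_lit 9, nat_lit 4, nat_lit 2, nat_lit 8, nat_lit 7, nat_lit 5, nat_lit 8, nat_lit 1]))))) (TL.node (TL.node (TL.node (TL.node (TL.leaf [nat_lit 2049, nat_lit 0, nat_lit 2, nat_lit 0, nat_lit 2])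 (TL.leaf [nat_lit 81923, nat_lit 7, nat_lit 9, nat_lit 1, nat_lit 7, nat_lit 9, nat_lit 1])) (TL.node (TL.leaf [nat_lit 63500, nat_lit 2, nat_lit 0, nat_lit 8, nat_lit 2, nat_lit 3, nat_lit 0, nat_lit 8, nat_lit 3]) (TL.leaf [nat_lit 49171, nat_lit 5, nat_lit 1, nat_lit 7, nat_lit 5, nat_lit 7, nat_lit 4, nat_lit 6, nat_lit 7, nat_lit 4, nat_lit 6, nat_lit 4]))) (TL.node (TL.node (TL.leaf [nat_lit 22537, nat_lit 1, nat_lit 2, nat_lit 6, nat_lit 1, nat_lit 5, nat_lit 2]) (TL.leaf [nat_lit 47115, nat_lit 7, nat_lit 3, nat_lit 1, nat_lit 5, nat_lit 4, nat_lit 2, nat_lit 3, nat_lit 7, nat_lit 2, nat_lit 4, nat_lit 6, nat_lit 1])) (TL.node (TL.leaf [nat_lit 47123, nat_lit 4, nat_lit 2, nat_lit 3, nat_lit 7, nat_lit 2, nat_lit 4, nat_lit 6, nat_lit 1, nat_lit 7, nat_lit 3, nat_lit 1, nat_lit 5]) (TL.leaf [nat_lit 24583, nat_lit 1, nat_lit 4, nat_lit 1, nat_lit 2, nat_lit 1, nat_lit 4, nat_lit 1, nat_lit 2]))))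 (TL.node (TL.node (TL.node (TL.leaf [nat_lit 57347, nat_lit 8, nat_lit 4, nat_lit 8, nat_lit 4]) (TL.leaf [nat_lit 90120, nat_lit 4, nat_lit 7, nat_lit 3, nat_lit 4, nat_lit 9, nat_lit 5, nat_lit 9, nat_lit 6, nat_lit 9, nat_lit 3, nat_lit 6, nat_lit 7])) (TL.node (TL.leaf [nat_lit 43014, nat_lit 1, nat_lit 7, nat_lit 3, nat_lit 1, nat_lit 7, nat_lit 3, nat_lit 1, nat_lit 7, nat_lit 3]) (TL.leaf [nat_lit 69637, nat_lit 5, nat_lit 1, nat_lit 7, nat_lit 8, nat_lit 7, nat_lit 1, nat_lit 5, nat_lit 7, nat_lit 8, nat_lit 7]))) (TL.node (TL.node (TL.leaf [nat_lit 61443, nat_lit 7, nat_lit 8, nat_lit 2, nat_lit 7, nat_lit 8, nat_lit 2, nat_lit 7, nat_lit 8, nat_lit 2, nat_lit 7, nat_lit 8, nat_lit 2]) (TL.leaf [nat_lit 88067, nat_lit 4, nat_lit 6, nat_lit 1, nat_lit 2, nat_lit 9, nat_lit 0, nat_lit 2, nat_lit 4, nat_lit 6, nat_lit 7, nat_lit 6, nat_lit 4, nat_lit 6, nat_lit 9])) (TL.node (TL.leaf [nat_lit 4099,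 nat_lit 3, nat_lit 0, nat_lit 3, nat_lit 0]) (TL.leaf [nat_lit 100359, nat_lit 8, nat_lit 7, nat_lit 5, nat_lit 8, nat_lit 1, nat_lit 2, nat_lit 9, nat_lit 0, nat_lit 5, nat_lit 1, nat_lit 8, nat_lit 3, nat_lit 8, nat_lit 6, nat_lit 8, nat_lit 4, nat_lit 3, nat_lit 2, nat_lit 9, nat_lit 4, nat_lit 2])))))) (TL.node (TL.node (TL.node (TL.node (TL.node (TL.leaf [nat_lit 38913, nat_lit 3, nat_lit 7, nat_lit 3, nat_lit 7]) (TL.leaf [nat_lit 65555, nat_lit 1, nat_lit 8, nat_lit 1, nat_lit 3, nat_lit 1, nat_lit 0, nat_lit 8, nat_lit 1, nat_lit 0, nat_lit 3])) (TL.node (TL.leaf [nat_lit 20481, nat_lit 6, nat_lit 3, nat_lit 2, nat_lit 6, nat_lit 3]) (TL.leaf [nat_lit 45061, nat_lit 3, nat_lit 2, nat_lit 1, nat_lit 7, nat_lit 6, nat_lit 1, nat_lit 5, nat_lit 7, nat_lit 1]))) (TL.node (TL.node (TL.leaf [nat_lit 75779, nat_lit 9, nat_lit 0, nat_lit 9, nat_lit 0]) (TL.leaf [nat_lit 53260, nat_lit 7, nat_lit 4, nat_lit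 5, nat_lit 1, nat_lit 4, nat_lit 1, nat_lit 7, nat_lit 1, nat_lit 4, nat_lit 6, nat_lit 4, nat_lit 1])) (TL.node (TL.leaf [nat_lit 69647, nat_lit 1, nat_lit 5, nat_lit 7, nat_lit 8, nat_lit 7, nat_lit 6, nat_lit 1, nat_lit 7, nat_lit 8, nat_lit 7]) (TL.leaf [nat_lit 102416, nat_lit 2, nat_lit 9, nat_lit 2, nat_lit 8, nat_lit 6, nat_lit 2, nat_lit 8, nat_lit 6, nat_lit 9, nat_lit 2, nat_lit 9, nat_lit 7, nat_lit 8, nat_lit 5, nat_lit 8, nat_lit 5, nat_lit 7, nat_lit 9])))) (TL.node (TL.node (TL.node (TL.leaf [nat_lit 100386, nat_lit 7, nat_lit 8, nat_lit 2, nat_lit 4, nat_lit 9, nat_lit 2, nat_lit 3, nat_lit 4, nat_lit 8, nat_lit 5, nat_lit 8, nat_lit 3, nat_lit 8, nat_lit 1, nat_lit 6, nat_lit 0, nat_lit 9, nat_lit 2, nat_lit 1, nat_lit 8, nat_lit 6]) (TL.leaf [nat_lit 12291, nat_lit 2, nat_lit 3, nat_lit 1, nat_lit 2, nat_lit 3, nat_lit 1, nat_lit 2, nat_lit 3, nat_lit 1])) (TL.node (TL.leaf [nat_lit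 20486, nat_lit 2, nat_lit 3, nat_lit 6, nat_lit 3, nat_lit 5]) (TL.leaf [nat_lit 28684, nat_lit 4, nat_lit 6, nat_lit 2, nat_lit 4, nat_lit 2, nat_lit 1, nat_lit 2, nat_lit 1, nat_lit 5]))) (TL.node (TL.node (TL.leaf [nat_lit 8195, nat_lit 3, nat_lit 1, nat_lit 3, nat_lit 1, nat_lit 3, nat_lit 1]) (TL.leaf [nat_lit 63503, nat_lit 2, nat_lit 8, nat_lit 0, nat_lit 2, nat_lit 3, nat_lit 8, nat_lit 0, nat_lit 3])) (TL.node (TL.leaf [nat_lit 73735, nat_lit 6, nat_lit 2, nat_lit 8, nat_lit 1, nat_lit 8, nat_lit 4, nat_lit 7, nat_lit 4, nat_lit 7, nat_lit 8, nat_lit 1, nat_lit 8]) (TL.leaf [nat_lit 102419, nat_lit 9, nat_lit 2, nat_lit 9, nat_lit 7, nat_lit 6, nat_lit 8, nat_lit 6, nat_lit 8, nat_lit 7, nat_lit 9, nat_lit 2, nat_lit 9, nat_lit 5, nat_lit 8, nat_lit 2, nat_lit 5, nat_lit 8, nat_lit 2]))))) (TL.node (TL.node (TL.node (TL.node (TL.leaf [nat_lit 30723, nat_lit 6, nat_lit 1, nat_lit 6, nat_lit 4,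 nat_lit 1, nat_lit 4]) (TL.leaf [nat_lit 90115, nat_lit 6, nat_lit 9, nat_lit 6, nat_lit 9, nat_lit 4, nat_lit 3, nat_lit 7, nat_lit 4, nat_lit 7, nat_lit 5, nat_lit 3, nat_lit 9])) (TL.node (TL.leaf [nat_lit 2051, nat_lit 2, nat_lit 0, nat_lit 2, nat_lit 0]) (TL.leaf [nat_lit 71713, nat_lit 4, nat_lit 8, nat_lit 0, nat_lit 5, nat_lit 8, nat_lit 5, nat_lit 0, nat_lit 8, nat_lit 1, nat_lit 0, nat_lit 2, nat_lit 4, nat_lit 2, nat_lit 3, nat_lit 4, nat_lit 7, nat_lit 1]))) (TL.node (TL.node (TL.leaf [nat_lit 26629, nat_lit 3, nat_lit 1, nat_lit 4, nat_lit 1, nat_lit 3, nat_lit 1, nat_lit 4, nat_lit 1]) (TL.leaf [nat_lit 96269, nat_lit 9, nat_lit 1, nat_lit 2, nat_lit 9, nat_lit 1, nat_lit 5, nat_lit 7, nat_lit 5, nat_lit 3, nat_lit 4, nat_lit 6, nat_lit 9, nat_lit 2, nat_lit 1, nat_lit 9, nat_lit 6, nat_lit 4])) (TL.node (TL.leaf [nat_lit 90121, nat_lit 9, nat_lit 4, nat_lit 3, nat_lit 7, nat_lit 4, nat_lit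 7, nat_lit 5, nat_lit 3, nat_lit 9, nat_lit 5, nat_lit 9, nat_lit 6]) (TL.leaf [nat_lit 92163, nat_lit 5, nat_lit 4, nat_lit 6, nat_lit 4, nat_lit 9, nat_lit 4, nat_lit 5, nat_lit 4, nat_lit 7, nat_lit 6, nat_lit 7, nat_lit 5, nat_lit 7, nat_lit 9])))) (TL.node (TL.node (TL.node (TL.leaf [nat_lit 16387, nat_lit 4, nat_lit 0, nat_lit 4, nat_lit 0]) (TL.leaf [nat_lit 69651, nat_lit 7, nat_lit 8, nat_lit 7, nat_lit 6, nat_lit 1, nat_lit 7, nat_lit 8, nat_lit 7, nat_lit 1, nat_lit 5])) (TL.node (TL.leaf [nat_lit 90119, nat_lit 5, nat_lit 9, nat_lit 4, nat_lit 3, nat_lit 7, nat_lit 4, nat_lit 7, nat_lit 5, nat_lit 3, nat_lit 9, nat_lit 5, nat_lit 9]) (TL.leaf [nat_lit 63496, nat_lit 8, nat_lit 3, nat_lit 2, nat_lit 0, nat_lit 8, nat_lit 2, nat_lit 3, nat_lit 0]))) (TL.node (TL.node (TL.leaf [nat_lit 81925, nat_lit 9, nat_lit 1, nat_lit 7, nat_lit 9, nat_lit 1, nat_lit 7]) (TL.leaf [nat_lit 49169, nat_lit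 4, nat_lit 6, nat_lit 1, nat_lit 7, nat_lit 5, nat_lit 7, nat_lit 4, nat_lit 6, nat_lit 7, nat_lit 4, nat_lit 6])) (TL.node (TL.leaf [nat_lit 28679, nat_lit 4, nat_lit 6, nat_lit 1, nat_lit 2, nat_lit 1, nat_lit 2, nat_lit 4, nat_lit 2, nat_lit 5]) (TL.leaf [nat_lit 100367, nat_lit 1, nat_lit 2, nat_lit 9, nat_lit 0, nat_lit 5, nat_lit 1, nat_lit 8, nat_lit 3, nat_lit 8, nat_lit 6, nat_lit 8, nat_lit 4, nat_lit 3, nat_lit 2, nat_lit 9, nat_lit 4, nat_lit 2, nat_lit 8, nat_lit 7, nat_lit 5, nat_lit 8])))))))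
def W_t3 : TL := (TL.node W_t1 W_t2)
def W_t4 : TL := (TL.node (TL.node (TL.node (TL.node (TL.node (TL.node (TL.leaf [nat_lit 75777, nat_lit 0, nat_lit 9, nat_lit 0, nat_lit 9]) (TL.leaf [nat_lit 96271, nat_lit 1, nat_lit 2, nat_lit 9, nat_lit 1, nat_lit 5, nat_lit 7, nat_lit 5, nat_lit 3, nat_lit 4, nat_lit 6, nat_lit 9, nat_lit 2, nat_lit 1, nat_lit 9, nat_lit 6, nat_lit 4, nat_lit 9])) (TL.node (TL.leaf [nat_lit 51201, nat_lit 7, nat_lit 1, nat_lit 2, nat_lit 6, nat_lit 4, nat_lit 5, nat_lit 7, nat_lit 1, nat_lit 3, nat_lit 1, nat_lit 6, nat_lit 4, nat_lit 5]) (TL.leaf [nat_lit 28678, nat_lit 2, nat_lit 1, nat_lit 5, nat_lit 4, nat_lit 6, nat_lit 2, nat_lit 4, nat_lit 2, nat_lit 1]))) (TL.node (TL.node (TL.leaf [nat_lit 20488, nat_lit 3, nat_lit 6, nat_lit 3, nat_lit 5, nat_lit 2]) (TL.leaf [nat_lit 102403, nat_lit 2, nat_lit 9, nat_lit 5, nat_lit 8, nat_lit 2, nat_lit 5, nat_lit 8, nat_lit 2, nat_lit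 9, nat_lit 2, nat_lit 9, nat_lit 7, nat_lit 6, nat_lit 8, nat_lit 6, nat_lit 8, nat_lit 7, nat_lit 9])) (TL.node (TL.leaf [nat_lit 49174, nat_lit 7, nat_lit 1, nat_lit 5, nat_lit 4, nat_lit 5, nat_lit 4, nat_lit 7, nat_lit 5, nat_lit 4, nat_lit 7, nat_lit 6]) (TL.leaf [nat_lit 86020, nat_lit 3, nat_lit 9, nat_lit 3, nat_lit 9, nat_lit 7])))) (TL.node (TL.node (TL.node (TL.leaf [nat_lit 92184, nat_lit 4, nat_lit 5, nat_lit 9, nat_lit 7, nat_lit 6, nat_lit 7, nat_lit 5, nat_lit 7, nat_lit 4, nat_lit 6, nat_lit 4, nat_lit 9, nat_lit 4, nat_lit 5]) (TL.leaf [nat_lit 81922, nat_lit 9, nat_lit 7, nat_lit 1, nat_lit 9, nat_lit 7, nat_lit 1])) (TL.node (TL.leaf [nat_lit 63501, nat_lit 3, nat_lit 2, nat_lit 8, nat_lit 0, nat_lit 2, nat_lit 3, nat_lit 8, nat_lit 0]) (TL.leaf [nat_lit 90131, nat_lit 7, nat_lit 5, nat_lit 3, nat_lit 9, nat_lit 5, nat_lit 9, nat_lit 6, nat_lit 9, nat_lit 4, nat_lit 3, nat_lit 7,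 nat_lit 4]))) (TL.node (TL.node (TL.leaf [nat_lit 67585, nat_lit 8, nat_lit 6, nat_lit 2, nat_lit 7, nat_lit 1, nat_lit 8, nat_lit 1, nat_lit 7, nat_lit 2, nat_lit 5]) (TL.leaf [nat_lit 90135, nat_lit 3, nat_lit 9, nat_lit 5, nat_lit 9, nat_lit 6, nat_lit 9, nat_lit 4, nat_lit 3, nat_lit 7, nat_lit 4, nat_lit 7, nat_lit 5])) (TL.node (TL.leaf [nat_lit 20483, nat_lit 3, nat_lit 2, nat_lit 6, nat_lit 3, nat_lit 5]) (TL.leaf [nat_lit 83969, nat_lit 6, nat_lit 9, nat_lit 7, nat_lit 5, nat_lit 9, nat_lit 7, nat_lit 5, nat_lit 9, nat_lit 7, nat_lit 5, nat_lit 9, nat_lit 7, nat_lit 5, nat_lit 9, nat_lit 7]))))) (TL.node (TL.node (TL.node (TL.node (TL.leaf [nat_lit 18439, nat_lit 0, nat_lit 5, nat_lit 0, nat_lit 6]) (TL.leaf [nat_lit 96275, nat_lit 9, nat_lit 1, nat_lit 5, nat_lit 7, nat_lit 5, nat_lit 3, nat_lit 4, nat_lit 6, nat_lit 9, nat_lit 2, nat_lit 1, nat_lit 9, nat_lit 6, nat_lit 4, nat_lit 9, nat_lit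 1, nat_lit 2])) (TL.node (TL.leaf [nat_lit 63490, nat_lit 2, nat_lit 3, nat_lit 0, nat_lit 8, nat_lit 3, nat_lit 2, nat_lit 0, nat_lit 8]) (TL.leaf [nat_lit 22535, nat_lit 2, nat_lit 1, nat_lit 2, nat_lit 6, nat_lit 1, nat_lit 5]))) (TL.node (TL.node (TL.leaf [nat_lit 30725, nat_lit 1, nat_lit 6, nat_lit 4, nat_lit 1, nat_lit 4, nat_lit 5]) (TL.leaf [nat_lit 69649, nat_lit 6, nat_lit 7, nat_lit 8, nat_lit 7, nat_lit 6, nat_lit 1, nat_lit 7, nat_lit 8, nat_lit 7, nat_lit 1])) (TL.node (TL.leaf [nat_lit 51225, nat_lit 6, nat_lit 7, nat_lit 1, nat_lit 2, nat_lit 6, nat_lit 4, nat_lit 5, nat_lit 7, nat_lit 1, nat_lit 3, nat_lit 1, nat_lit 6, nat_lit 4]) (TL.leaf [nat_lit 92165, nat_lit 4, nat_lit 6, nat_lit 4, nat_lit 9, nat_lit 4, nat_lit 5, nat_lit 4, nat_lit 7, nat_lit 6, nat_lit 7, nat_lit 5, nat_lit 7, nat_lit 9, nat_lit 6])))) (TL.node (TL.node (TL.node (TL.leaf [nat_lit 16385, nat_lit 0, nat_lit 4,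 nat_lit 0, nat_lit 4]) (TL.leaf [nat_lit 69635, nat_lit 7, nat_lit 6, nat_lit 1, nat_lit 7, nat_lit 8, nat_lit 7, nat_lit 1, nat_lit 5, nat_lit 7, nat_lit 8])) (TL.node (TL.leaf [nat_lit 30727, nat_lit 5, nat_lit 4, nat_lit 1, nat_lit 4, nat_lit 5, nat_lit 1]) (TL.leaf [nat_lit 59394, nat_lit 8, nat_lit 1, nat_lit 0, nat_lit 8, nat_lit 1, nat_lit 0, nat_lit 8, nat_lit 1, nat_lit 0]))) (TL.node (TL.node (TL.leaf [nat_lit 53249, nat_lit 7, nat_lit 1, nat_lit 4, nat_lit 1, nat_lit 6, nat_lit 4, nat_lit 7, nat_lit 1, nat_lit 4, nat_lit 5, nat_lit 4, nat_lit 1]) (TL.leaf [nat_lit 51222, nat_lit 2, nat_lit 1, nat_lit 7, nat_lit 6, nat_lit 4, nat_lit 5, nat_lit 1, nat_lit 3, nat_lit 1, nat_lit 7, nat_lit 6, nat_lit 4, nat_lit 5])) (TL.node (TL.leaf [nat_lit 71683, nat_lit 0, nat_lit 5, nat_lit 8, nat_lit 5, nat_lit 0, nat_lit 8, nat_lit 1, nat_lit 0, nat_lit 2, nat_lit 4, nat_lit 2, nat_lit 3, nat_lit 4, nat_lit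 7, nat_lit 1, nat_lit 4, nat_lit 8]) (TL.leaf [nat_lit 98317, nat_lit 4, nat_lit 6, nat_lit 9, nat_lit 7, nat_lit 4, nat_lit 5, nat_lit 8, nat_lit 5, nat_lit 1, nat_lit 8, nat_lit 5, nat_lit 9, nat_lit 2, nat_lit 7, nat_lit 8, nat_lit 6, nat_lit 8])))))) (TL.node (TL.node (TL.node (TL.node (TL.node (TL.leaf [nat_lit 57345, nat_lit 4, nat_lit 8, nat_lit 4, nat_lit 8]) (TL.leaf [nat_lit 24579, nat_lit 1, nat_lit 2, nat_lit 1, nat_lit 4, nat_lit 1, nat_lit 2, nat_lit 1, nat_lit 4])) (TL.node (TL.leaf [nat_lit 73731, nat_lit 1, nat_lit 8, nat_lit 5, nat_lit 2, nat_lit 8, nat_lit 1, nat_lit 8, nat_lit 4, nat_lit 7, nat_lit 4, nat_lit 7, nat_lit 8]) (TL.leaf [nat_lit 98327, nat_lit 6, nat_lit 8, nat_lit 5, nat_lit 1, nat_lit 8, nat_lit 5, nat_lit 9, nat_lit 2, nat_lit 7, nat_lit 8, nat_lit 6, nat_lit 8, nat_lit 4, nat_lit 6, nat_lit 9, nat_lit 7, nat_lit 4]))) (TL.node (TL.node (TL.leaf [nat_lit 4097, nat_lit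 0, nat_lit 3, nat_lit 0, nat_lit 3]) (TL.leaf [nat_lit 88089, nat_lit 4, nat_lit 6, nat_lit 9, nat_lit 4, nat_lit 6, nat_lit 1, nat_lit 2, nat_lit 9, nat_lit 0, nat_lit 2, nat_lit 4, nat_lit 6, nat_lit 7, nat_lit 6])) (TL.node (TL.leaf [nat_lit 45063, nat_lit 2, nat_lit 1, nat_lit 7, nat_lit 6, nat_lit 1, nat_lit 5, nat_lit 7, nat_lit 1, nat_lit 3]) (TL.leaf [nat_lit 65541, nat_lit 3, nat_lit 1, nat_lit 0, nat_lit 8, nat_lit 1, nat_lit 0, nat_lit 3, nat_lit 1, nat_lit 8, nat_lit 1])))) (TL.node (TL.node (TL.node (TL.leaf [nat_lit 102426, nat_lit 2, nat_lit 8, nat_lit 6, nat_lit 9, nat_lit 2, nat_lit 9, nat_lit 7, nat_lit 8, nat_lit 5, nat_lit 8, nat_lit 5, nat_lit 7, nat_lit 9, nat_lit 2, nat_lit 9, nat_lit 2, nat_lit 8, nat_lit 6]) (TL.leaf [nat_lit 18437, nat_lit 5, nat_lit 0, nat_lit 5, nat_lit 0])) (TL.node (TL.leaf [nat_lit 73740, nat_lit 1, nat_lit 8, nat_lit 2, nat_lit 6, nat_lit 8, nat_lit 1,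 nat_lit 8, nat_lit 7, nat_lit 4, nat_lit 7, nat_lit 4, nat_lit 8]) (TL.leaf [nat_lit 63491, nat_lit 0, nat_lit 2, nat_lit 3, nat_lit 8, nat_lit 0, nat_lit 3, nat_lit 2, nat_lit 8]))) (TL.node (TL.node (TL.leaf [nat_lit 8193, nat_lit 1, nat_lit 3, nat_lit 1, nat_lit 3, nat_lit 1, nat_lit 3]) (TL.leaf [nat_lit 71685, nat_lit 6, nat_lit 8, nat_lit 5, nat_lit 0, nat_lit 8, nat_lit 1, nat_lit 0, nat_lit 2, nat_lit 4, nat_lit 2, nat_lit 3, nat_lit 4, nat_lit 7, nat_lit 1, nat_lit 4, nat_lit 8, nat_lit 0])) (TL.node (TL.leaf [nat_lit 20482, nat_lit 3, nat_lit 5, nat_lit 2, nat_lit 3, nat_lit 6]) (TL.leaf [nat_lit 102424, nat_lit 5, nat_lit 2, nat_lit 8, nat_lit 6, nat_lit 9, nat_lit 2, nat_lit 9, nat_lit 7, nat_lit 8, nat_lit 5, nat_lit 8, nat_lit 5, nat_lit 7, nat_lit 9, nat_lit 2, nat_lit 9, nat_lit 2, nat_lit 8]))))) (TL.node (TL.node (TL.node (TL.node (TL.leaf [nat_lit 22529, nat_lit 5, nat_lit 1, nat_lit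 5, nat_lit 2, nat_lit 1, nat_lit 2]) (TL.leaf [nat_lit 73733, nat_lit 8, nat_lit 5, nat_lit 2, nat_lit 8, nat_lit 1, nat_lit 8, nat_lit 4, nat_lit 7, nat_lit 4, nat_lit 7, nat_lit 8, nat_lit 1])) (TL.node (TL.leaf [nat_lit 65547, nat_lit 8, nat_lit 1, nat_lit 0, nat_lit 3, nat_lit 1, nat_lit 8, nat_lit 1, nat_lit 3, nat_lit 1, nat_lit 0]) (TL.leaf [nat_lit 88074, nat_lit 6, nat_lit 4, nat_lit 2, nat_lit 0, nat_lit 9, nat_lit 2, nat_lit 1, nat_lit 5, nat_lit 4, nat_lit 9, nat_lit 5, nat_lit 4, nat_lit 5, nat_lit 7]))) (TL.node (TL.node (TL.leaf [nat_lit 63497, nat_lit 8, nat_lit 0, nat_lit 3, nat_lit 2, nat_lit 8, nat_lit 0, nat_lit 2, nat_lit 3]) (TL.leaf [nat_lit 73751, nat_lit 7, nat_lit 8, nat_lit 1, nat_lit 8, nat_lit 5, nat_lit 2, nat_lit 8, nat_lit 1, nat_lit 8, nat_lit 4, nat_lit 7, nat_lit 4])) (TL.node (TL.leaf [nat_lit 28673, nat_lit 4, nat_lit 2, nat_lit 5, nat_lit 4, nat_lit 6, nat_lit 1,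 nat_lit 2, nat_lit 1, nat_lit 2]) (TL.leaf [nat_lit 88084, nat_lit 2, nat_lit 1, nat_lit 5, nat_lit 4, nat_lit 9, nat_lit 5, nat_lit 4, nat_lit 5, nat_lit 7, nat_lit 5, nat_lit 4, nat_lit 2, nat_lit 0, nat_lit 9])))) (TL.node (TL.node (TL.node (TL.leaf [nat_lit 38915, nat_lit 7, nat_lit 3, nat_lit 7, nat_lit 3]) (TL.leaf [nat_lit 45067, nat_lit 7, nat_lit 6, nat_lit 1, nat_lit 5, nat_lit 7, nat_lit 1, nat_lit 3, nat_lit 2, nat_lit 1])) (TL.node (TL.leaf [nat_lit 73746, nat_lit 5, nat_lit 8, nat_lit 1, nat_lit 8, nat_lit 7, nat_lit 4, nat_lit 7, nat_lit 4, nat_lit 8, nat_lit 1, nat_lit 8, nat_lit 2]) (TL.leaf [nat_lit 55297, nat_lit 0, nat_lit 8, nat_lit 0, nat_lit 8, nat_lit 0, nat_lit 8]))) (TL.node (TL.node (TL.leaf [nat_lit 20485, nat_lit 2, nat_lit 6, nat_lit 3, nat_lit 5, nat_lit 3]) (TL.leaf [nat_lit 26631, nat_lit 1, nat_lit 4, nat_lit 1, nat_lit 3, nat_lit 1, nat_lit 4, nat_lit 1, nat_lit 3]))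 (TL.node (TL.leaf [nat_lit 28688, nat_lit 2, nat_lit 4, nat_lit 2, nat_lit 1, nat_lit 2, nat_lit 1, nat_lit 5, nat_lit 4, nat_lit 6]) (TL.leaf [nat_lit 100363, nat_lit 6, nat_lit 8, nat_lit 1, nat_lit 2, nat_lit 9, nat_lit 0, nat_lit 5, nat_lit 1, nat_lit 8, nat_lit 3, nat_lit 8, nat_lit 6, nat_lit 8, nat_lit 4, nat_lit 3, nat_lit 2, nat_lit 9, nat_lit 4, nat_lit 2, nat_lit 8, nat_lit 7])))))))
def W_t5 : TL := (TL.node (TL.node (TL.node (TL.node (TL.node (TL.node (TL.leaf [nat_lit 79873, nat_lit 8, nat_lit 9, nat_lit 8, nat_lit 9]) (TL.leaf [nat_lit 63495, nat_lit 3, nat_lit 8, nat_lit 0, nat_lit 3, nat_lit 2, nat_lit 8, nat_lit 0, nat_lit 2])) (TL.node (TL.leaf [nat_lit 32785, nat_lit 2, nat_lit 1, nat_lit 5, nat_lit 2, nat_lit 4, nat_lit 6, nat_lit 3, nat_lit 4, nat_lit 3, nat_lit 1]) (TL.leaf [nat_lit 73747, nat_lit 7, nat_lit 4, nat_lit 7, nat_lit 8, nat_lit 1, nat_lit 8, nat_lit 5, nat_lit 2, nat_lit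 8, nat_lit 1, nat_lit 8, nat_lit 4]))) (TL.node (TL.node (TL.leaf [nat_lit 36865, nat_lit 2, nat_lit 7, nat_lit 2, nat_lit 7, nat_lit 2, nat_lit 7]) (TL.leaf [nat_lit 6147, nat_lit 2, nat_lit 1, nat_lit 2, nat_lit 1, nat_lit 2, nat_lit 1, nat_lit 2, nat_lit 1])) (TL.node (TL.leaf [nat_lit 49157, nat_lit 7, nat_lit 4, nat_lit 6, nat_lit 7, nat_lit 4, nat_lit 6, nat_lit 4, nat_lit 6, nat_lit 1, nat_lit 7, nat_lit 5]) (TL.leaf [nat_lit 100366, nat_lit 3, nat_lit 8, nat_lit 1, nat_lit 6, nat_lit 0, nat_lit 9, nat_lit 2, nat_lit 1, nat_lit 8, nat_lit 6, nat_lit 7, nat_lit 8, nat_lit 2, nat_lit 4, nat_lit 9, nat_lit 2, nat_lit 3, nat_lit 4, nat_lit 8, nat_lit 5, nat_lit 8])))) (TL.node (TL.node (TL.node (TL.leaf [nat_lit 98330, nat_lit 6, nat_lit 8, nat_lit 7, nat_lit 2, nat_lit 9, nat_lit 6, nat_lit 8, nat_lit 1, nat_lit 6, nat_lit 8, nat_lit 6, nat_lit 4, nat_lit 7, nat_lit 9, nat_lit 5, nat_lit 4, nat_lit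 8]) (TL.leaf [nat_lit 67603, nat_lit 6, nat_lit 8, nat_lit 6, nat_lit 2, nat_lit 7, nat_lit 1, nat_lit 8, nat_lit 1, nat_lit 7, nat_lit 2])) (TL.node (TL.leaf [nat_lit 69643, nat_lit 8, nat_lit 7, nat_lit 1, nat_lit 5, nat_lit 7, nat_lit 8, nat_lit 7, nat_lit 6, nat_lit 1, nat_lit 7]) (TL.leaf [nat_lit 67589, nat_lit 2, nat_lit 7, nat_lit 1, nat_lit 8, nat_lit 1, nat_lit 7, nat_lit 2, nat_lit 5, nat_lit 8, nat_lit 6]))) (TL.node (TL.node (TL.leaf [nat_lit 40961, nat_lit 6, nat_lit 7, nat_lit 5, nat_lit 7, nat_lit 5, nat_lit 7, nat_lit 5, nat_lit 7, nat_lit 5, nat_lit 7]) (TL.leaf [nat_lit 51226, nat_lit 7, nat_lit 6, nat_lit 4, nat_lit 5, nat_lit 1, nat_lit 3, nat_lit 1, nat_lit 7, nat_lit 6, nat_lit 4, nat_lit 5, nat_lit 2, nat_lit 1])) (TL.node (TL.leaf [nat_lit 67595, nat_lit 8, nat_lit 1, nat_lit 7, nat_lit 2, nat_lit 5, nat_lit 8, nat_lit 6, nat_lit 2, nat_lit 7, nat_lit 1]) (TL.leaf [nat_lit 73742,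 nat_lit 8, nat_lit 2, nat_lit 6, nat_lit 8, nat_lit 1, nat_lit 8, nat_lit 7, nat_lit 4, nat_lit 7, nat_lit 4, nat_lit 8, nat_lit 1]))))) (TL.node (TL.node (TL.node (TL.node (TL.leaf [nat_lit 34817, nat_lit 0, nat_lit 7, nat_lit 0, nat_lit 7]) (TL.leaf [nat_lit 63493, nat_lit 2, nat_lit 3, nat_lit 8, nat_lit 0, nat_lit 3, nat_lit 2, nat_lit 8, nat_lit 0])) (TL.node (TL.leaf [nat_lit 43009, nat_lit 1, nat_lit 3, nat_lit 7, nat_lit 1, nat_lit 3, nat_lit 7, nat_lit 1, nat_lit 3, nat_lit 7]) (TL.leaf [nat_lit 61445, nat_lit 8, nat_lit 2, nat_lit 7, nat_lit 8, nat_lit 2, nat_lit 7, nat_lit 8, nat_lit 2, nat_lit 7, nat_lit 8, nat_lit 2, nat_lit 7]))) (TL.node (TL.node (TL.leaf [nat_lit 30721, nat_lit 4, nat_lit 5, nat_lit 1, nat_lit 6, nat_lit 4, nat_lit 1]) (TL.leaf [nat_lit 53253, nat_lit 4, nat_lit 1, nat_lit 6, nat_lit 4, nat_lit 7, nat_lit 1, nat_lit 4, nat_lit 5, nat_lit 4, nat_lit 1, nat_lit 7, nat_lit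 1])) (TL.node (TL.leaf [nat_lit 94230, nat_lit 2, nat_lit 3, nat_lit 9, nat_lit 4, nat_lit 9, nat_lit 3, nat_lit 6, nat_lit 2, nat_lit 7, nat_lit 2, nat_lit 5, nat_lit 2, nat_lit 9, nat_lit 4, nat_lit 9]) (TL.leaf [nat_lit 102408, nat_lit 8, nat_lit 5, nat_lit 7, nat_lit 9, nat_lit 2, nat_lit 9, nat_lit 2, nat_lit 8, nat_lit 6, nat_lit 2, nat_lit 8, nat_lit 6, nat_lit 9, nat_lit 2, nat_lit 9, nat_lit 7, nat_lit 8, nat_lit 5])))) (TL.node (TL.node (TL.node (TL.leaf [nat_lit 77827, nat_lit 9, nat_lit 7, nat_lit 9, nat_lit 7]) (TL.leaf [nat_lit 98324, nat_lit 6, nat_lit 4, nat_lit 8, nat_lit 5, nat_lit 8, nat_lit 7, nat_lit 2, nat_lit 9, nat_lit 6, nat_lit 8, nat_lit 1, nat_lit 6, nat_lit 8, nat_lit 6, nat_lit 4, nat_lit 7, nat_lit 9])) (TL.node (TL.leaf [nat_lit 32779, nat_lit 4, nat_lit 3, nat_lit 1, nat_lit 2, nat_lit 1, nat_lit 5, nat_lit 2, nat_lit 4, nat_lit 6, nat_lit 3]) (TL.leaf [nat_lit 94221,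 nat_lit 4, nat_lit 9, nat_lit 2, nat_lit 6, nat_lit 2, nat_lit 7, nat_lit 2, nat_lit 5, nat_lit 3, nat_lit 9, nat_lit 4, nat_lit 9, nat_lit 3, nat_lit 2, nat_lit 9]))) (TL.node (TL.node (TL.leaf [nat_lit 83971, nat_lit 9, nat_lit 7, nat_lit 5, nat_lit 9, nat_lit 7, nat_lit 5, nat_lit 9, nat_lit 7, nat_lit 5, nat_lit 9, nat_lit 7, nat_lit 5, nat_lit 9, nat_lit 7, nat_lit 5]) (TL.leaf [nat_lit 98307, nat_lit 2, nat_lit 7, nat_lit 8, nat_lit 6, nat_lit 8, nat_lit 4, nat_lit 6, nat_lit 9, nat_lit 7, nat_lit 4, nat_lit 5, nat_lit 8, nat_lit 5, nat_lit 1, nat_lit 8, nat_lit 5, nat_lit 9])) (TL.node (TL.leaf [nat_lit 3, nat_lit 1, nat_lit 0, nat_lit 1, nat_lit 0]) (TL.leaf [nat_lit 92182, nat_lit 6, nat_lit 4, nat_lit 5, nat_lit 9, nat_lit 7, nat_lit 6, nat_lit 7, nat_lit 5, nat_lit 7, nat_lit 4, nat_lit 6, nat_lit 4, nat_lit 9, nat_lit 4])))))) (TL.node (TL.node (TL.node (TL.node (TL.node (TL.leaf [nat_lit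 1, nat_lit 0, nat_lit 1, nat_lit 0, nat_lit 1]) (TL.leaf [nat_lit 88090, nat_lit 4, nat_lit 9, nat_lit 5, nat_lit 4, nat_lit 5, nat_lit 7, nat_lit 5, nat_lit 4, nat_lit 2, nat_lit 0, nat_lit 9, nat_lit 2, nat_lit 1, nat_lit 5])) (TL.node (TL.leaf [nat_lit 22533, nat_lit 6, nat_lit 2, nat_lit 1, nat_lit 2, nat_lit 6, nat_lit 1]) (TL.leaf [nat_lit 65537, nat_lit 8, nat_lit 1, nat_lit 3, nat_lit 1, nat_lit 0, nat_lit 8, nat_lit 1, nat_lit 0, nat_lit 3, nat_lit 1]))) (TL.node (TL.node (TL.leaf [nat_lit 86017, nat_lit 9, nat_lit 3, nat_lit 9, nat_lit 3, nat_lit 7]) (TL.leaf [nat_lit 94231, nat_lit 7, nat_lit 2, nat_lit 5, nat_lit 3, nat_lit 9, nat_lit 4, nat_lit 9, nat_lit 3, nat_lit 2, nat_lit 9, nat_lit 4, nat_lit 9, nat_lit 2, nat_lit 6, nat_lit 2])) (TL.node (TL.leaf [nat_lit 49172, nat_lit 5, nat_lit 7, nat_lit 1, nat_lit 5, nat_lit 4, nat_lit 5, nat_lit 4, nat_lit 7, nat_lit 5, nat_lit 4, nat_lit 7])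 (TL.leaf [nat_lit 67587, nat_lit 5, nat_lit 2, nat_lit 7, nat_lit 1, nat_lit 8, nat_lit 1, nat_lit 7, nat_lit 2, nat_lit 5, nat_lit 8])))) (TL.node (TL.node (TL.node (TL.leaf [nat_lit 14337, nat_lit 6, nat_lit 5, nat_lit 5]) (TL.leaf [nat_lit 45057, nat_lit 7, nat_lit 1, nat_lit 3, nat_lit 2, nat_lit 1, nat_lit 7, nat_lit 6, nat_lit 1, nat_lit 5])) (TL.node (TL.leaf [nat_lit 36867, nat_lit 7, nat_lit 2, nat_lit 7, nat_lit 2, nat_lit 7, nat_lit 2]) (TL.leaf [nat_lit 100362, nat_lit 6, nat_lit 8, nat_lit 3, nat_lit 8, nat_lit 1, nat_lit 6, nat_lit 0, nat_lit 9, nat_lit 2, nat_lit 1, nat_lit 8, nat_lit 6, nat_lit 7, nat_lit 8, nat_lit 2, nat_lit 4, nat_lit 9, nat_lit 2, nat_lit 3, nat_lit 4, nat_lit 8]))) (TL.node (TL.node (TL.leaf [nat_lit 30731, nat_lit 1, nat_lit 4, nat_lit 5, nat_lit 1, nat_lit 6, nat_lit 4]) (TL.leaf [nat_lit 40963, nat_lit 7, nat_lit 5, nat_lit 7, nat_lit 5, nat_lit 7, nat_lit 5,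 nat_lit 7, nat_lit 5, nat_lit 7, nat_lit 5])) (TL.node (TL.leaf [nat_lit 88069, nat_lit 5, nat_lit 1, nat_lit 2, nat_lit 9, nat_lit 0, nat_lit 2, nat_lit 4, nat_lit 6, nat_lit 7, nat_lit 6, nat_lit 4, nat_lit 6, nat_lit 9, nat_lit 4]) (TL.leaf [nat_lit 102401, nat_lit 9, nat_lit 2, nat_lit 9, nat_lit 5, nat_lit 8, nat_lit 2, nat_lit 5, nat_lit 8, nat_lit 2, nat_lit 9, nat_lit 2, nat_lit 9, nat_lit 7, nat_lit 6, nat_lit 8, nat_lit 6, nat_lit 8, nat_lit 7]))))) (TL.node (TL.node (TL.node (TL.node (TL.leaf [nat_lit 90117, nat_lit 9, nat_lit 6, nat_lit 9, nat_lit 4, nat_lit 3, nat_lit 7, nat_lit 4, nat_lit 7, nat_lit 5, nat_lit 3, nat_lit 9, nat_lit 5]) (TL.leaf [nat_lit 94219, nat_lit 9, nat_lit 4, nat_lit 9, nat_lit 2, nat_lit 6, nat_lit 2, nat_lit 7, nat_lit 2, nat_lit 5, nat_lit 3, nat_lit 9, nat_lit 4, nat_lit 9, nat_lit 3, nat_lit 2])) (TL.node (TL.leaf [nat_lit 30729, nat_lit 4, nat_lit 1, nat_lit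 4, nat_lit 5, nat_lit 1, nat_lit 6]) (TL.leaf [nat_lit 100357, nat_lit 2, nat_lit 8, nat_lit 7, nat_lit 5, nat_lit 8, nat_lit 1, nat_lit 2, nat_lit 9, nat_lit 0, nat_lit 5, nat_lit 1, nat_lit 8, nat_lit 3, nat_lit 8, nat_lit 6, nat_lit 8, nat_lit 4, nat_lit 3, nat_lit 2, nat_lit 9, nat_lit 4]))) (TL.node (TL.node (TL.leaf [nat_lit 63492, nat_lit 3, nat_lit 0, nat_lit 8, nat_lit 3, nat_lit 2, nat_lit 0, nat_lit 8, nat_lit 2]) (TL.leaf [nat_lit 65553, nat_lit 3, nat_lit 1, nat_lit 8, nat_lit 1, nat_lit 3, nat_lit 1, nat_lit 0, nat_lit 8, nat_lit 1, nat_lit 0])) (TL.node (TL.leaf [nat_lit 73744, nat_lit 2, nat_lit 6, nat_lit 8, nat_lit 1, nat_lit 8, nat_lit 7, nat_lit 4, nat_lit 7, nat_lit 4, nat_lit 8, nat_lit 1, nat_lit 8]) (TL.leaf [nat_lit 102417, nat_lit 2, nat_lit 9, nat_lit 2, nat_lit 9, nat_lit 7, nat_lit 6, nat_lit 8, nat_lit 6, nat_lit 8, nat_lit 7, nat_lit 9, nat_lit 2, nat_lit 9, nat_lit 5,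 nat_lit 8, nat_lit 2, nat_lit 5, nat_lit 8])))) (TL.node (TL.node (TL.node (TL.leaf [nat_lit 18433, nat_lit 6, nat_lit 0, nat_lit 6, nat_lit 0]) (TL.leaf [nat_lit 71712, nat_lit 0, nat_lit 8, nat_lit 4, nat_lit 1, nat_lit 7, nat_lit 4, nat_lit 3, nat_lit 2, nat_lit 4, nat_lit 2, nat_lit 0, nat_lit 1, nat_lit 8, nat_lit 0, nat_lit 6, nat_lit 8, nat_lit 6])) (TL.node (TL.leaf [nat_lit 88075, nat_lit 9, nat_lit 0, nat_lit 2, nat_lit 4, nat_lit 6, nat_lit 7, nat_lit 6, nat_lit 4, nat_lit 6, nat_lit 9, nat_lit 4, nat_lit 6, nat_lit 1, nat_lit 2]) (TL.leaf [nat_lit 63498, nat_lit 3, nat_lit 2, nat_lit 0, nat_lit 8, nat_lit 2, nat_lit 3, nat_lit 0, nat_lit 8]))) (TL.node (TL.node (TL.leaf [nat_lit 32769, nat_lit 6, nat_lit 2, nat_lit 4, nat_lit 6, nat_lit 3, nat_lit 4, nat_lit 3, nat_lit 1, nat_lit 2, nat_lit 1]) (TL.leaf [nat_lit 98335, nat_lit 8, nat_lit 5, nat_lit 9, nat_lit 2, nat_lit 7, nat_lit 8, nat_lit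 6, nat_lit 8, nat_lit 4, nat_lit 6, nat_lit 9, nat_lit 7, nat_lit 4, nat_lit 5, nat_lit 8, nat_lit 5, nat_lit 1])) (TL.leaf [nat_lit 45069, nat_lit 5, nat_lit 1, nat_lit 5, nat_lit 7, nat_lit 1, nat_lit 3, nat_lit 2, nat_lit 1, nat_lit 7]))))))
def W_t6 : TL := (TL.node W_t4 W_t5)
def W_t : TL := (TL.node W_t3 W_t6)
noncomputable def W (i : ℕ) : List ℕ := TL.get W_t i
def WA_t : TL := (TL.leaf [nat_lit 0])
noncomputable def WA (i : ℕ) : List ℕ := TL.get WA_t i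
noncomputable def row : ℕ → ℕ := hRow (nat_lit 350) (nat_lit 10) (nat_lit 9) (nat_lit 512) (nat_lit 512) (nat_lit 262144) (nat_lit 8192) (nat_lit 8192) (nat_lit 0) E X Pa inv (wfun (nat_lit 255) W_t)
noncomputable def aux : ℕ → ℕ := hAux (nat_lit 351) (nat_lit 10) (nat_lit 512) (nat_lit 262144) (nat_lit 8192) (nat_lit 2) (nat_lit 2) (nat_lit 8192) (nat_lit 0) E X J Pa inv WA_t.get
theorem r0 : Nat.beq (rng row (nat_lit 0) (nat_lit 351)) (nat_lit 0) = true := by decide +kernel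
theorem rows : ∀ i < 351, row i = 0 := by
  have h := zero_lt_zero row
  have h := zero_lt_add (a := (nat_lit 0)) (n := (nat_lit 351)) (b := (nat_lit 351)) h r0 rfl
  exact h
theorem auxs : ∀ i < 0, aux i = 0 := by
  have h := zero_lt_zero aux
  exact h
theorem closes.{u} : ClosesT.{u} inv rels 10 9 351 T :=
  hc_closes (N1 := (nat_lit 350)) rfl T_eq (by decide +kernel) rows auxs
theorem T_inv : ∀ c < 351, ∀ j < 10, T j c < 351 ∧ T (inv j) (T j c) = c := 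
  hc_inv (inv := inv) (N1 := (nat_lit 350)) rfl T_eq rows
end L6

def rels : List (List ℕ) := [[nat_lit 0, nat_lit 1, nat_lit 0, nat_lit 1], [nat_lit 0, nat_lit 2, nat_lit 0, nat_lit 2], [nat_lit 0, nat_lit 3, nat_lit 0, nat_lit 3], [nat_lit 1, nat_lit 2, nat_lit 1, nat_lit 2, nat_lit 1, nat_lit 2, nat_lit 1, nat_lit 2], [nat_lit 1, nat_lit 3, nat_lit 1, nat_lit 3, nat_lit 1, nat_lit 3], [nat_lit 2, nat_lit 3, nat_lit 2, nat_lit 3], [nat_lit 1, nat_lit 2, nat_lit 3, nat_lit 1, nat_lit 2, nat_lit 3, nat_lit 1, nat_lit 2, nat_lit 3], [nat_lit 5, nat_lit 5, nat_lit 5], [nat_lit 0, nat_lit 4, nat_lit 0, nat_lit 4], [nat_lit 5, nat_lit 0, nat_lit 6, nat_lit 0], [nat_lit 5, nat_lit 3, nat_lit 2, nat_lit 6, nat_lit 3], [nat_lit 6, nat_lit 1, nat_lit 5, nat_lit 2, nat_lit 1, nat_lit 2], [nat_lit 4, nat_lit 1, nat_lit 2, nat_lit 1, nat_lit 4, nat_lit 1, nat_lit 2, nat_lit 1], [nat_lit 4, nat_lit 1, nat_lit 3,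 nat_lit 1, nat_lit 4, nat_lit 1, nat_lit 3, nat_lit 1], [nat_lit 4, nat_lit 2, nat_lit 5, nat_lit 4, nat_lit 6, nat_lit 1, nat_lit 2, nat_lit 1, nat_lit 2], [nat_lit 4, nat_lit 5, nat_lit 1, nat_lit 6, nat_lit 4, nat_lit 1], [nat_lit 5, nat_lit 2, nat_lit 4, nat_lit 6, nat_lit 3, nat_lit 4, nat_lit 3, nat_lit 1, nat_lit 2, nat_lit 1], [nat_lit 0, nat_lit 7, nat_lit 0, nat_lit 7], [nat_lit 2, nat_lit 7, nat_lit 2, nat_lit 7, nat_lit 2, nat_lit 7], [nat_lit 3, nat_lit 7, nat_lit 3, nat_lit 7], [nat_lit 5, nat_lit 7, nat_lit 5, nat_lit 7, nat_lit 5, nat_lit 7, nat_lit 5, nat_lit 7, nat_lit 5, nat_lit 7], [nat_lit 1, nat_lit 3, nat_lit 7, nat_lit 1, nat_lit 3, nat_lit 7, nat_lit 1, nat_lit 3, nat_lit 7], [nat_lit 7, nat_lit 1, nat_lit 3, nat_lit 2, nat_lit 1, nat_lit 7, nat_lit 6, nat_lit 1, nat_lit 5], [nat_lit 7, nat_lit 2, nat_lit 4, nat_lit 6, nat_lit 1, nat_lit 7, nat_lit 3, nat_lit 1, nat_lit 5, nat_lit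 4, nat_lit 2, nat_lit 3], [nat_lit 7, nat_lit 5, nat_lit 7, nat_lit 4, nat_lit 6, nat_lit 7, nat_lit 4, nat_lit 6, nat_lit 4, nat_lit 6, nat_lit 1], [nat_lit 7, nat_lit 1, nat_lit 2, nat_lit 6, nat_lit 4, nat_lit 5, nat_lit 7, nat_lit 1, nat_lit 3, nat_lit 1, nat_lit 6, nat_lit 4, nat_lit 5], [nat_lit 7, nat_lit 1, nat_lit 4, nat_lit 1, nat_lit 6, nat_lit 4, nat_lit 7, nat_lit 1, nat_lit 4, nat_lit 5, nat_lit 4, nat_lit 1], [nat_lit 0, nat_lit 8, nat_lit 0, nat_lit 8, nat_lit 0, nat_lit 8], [nat_lit 4, nat_lit 8, nat_lit 4, nat_lit 8], [nat_lit 0, nat_lit 1, nat_lit 8, nat_lit 0, nat_lit 1, nat_lit 8, nat_lit 0, nat_lit 1, nat_lit 8], [nat_lit 2, nat_lit 7, nat_lit 8, nat_lit 2, nat_lit 7, nat_lit 8, nat_lit 2, nat_lit 7, nat_lit 8, nat_lit 2, nat_lit 7, nat_lit 8], [nat_lit 8, nat_lit 0, nat_lit 2, nat_lit 3, nat_lit 8, nat_lit 0, nat_lit 3, nat_lit 2], [nat_lit 8, nat_lit 1, nat_lit 3, nat_lit 1, nat_lit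 0, nat_lit 8, nat_lit 1, nat_lit 0, nat_lit 3, nat_lit 1], [nat_lit 8, nat_lit 6, nat_lit 2, nat_lit 7, nat_lit 1, nat_lit 8, nat_lit 1, nat_lit 7, nat_lit 2, nat_lit 5], [nat_lit 8, nat_lit 7, nat_lit 6, nat_lit 1, nat_lit 7, nat_lit 8, nat_lit 7, nat_lit 1, nat_lit 5, nat_lit 7], [nat_lit 8, nat_lit 0, nat_lit 5, nat_lit 8, nat_lit 5, nat_lit 0, nat_lit 8, nat_lit 1, nat_lit 0, nat_lit 2, nat_lit 4, nat_lit 2, nat_lit 3, nat_lit 4, nat_lit 7, nat_lit 1, nat_lit 4], [nat_lit 8, nat_lit 1, nat_lit 8, nat_lit 5, nat_lit 2, nat_lit 8, nat_lit 1, nat_lit 8, nat_lit 4, nat_lit 7, nat_lit 4, nat_lit 7], [nat_lit 0, nat_lit 9, nat_lit 0, nat_lit 9], [nat_lit 7, nat_lit 9, nat_lit 7, nat_lit 9], [nat_lit 8, nat_lit 9, nat_lit 8, nat_lit 9], [nat_lit 1, nat_lit 7, nat_lit 9, nat_lit 1, nat_lit 7, nat_lit 9], [nat_lit 5, nat_lit 9, nat_lit 7, nat_lit 5, nat_lit 9, nat_lit 7, nat_lit 5, nat_lit 9, nat_lit 7, nat_lit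 5, nat_lit 9, nat_lit 7, nat_lit 5, nat_lit 9, nat_lit 7], [nat_lit 9, nat_lit 3, nat_lit 9, nat_lit 3, nat_lit 7], [nat_lit 9, nat_lit 4, nat_lit 6, nat_lit 1, nat_lit 2, nat_lit 9, nat_lit 0, nat_lit 2, nat_lit 4, nat_lit 6, nat_lit 7, nat_lit 6, nat_lit 4, nat_lit 6], [nat_lit 9, nat_lit 5, nat_lit 9, nat_lit 6, nat_lit 9, nat_lit 4, nat_lit 3, nat_lit 7, nat_lit 4, nat_lit 7, nat_lit 5, nat_lit 3], [nat_lit 9, nat_lit 6, nat_lit 4, nat_lit 6, nat_lit 4, nat_lit 9, nat_lit 4, nat_lit 5, nat_lit 4, nat_lit 7, nat_lit 6, nat_lit 7, nat_lit 5, nat_lit 7], [nat_lit 9, nat_lit 4, nat_lit 9, nat_lit 3, nat_lit 2, nat_lit 9, nat_lit 4, nat_lit 9, nat_lit 2, nat_lit 6, nat_lit 2, nat_lit 7, nat_lit 2, nat_lit 5, nat_lit 3], [nat_lit 9, nat_lit 2, nat_lit 1, nat_lit 9, nat_lit 6, nat_lit 4, nat_lit 9, nat_lit 1, nat_lit 2, nat_lit 9, nat_lit 1, nat_lit 5, nat_lit 7, nat_lit 5, nat_lit 3, nat_lit 4, nat_lit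 6], [nat_lit 9, nat_lit 2, nat_lit 7, nat_lit 8, nat_lit 6, nat_lit 8, nat_lit 4, nat_lit 6, nat_lit 9, nat_lit 7, nat_lit 4, nat_lit 5, nat_lit 8, nat_lit 5, nat_lit 1, nat_lit 8, nat_lit 5], [nat_lit 9, nat_lit 4, nat_lit 2, nat_lit 8, nat_lit 7, nat_lit 5, nat_lit 8, nat_lit 1, nat_lit 2, nat_lit 9, nat_lit 0, nat_lit 5, nat_lit 1, nat_lit 8, nat_lit 3, nat_lit 8, nat_lit 6, nat_lit 8, nat_lit 4, nat_lit 3, nat_lit 2], [nat_lit 9, nat_lit 2, nat_lit 9, nat_lit 5, nat_lit 8, nat_lit 2, nat_lit 5, nat_lit 8, nat_lit 2, nat_lit 9, nat_lit 2, nat_lit 9, nat_lit 7, nat_lit 6, nat_lit 8, nat_lit 6, nat_lit 8, nat_lit 7]]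
def inv (i : ℕ) : ℕ := Nat.land (Nat.shiftRight (nat_lit 0x9875643210) (Nat.mul (nat_lit 4) i)) (nat_lit 15)
theorem ub2 {Γ : Type} [Group Γ] {g : ℕ → Γ} (h1 : InvOK g inv 10) (h2 : ∀ w ∈ rels, ev g w = 1) : CardLE (gen g 2) 4 :=
  tw h1 h2 L1.closes (by decide +kernel) (cardLE_gen_zero g)
theorem ub4 {Γ : Type} [Group Γ] {g : ℕ → Γ} (h1 : InvOK g inv 10) (h2 : ∀ w ∈ rels, ev g w = 1) : CardLE (gen g 4) 48 :=
  tw h1 h2 L2.closes (by decide +kernel) (ub2 h1 h2)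
theorem ub7 {Γ : Type} [Group Γ] {g : ℕ → Γ} (h1 : InvOK g inv 10) (h2 : ∀ w ∈ rels, ev g w = 1) : CardLE (gen g 7) 2304 :=
  tw h1 h2 L3.closes (by decide +kernel) (ub4 h1 h2)
theorem ub8 {Γ : Type} [Group Γ] {g : ℕ → Γ} (h1 : InvOK g inv 10) (h2 : ∀ w ∈ rels, ev g w = 1) : CardLE (gen g 8) 103680 :=
  tw h1 h2 L4.closes (by decide +kernel) (ub7 h1 h2)
theorem ub9 {Γ : Type} [Group Γ] {g : ℕ → Γ} (h1 : InvOK g inv 10) (h2 : ∀ w ∈ rels, ev g w = 1) : CardLE (gen g 9) 13063680 :=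
  tw h1 h2 L5.closes (by decide +kernel) (ub8 h1 h2)
theorem ub10 {Γ : Type} [Group Γ] {g : ℕ → Γ} (h1 : InvOK g inv 10) (h2 : ∀ w ∈ rels, ev g w = 1) : CardLE (gen g 10) 4585351680 :=
  tw h1 h2 L6.closes (by decide +kernel) (ub9 h1 h2)

end Cfsg.Agent.Ct.O73
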